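import Groth.Agent.Lib.Lead.Hor.HorK

/-!
# Lattice pairs over a local ring: splitting off a unimodular section
-/

set_option autoImplicit false
set_option linter.style.haveILetI false

namespace Groth.Agent.Lib.Lead.Hor

open Polynomial LaurentPolynomial

section transfer
variable {A : Type*} [CommRing A] {K : Type*} [CommRing K] (f : A →+* K)
variable {L : Type*} [AddCommGroup L] [Module A[T;T⁻¹] L] (P : LatPair A L)

/-- coordinates of `x` reduced along `f` -/
noncomputable def piFun (x : L) : Fin P.nM → K[T;T⁻¹] := fun i => rho f (P.φ i x)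

lemma piFun_add (x y : L) : piFun f P (x + y) = piFun f P x + piFun f P y := by
  funext i; simp [piFun, map_add]

lemma piFun_zero : piFun f P 0 = 0 := by funext i; simp [piFun]

lemma piFun_smul (a : A[T;T⁻¹]) (x : L) : piFun f P (a • x) = rho f a • piFun f P x := by
  funext i; simp [piFun, map_smul, map_mul]

variable (hf : Function.Surjective f)

/-- the reduction of `L` along `f`, realised inside `K[T;T⁻¹]^nM` -/
noncomputable def Lbar : Submodule K[T;T⁻¹] (Fin P.nM → K[T;T⁻¹]) where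
  carrier := Set.range (piFun f P)
  add_mem' := by
    rintro _ _ ⟨x, rfl⟩ ⟨y, rfl⟩; exact ⟨x + y, piFun_add f P x y⟩
  zero_mem' := ⟨0, piFun_zero f P⟩
  smul_mem' := by
    rintro c _ ⟨x, rfl⟩
    obtain ⟨a, rfl⟩ := rho_surjective f hf c
    exact ⟨a • x, piFun_smul f P a x⟩

/-- the reduction map -/
noncomputable def piL : L →+ Lbar f P hf where
  toFun x := ⟨piFun f P x, x, rfl⟩
  map_zero' := Subtype.ext (piFun_zero f P)
  map_add' x y := Subtype.ext (piFun_add f P x y)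

lemma piL_smul (a : A[T;T⁻¹]) (x : L) : piL f P hf (a • x) = rho f a • piL f P hf x :=
  Subtype.ext (piFun_smul f P a x)

lemma piL_surjective : Function.Surjective (piL f P hf) := by
  rintro ⟨_, x, rfl⟩; exact ⟨x, rfl⟩

lemma piL_eq_zero_iff (x : L) : piL f P hf x = 0 ↔ ∀ i, rho f (P.φ i x) = 0 := by
  constructor
  · intro h i
    have := congrArg (fun v : Lbar f P hf => (v : Fin P.nM → K[T;T⁻¹]) i) h
    exact this
  · intro h
    exact Subtype.ext (funext h)

/-- reduced `φ` -/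
noncomputable def phibar (i : Fin P.nM) : Lbar f P hf →ₗ[K[T;T⁻¹]] K[T;T⁻¹] :=
  (LinearMap.proj i).comp (Lbar f P hf).subtype

/-- reduced `ψ` -/
noncomputable def psibar (l : Fin P.nN) : Lbar f P hf →ₗ[K[T;T⁻¹]] K[T;T⁻¹] :=
  (∑ j, rho f (P.ψ l (P.m j)) •
    (LinearMap.proj j : (Fin P.nM → K[T;T⁻¹]) →ₗ[K[T;T⁻¹]] K[T;T⁻¹])).comp (Lbar f P hf).subtype

lemma phibar_piL (i : Fin P.nM) (x : L) : phibar f P hf i (piL f P hf x) = rho f (P.φ i x) := rfl

lemma psibar_piL (l : Fin P.nN) (x : L) : psibar f P hf l (piL f P hf x) = rho f (P.ψ l x) := by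
  simp only [psibar, LinearMap.comp_apply, Submodule.subtype_apply, LinearMap.sum_apply,
    LinearMap.smul_apply, LinearMap.proj_apply, smul_eq_mul]
  rw [P.apply_eq_sum_m (P.ψ l) x, map_sum]
  refine Finset.sum_congr rfl fun j _ => ?_
  rw [map_mul, mul_comm]; rfl

/-- the reduced lattice pair -/
noncomputable def Pbar : LatPair K (Lbar f P hf) where
  nM := P.nM
  nN := P.nN
  m i := piL f P hf (P.m i)
  φ i := phibar f P hf i
  n l := piL f P hf (P.n l)
  ψ l := psibar f P hf l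
  φm i j := by rw [phibar_piL]; exact isT_rho f (P.φm i j)
  ψn l k := by rw [psibar_piL]; exact isS_rho f (P.ψn l k)
  recM v := by
    obtain ⟨x, rfl⟩ := piL_surjective f P hf v
    conv_rhs => rw [← P.recM x]
    rw [map_sum]
    exact Finset.sum_congr rfl fun i _ => by rw [piL_smul, phibar_piL]
  recN v := by
    obtain ⟨x, rfl⟩ := piL_surjective f P hf v
    conv_rhs => rw [← P.recN x]
    rw [map_sum]
    exact Finset.sum_congr rfl fun i _ => by rw [piL_smul, psibar_piL]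

lemma Pbar_φ_piL (i : Fin P.nM) (x : L) :
    (Pbar f P hf).φ i (piL f P hf x) = rho f (P.φ i x) := rfl

lemma Pbar_ψ_piL (l : Fin P.nN) (x : L) :
    (Pbar f P hf).ψ l (piL f P hf x) = rho f (P.ψ l x) := psibar_piL f P hf l x

lemma exists_inM_lift {v : Lbar f P hf} (hv : (Pbar f P hf).InM v) :
    ∃ x, P.InM x ∧ piL f P hf x = v := by
  have hc : ∀ i, ∃ c : A[T;T⁻¹], IsT c ∧ rho f c = (Pbar f P hf).φ i v :=
    fun i => exists_isT_rho_eq f hf (hv i)
  choose c hcT hc using hc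
  refine ⟨∑ i, c i • P.m i, P.inM_sum _ _ fun i _ => P.inM_smul (hcT i) (P.inM_m i), ?_⟩
  rw [map_sum]
  conv_rhs => rw [← (Pbar f P hf).recM v]
  refine Finset.sum_congr rfl fun i _ => ?_
  rw [piL_smul, hc i]; rfl

lemma exists_inN_lift {j : ℤ} {v : Lbar f P hf} (hv : (Pbar f P hf).InN j v) :
    ∃ x, P.InN j x ∧ piL f P hf x = v := by
  have hc : ∀ l, ∃ c : A[T;T⁻¹], IsS c ∧ rho f c = T (-j) * (Pbar f P hf).ψ l v :=
    fun l => exists_isS_rho_eq f hf (hv l)
  choose c hcS hc using hc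
  refine ⟨∑ l, c l • ((T j : A[T;T⁻¹]) • P.n l),
    P.inN_sum _ _ fun l _ => P.inN_smul (hcS l) (P.inN_Tn j l), ?_⟩
  rw [map_sum]
  conv_rhs => rw [← (Pbar f P hf).recN v]
  refine Finset.sum_congr rfl fun l _ => ?_
  rw [piL_smul, piL_smul, hc l, rho_T, smul_smul]
  congr 1
  rw [mul_comm (T (-j)) _, mul_assoc, T_mul_T, neg_add_cancel, T_zero, mul_one]

lemma exists_mDual_lift {τ : Lbar f P hf →ₗ[K[T;T⁻¹]] K[T;T⁻¹]} (hτ : (Pbar f P hf).MDual τ) :
    ∃ φz : L →ₗ[A[T;T⁻¹]] A[T;T⁻¹], P.MDual φz ∧ ∀ x, rho f (φz x) = τ (piL f P hf x) := by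
  have hc : ∀ i, ∃ c : A[T;T⁻¹], IsT c ∧ rho f c = τ ((Pbar f P hf).m i) :=
    fun i => exists_isT_rho_eq f hf (hτ i)
  choose c hcT hc using hc
  refine ⟨∑ i, c i • P.φ i, P.mDual_sum _ _ fun i _ => P.mDual_smul (hcT i) (P.mDual_φ i),
    fun x => ?_⟩
  rw [(Pbar f P hf).apply_eq_sum_m τ (piL f P hf x), LinearMap.sum_apply, map_sum]
  refine Finset.sum_congr rfl fun i _ => ?_
  rw [LinearMap.smul_apply, smul_eq_mul, map_mul, hc i, mul_comm]; rfl

lemma exists_nDual_lift {j : ℤ} {τ : Lbar f P hf →ₗ[K[T;T⁻¹]] K[T;T⁻¹]}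
    (hτ : (Pbar f P hf).NDual j τ) :
    ∃ ψz : L →ₗ[A[T;T⁻¹]] A[T;T⁻¹], P.NDual j ψz ∧ ∀ x, rho f (ψz x) = τ (piL f P hf x) := by
  have hc : ∀ l : Fin P.nN, ∃ c : A[T;T⁻¹], IsS c ∧ rho f c = T j * τ (piL f P hf (P.n l)) :=
    fun l => exists_isS_rho_eq f hf (hτ l)
  choose c hcS hc using hc
  refine ⟨∑ l, c l • ((T (-j) : A[T;T⁻¹]) • P.ψ l),
    P.nDual_sum _ _ fun l _ => P.nDual_smul (hcS l) (P.nDual_ψ j l), fun x => ?_⟩
  rw [(Pbar f P hf).apply_eq_sum_n τ (piL f P hf x), LinearMap.sum_apply, map_sum]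
  show ∑ l : Fin P.nN, rho f ((c l • ((T (-j) : A[T;T⁻¹]) • P.ψ l)) x) =
    ∑ l : Fin P.nN, psibar f P hf l (piL f P hf x) * τ (piL f P hf (P.n l))
  refine Finset.sum_congr rfl fun l _ => ?_
  rw [LinearMap.smul_apply, LinearMap.smul_apply, smul_eq_mul, smul_eq_mul, map_mul, map_mul,
    hc l, rho_T, psibar_piL]
  have e : T j * τ (piL f P hf (P.n l)) * (T (-j) * rho f (P.ψ l x)) =
      (T j * T (-j)) * (rho f (P.ψ l x) * τ (piL f P hf (P.n l))) := by ring
  rw [e, T_mul_T, add_neg_cancel, T_zero, one_mul]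

end transfer

section gen
variable {A : Type*} [CommRing A] {L : Type*} [AddCommGroup L] [Module A[T;T⁻¹] L]
  [Module A L] [IsScalarTower A A[T;T⁻¹] L]

lemma smul_eq_C_smul (r : A) (x : L) : r • x = (LaurentPolynomial.C r : A[T;T⁻¹]) • x := by
  rw [LaurentPolynomial.C_eq_algebraMap, algebraMap_smul]

lemma smul_mem_smul_top_of_coeff_mem {I : Ideal A} {a : A[T;T⁻¹]} (ha : ∀ d, a.coeff d ∈ I)
    (y : L) : a • y ∈ I • (⊤ : Submodule A L) := by
  have e : a = ∑ d ∈ a.coeff.support, (LaurentPolynomial.C (a.coeff d) * T d : A[T;T⁻¹]) := by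
    conv_lhs => rw [← AddMonoidAlgebra.sum_coeff_single a]
    rw [Finsupp.sum]
    exact Finset.sum_congr rfl fun d _ => LaurentPolynomial.single_eq_C_mul_T _ _
  rw [e, Finset.sum_smul]
  refine Submodule.sum_mem _ fun d _ => ?_
  rw [mul_smul, ← smul_eq_C_smul]
  exact Submodule.smul_mem_smul (ha d) trivial

end gen

section loc
variable {A : Type*} [CommRing A] [IsLocalRing A]
open IsLocalRing

lemma mem_smul_top_of_coeff_mem {p : A[X]} (hp : ∀ n, p.coeff n ∈ maximalIdeal A) :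
    p ∈ (maximalIdeal A) • (⊤ : Submodule A A[X]) := by
  rw [← Polynomial.sum_monomial_eq p]
  unfold Polynomial.sum
  refine Submodule.sum_mem _ fun n _ => ?_
  show Polynomial.monomial n (p.coeff n) ∈ _
  rw [← Polynomial.C_mul_X_pow_eq_monomial, ← Polynomial.smul_eq_C_mul]
  exact Submodule.smul_mem_smul (hp n) trivial

lemma span_pair_eq_top {g₀ F₁ : A[X]} (hg : g₀.map (residue A) = 1) (hF : F₁.Monic) :
    Ideal.span {g₀, F₁} = ⊤ := by
  obtain ⟨J, hJ⟩ : ∃ J : Ideal A[X], J = Ideal.span {g₀, F₁} := ⟨_, rfl⟩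
  rw [← hJ]
  have hgJ : g₀ ∈ J := by rw [hJ]; exact Ideal.subset_span (by simp)
  have hFJ : F₁ ∈ J := by rw [hJ]; exact Ideal.subset_span (by simp)
  let J' : Submodule A A[X] := J.restrictScalars A
  let N' : Submodule A A[X] := Polynomial.degreeLT A F₁.natDegree
  have hfg : N'.FG := by
    have : Module.Finite A N' :=
      Module.Finite.equiv (Polynomial.degreeLTEquiv A F₁.natDegree).symm
    exact Module.Finite.iff_fg.mp this
  have h1 : (⊤ : Submodule A A[X]) ≤ J' ⊔ N' := by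
    intro p _
    rw [← Polynomial.modByMonic_add_div p F₁]
    apply Submodule.add_mem
    · apply Submodule.mem_sup_right
      show p %ₘ F₁ ∈ Polynomial.degreeLT A F₁.natDegree
      rw [Polynomial.mem_degreeLT, ← Polynomial.degree_eq_natDegree hF.ne_zero]
      exact Polynomial.degree_modByMonic_lt p hF
    · apply Submodule.mem_sup_left
      show F₁ * (p /ₘ F₁) ∈ J
      exact J.mul_mem_right _ hFJ
  have h2 : N' ≤ J' ⊔ (maximalIdeal A) • N' := by
    intro r _
    have e : r = g₀ * r + (1 - g₀) * r := by ring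
    have hm : (1 - g₀) * r ∈ (maximalIdeal A) • (⊤ : Submodule A A[X]) := by
      apply mem_smul_top_of_coeff_mem
      have h3 : (1 - g₀) * r ∈ Ideal.map Polynomial.C (maximalIdeal A) := by
        apply Ideal.mul_mem_right
        rw [Ideal.mem_map_C_iff]
        intro n
        rw [← residue_eq_zero_iff, ← Polynomial.coeff_map, Polynomial.map_sub, Polynomial.map_one,
          hg, sub_self, Polynomial.coeff_zero]
      exact Ideal.mem_map_C_iff.mp h3
    have h4 : (maximalIdeal A) • (⊤ : Submodule A A[X]) ≤ J' ⊔ (maximalIdeal A) • N' := by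
      calc (maximalIdeal A) • (⊤ : Submodule A A[X]) ≤ (maximalIdeal A) • (J' ⊔ N') :=
            Submodule.smul_mono le_rfl h1
        _ = (maximalIdeal A) • J' ⊔ (maximalIdeal A) • N' := Submodule.smul_sup _ _ _
        _ ≤ _ := sup_le_sup_right Submodule.smul_le_right _
    rw [e]
    apply Submodule.add_mem
    · apply Submodule.mem_sup_left
      show g₀ * r ∈ J
      exact J.mul_mem_right _ hgJ
    · exact h4 hm
  have h3 : N' ≤ J' := Submodule.le_of_le_smul_of_le_jacobson_bot hfg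
    (maximalIdeal_le_jacobson ⊥) h2
  have h4 : (1 : A[X]) ∈ J' := (h1.trans (sup_le le_rfl h3)) trivial
  exact (Ideal.eq_top_iff_one J).mpr h4

lemma lemmaU {g h : A[T;T⁻¹]} (hg : IsT g) (hg1 : rho (residue A) g = 1) (hh : IsS h)
    (hh1 : rho (residue A) h = 1) :
    ∃ c₀ : ℕ, ∀ c : ℤ, (c₀ : ℤ) ≤ c → ∃ u v, IsT u ∧ IsT v ∧ u * g + v * (T c * h) = 1 := by
  obtain ⟨g₀, rfl⟩ := exists_of_isT hg
  obtain ⟨h₀, hh₀⟩ := exists_of_isT (isS_iff_isT_invert.mp hh)
  have hh' : h = invert (toLaurent h₀) := by rw [hh₀]; exact (involutive_invert h).symm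
  have hg₀ : g₀.map (residue A) = 1 := by
    apply Polynomial.toLaurent_injective
    rw [← rho_toLaurent, hg1, map_one]
  have hh₀1 : h₀.map (residue A) = 1 := by
    apply Polynomial.toLaurent_injective
    rw [← rho_toLaurent, hh₀, rho_invert, hh1, map_one, map_one]
  have hunit : IsUnit (h₀.coeff 0) := by
    have h1 : residue A (h₀.coeff 0) = 1 := by
      rw [← Polynomial.coeff_map, hh₀1, Polynomial.coeff_one_zero]
    by_contra hnu
    have hm : h₀.coeff 0 ∈ maximalIdeal A := (mem_maximalIdeal _).mpr hnu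
    have h0 : residue A (h₀.coeff 0) = 0 := (residue_eq_zero_iff _).mpr hm
    rw [h1] at h0
    exact one_ne_zero h0
  refine ⟨h₀.natDegree, fun c hc => ?_⟩
  obtain ⟨k, hk⟩ : ∃ k : ℕ, c = h₀.natDegree + k := ⟨(c - h₀.natDegree).toNat, by omega⟩
  obtain ⟨F₀, hF₀⟩ : ∃ F₀ : A[X], F₀ = h₀.reverse * X ^ k := ⟨_, rfl⟩
  have hF : T c * h = toLaurent F₀ := by
    rw [hF₀, map_mul, Polynomial.toLaurent_X_pow, toLaurent_reverse, hh', hk, T_add]; ring
  have hlead : F₀.leadingCoeff = h₀.coeff 0 := by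
    rw [hF₀, Polynomial.leadingCoeff_mul_X_pow, Polynomial.reverse_leadingCoeff,
      Polynomial.trailingCoeff_eq_coeff_zero hunit.ne_zero]
  obtain ⟨w, hw⟩ := hunit
  have hmonic : (Polynomial.C (↑w⁻¹ : A) * F₀).Monic :=
    Polynomial.monic_C_mul_of_mul_leadingCoeff_eq_one (by rw [hlead, ← hw]; exact w.inv_mul)
  have htop := span_pair_eq_top hg₀ hmonic
  have h1 : (1 : A[X]) ∈ Ideal.span {g₀, Polynomial.C (↑w⁻¹ : A) * F₀} := by rw [htop]; trivial
  obtain ⟨u₀, v₀, huv⟩ := Ideal.mem_span_pair.mp h1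
  refine ⟨toLaurent u₀, toLaurent (v₀ * Polynomial.C (↑w⁻¹ : A)), isT_toLaurent _,
    isT_toLaurent _, ?_⟩
  rw [hF, ← map_mul, ← map_mul, ← map_add, ← map_one toLaurent]
  congr 1
  rw [← huv]; ring

lemma exists_annihilator {n : ℕ} (E₀ : Matrix (Fin n) (Fin n) A[X]) (hE : E₀ * E₀ = E₀)
    (hres : ∀ i j, (E₀ i j).map (residue A) = 0) :
    ∃ g₀ : A[X], g₀.map (residue A) = 1 ∧ ∀ i j, g₀ * E₀ i j = 0 := by
  refine ⟨(1 - E₀).det, ?_, ?_⟩
  · have h1 : (Polynomial.mapRingHom (residue A)).mapMatrix (1 - E₀) = 1 := by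
      ext i j
      simp only [RingHom.mapMatrix_apply, Matrix.map_apply, Matrix.sub_apply, map_sub,
        Polynomial.coe_mapRingHom, hres, sub_zero]
      by_cases hij : i = j
      · subst hij; simp
      · simp [Matrix.one_apply_ne hij]
    have := RingHom.map_det (Polynomial.mapRingHom (residue A)) (1 - E₀)
    rw [h1, Matrix.det_one] at this
    exact this
  · have h2 : (1 - E₀) * E₀ = 0 := by rw [sub_mul, one_mul, hE, sub_self]
    have h3 : (1 - E₀).det • E₀ = 0 := by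
      calc (1 - E₀).det • E₀ = ((1 - E₀).det • (1 : Matrix (Fin n) (Fin n) A[X])) * E₀ := by
            rw [Matrix.smul_mul, Matrix.one_mul]
        _ = (Matrix.adjugate (1 - E₀) * (1 - E₀)) * E₀ := by rw [Matrix.adjugate_mul]
        _ = 0 := by rw [Matrix.mul_assoc, h2, Matrix.mul_zero]
    intro i j
    have := congrFun (congrFun h3 i) j
    simpa using this

end loc

end Groth.Agent.Lib.Lead.Hor
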