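import Groth.Agent.Lib.Lead.Hor.HorA1

/-!
# Lattice pairs over a local ring: unimodular sections exist
-/

set_option autoImplicit false
set_option linter.style.haveILetI false

namespace Groth.Agent.Lib.Lead.Hor

open Polynomial LaurentPolynomial IsLocalRing

variable {A : Type*} [CommRing A] [IsLocalRing A]
variable {L : Type*} [AddCommGroup L] [Module A[T;T⁻¹] L] [Module A L]
  [IsScalarTower A A[T;T⁻¹] L]

/-- If the closed fibre is non-zero we can find a common section of `M` and `T^j N`, unimodular in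
both. -/
theorem exists_unimodular (P : LatPair A L)
    (hnt : ¬ ∀ x i, rho (residue A) (P.φ i x) = 0) :
    ∃ (j : ℤ) (σ : L) (φ' ψ' : L →ₗ[A[T;T⁻¹]] A[T;T⁻¹]), P.InM σ ∧ P.InN j σ ∧ P.MDual φ' ∧
      P.NDual j ψ' ∧ φ' σ = 1 ∧ ψ' σ = 1 := by
  classical
  have hf : Function.Surjective (residue A) := residue_surjective
  obtain ⟨f, hfdef⟩ : ∃ f : A →+* ResidueField A, f = residue A := ⟨_, rfl⟩
  rw [← hfdef] at hf hnt
  have hnt' : Nontrivial (Lbar f P hf) := by
    push Not at hnt
    obtain ⟨x, i, hxi⟩ := hnt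
    refine nontrivial_of_ne (piL f P hf x) 0 fun h => hxi ?_
    exact (piL_eq_zero_iff f P hf x).mp h i
  obtain ⟨j, σb, τb, hσM, hσN, hτM, hτN, hτσ, hdec⟩ := exists_good_twist (Pbar f P hf)
  -- A-submodules
  let MA : Submodule A L :=
    { carrier := {x | P.InM x}
      add_mem' := fun hx hy => P.inM_add hx hy
      zero_mem' := P.inM_zero
      smul_mem' := fun r x hx => by
        show P.InM (r • x)
        rw [smul_eq_C_smul]
        exact P.inM_smul (isT_C r) hx }
  let NA : Submodule A L :=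
    { carrier := {x | P.InN j x}
      add_mem' := fun hx hy => P.inN_add hx hy
      zero_mem' := P.inN_zero j
      smul_mem' := fun r x hx => by
        show P.InN j (r • x)
        rw [smul_eq_C_smul]
        exact P.inN_smul (isS_C r) hx }
  have hMA : ∀ x, x ∈ MA ↔ P.InM x := fun x => Iff.rfl
  have hNA : ∀ x, x ∈ NA ↔ P.InN j x := fun x => Iff.rfl
  have hker : ∀ z : L, piL f P hf z = 0 → z ∈ (maximalIdeal A) • (⊤ : Submodule A L) := by
    intro z hz
    rw [piL_eq_zero_iff] at hz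
    rw [← P.recM z]
    refine Submodule.sum_mem _ fun i _ => ?_
    refine smul_mem_smul_top_of_coeff_mem (fun d => ?_) (P.m i)
    have := (rho_eq_zero_iff f _).mp (hz i) d
    rwa [hfdef, ker_residue] at this
  have htop1 : (⊤ : Submodule A L) ≤ (MA ⊔ NA) ⊔ (maximalIdeal A) • (⊤ : Submodule A L) := by
    intro x _
    obtain ⟨ab, bb, hab, hbb, hx⟩ := hdec (piL f P hf x)
    obtain ⟨a, ha, rfl⟩ := exists_inM_lift f P hf hab
    obtain ⟨b, hb, rfl⟩ := exists_inN_lift f P hf hbb
    have hz : piL f P hf (x - a - b) = 0 := by rw [map_sub, map_sub, hx]; abel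
    have : x = (a + b) + (x - a - b) := by abel
    rw [this]
    exact Submodule.add_mem _
      (Submodule.mem_sup_left (Submodule.add_mem_sup ((hMA a).mpr ha) ((hNA b).mpr hb)))
      (Submodule.mem_sup_right (hker _ hz))
  obtain ⟨c, hc⟩ := P.exists_inM_T_smul_fin P.n
  let F : Finset L := (Finset.univ ×ˢ Finset.Ioo j (c : ℤ)).image
    fun p : Fin P.nN × ℤ => (T p.2 : A[T;T⁻¹]) • P.n p.1
  let N' : Submodule A L := Submodule.span A (F : Set L)
  have hN'fg : N'.FG := ⟨F, rfl⟩
  have hmono : ∀ (a : A[T;T⁻¹]) (l : Fin P.nN), a • P.n l ∈ (MA ⊔ NA) ⊔ N' := by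
    intro a l
    induction a using LaurentPolynomial.induction_on' with
    | add p q hp hq => rw [add_smul]; exact Submodule.add_mem _ hp hq
    | C_mul_T d r =>
      rw [mul_smul, ← smul_eq_C_smul]
      apply Submodule.smul_mem
      by_cases h1 : d ≤ j
      · apply Submodule.mem_sup_left; apply Submodule.mem_sup_right
        rw [hNA]
        have : (T d : A[T;T⁻¹]) • P.n l = (T (d - j) : A[T;T⁻¹]) • ((T j : A[T;T⁻¹]) • P.n l) := by
          rw [smul_smul, T_mul_T]; congr 2; ring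
        rw [this]; exact P.inN_smul (isS_T (by omega)) (P.inN_Tn j l)
      · by_cases h2 : (c : ℤ) ≤ d
        · apply Submodule.mem_sup_left; apply Submodule.mem_sup_left
          rw [hMA]
          exact hc l d h2
        · apply Submodule.mem_sup_right
          apply Submodule.subset_span
          rw [Finset.mem_coe, Finset.mem_image]
          refine ⟨(l, d), ?_, rfl⟩
          rw [Finset.mem_product, Finset.mem_Ioo]
          exact ⟨Finset.mem_univ _, by omega, by omega⟩
  have htop2 : (⊤ : Submodule A L) ≤ (MA ⊔ NA) ⊔ N' := by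
    intro x _
    rw [← P.recN x]
    exact Submodule.sum_mem _ fun l _ => hmono _ l
  have hNN : N' ≤ (MA ⊔ NA) ⊔ (maximalIdeal A) • N' := by
    have h3 : (maximalIdeal A) • (⊤ : Submodule A L) ≤ (MA ⊔ NA) ⊔ (maximalIdeal A) • N' := by
      calc (maximalIdeal A) • (⊤ : Submodule A L)
          ≤ (maximalIdeal A) • ((MA ⊔ NA) ⊔ N') := Submodule.smul_mono le_rfl htop2
        _ = (maximalIdeal A) • (MA ⊔ NA) ⊔ (maximalIdeal A) • N' := Submodule.smul_sup _ _ _
        _ ≤ _ := sup_le_sup_right Submodule.smul_le_right _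
    exact le_top.trans (htop1.trans (sup_le le_sup_left h3))
  have hN'S : N' ≤ MA ⊔ NA :=
    Submodule.le_of_le_smul_of_le_jacobson_bot hN'fg (maximalIdeal_le_jacobson ⊥) hNN
  have hS : ∀ x : L, x ∈ MA ⊔ NA := fun x => (htop2.trans (sup_le le_rfl hN'S)) trivial
  -- lift σ
  obtain ⟨a₀, ha₀, ha₀σ⟩ := exists_inM_lift f P hf hσM
  obtain ⟨b₀, hb₀, hb₀σ⟩ := exists_inN_lift f P hf hσN
  have hz : a₀ - b₀ ∈ (maximalIdeal A) • (MA ⊔ NA) := by
    have h1 := hker (a₀ - b₀) (by rw [map_sub, ha₀σ, hb₀σ, sub_self])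
    have : (⊤ : Submodule A L) = MA ⊔ NA := (eq_top_iff.mpr fun x _ => hS x).symm
    rwa [this] at h1
  rw [Submodule.smul_sup] at hz
  obtain ⟨a', ha', b', hb', hab'⟩ := Submodule.mem_sup.mp hz
  have ha'2 : P.InM a' ∧ piL f P hf a' = 0 := by
    refine Submodule.smul_induction_on ha' (fun r hr x hx => ?_)
      (fun x y hx hy => ⟨P.inM_add hx.1 hy.1, by rw [map_add, hx.2, hy.2, add_zero]⟩)
    rw [smul_eq_C_smul]
    refine ⟨P.inM_smul (isT_C r) ((hMA x).mp hx), ?_⟩
    have hfr : f r = 0 := by rw [hfdef]; exact (residue_eq_zero_iff r).mpr hr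
    rw [piL_smul, rho_C, hfr, map_zero, zero_smul]
  have hb'2 : P.InN j b' ∧ piL f P hf b' = 0 := by
    refine Submodule.smul_induction_on hb' (fun r hr x hx => ?_)
      (fun x y hx hy => ⟨P.inN_add hx.1 hy.1, by rw [map_add, hx.2, hy.2, add_zero]⟩)
    rw [smul_eq_C_smul]
    refine ⟨P.inN_smul (isS_C r) ((hNA x).mp hx), ?_⟩
    have hfr : f r = 0 := by rw [hfdef]; exact (residue_eq_zero_iff r).mpr hr
    rw [piL_smul, rho_C, hfr, map_zero, zero_smul]
  obtain ⟨σ, hσ⟩ : ∃ σ, σ = a₀ - a' := ⟨_, rfl⟩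
  have hσ' : σ = b₀ + b' := by
    have : a₀ = b₀ + (a' + b') := by rw [hab']; abel
    rw [hσ, this]; abel
  have hσM' : P.InM σ := hσ ▸ P.inM_sub ha₀ ha'2.1
  have hσN' : P.InN j σ := hσ' ▸ P.inN_add hb₀ hb'2.1
  have hπσ : piL f P hf σ = σb := by rw [hσ, map_sub, ha₀σ, ha'2.2, sub_zero]
  obtain ⟨φz, hφzM, hφz⟩ := exists_mDual_lift f P hf hτM
  obtain ⟨ψz, hψzN, hψz⟩ := exists_nDual_lift f P hf hτN
  have hg1 : rho (residue A) (φz σ) = 1 := by rw [← hfdef, hφz, hπσ, hτσ]
  have hh1 : rho (residue A) (ψz σ) = 1 := by rw [← hfdef, hψz, hπσ, hτσ]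
  have hgT : IsT (φz σ) := P.apply_isT hφzM hσM'
  have hhS : IsS (ψz σ) := P.apply_isS hψzN hσN'
  obtain ⟨c₀, hc₀⟩ := lemmaU hgT hg1 hhS hh1
  obtain ⟨c₁, hc₁⟩ := P.exists_mDual_T_smul ψz
  obtain ⟨u, v, hu, hv, huv⟩ := hc₀ ((max c₀ c₁ : ℕ) : ℤ) (by exact_mod_cast le_max_left _ _)
  have hgS' : IsT (invert (ψz σ)) := isS_iff_isT_invert.mp hhS
  have hg1' : rho (residue A) (invert (ψz σ)) = 1 := by rw [rho_invert, hh1, map_one]
  have hhS' : IsS (invert (φz σ)) := isT_iff_isS_invert.mp hgT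
  have hh1' : rho (residue A) (invert (φz σ)) = 1 := by rw [rho_invert, hg1, map_one]
  obtain ⟨c₀', hc₀'⟩ := lemmaU hgS' hg1' hhS' hh1'
  obtain ⟨c₂, hc₂⟩ := P.exists_nDual_T_smul j φz
  obtain ⟨u', v', hu', hv', huv'⟩ :=
    hc₀' ((max c₀' c₂ : ℕ) : ℤ) (by exact_mod_cast le_max_left _ _)
  refine ⟨j, σ, u • φz + v • ((T ((max c₀ c₁ : ℕ) : ℤ) : A[T;T⁻¹]) • ψz),
    invert u' • ψz + invert v' • ((T (-((max c₀' c₂ : ℕ) : ℤ)) : A[T;T⁻¹]) • φz),
    hσM', hσN', ?_, ?_, ?_, ?_⟩
  · exact P.mDual_add (P.mDual_smul hu hφzM)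
      (P.mDual_smul hv (hc₁ _ (by exact_mod_cast le_max_right _ _)))
  · exact P.nDual_add (P.nDual_smul (isT_iff_isS_invert.mp hu') hψzN)
      (P.nDual_smul (isT_iff_isS_invert.mp hv') (hc₂ _ (by exact_mod_cast le_max_right _ _)))
  · simp only [LinearMap.add_apply, LinearMap.smul_apply, smul_eq_mul]; exact huv
  · simp only [LinearMap.add_apply, LinearMap.smul_apply, smul_eq_mul]
    have := congrArg invert huv'
    have e1 : invert (invert (ψz σ)) = ψz σ := involutive_invert _
    have e2 : invert (invert (φz σ)) = φz σ := involutive_invert _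
    rw [map_add, map_mul, map_mul, map_mul, invert_T, e1, e2, map_one] at this
    exact this

omit [Module A L] [IsScalarTower A A[T;T⁻¹] L] in
/-- If the closed fibre vanishes then `L = 0`. -/
theorem eq_zero_of_bar_zero (P : LatPair A L)
    (h0 : ∀ x i, rho (residue A) (P.φ i x) = 0) : ∀ x : L, x = 0 := by
  classical
  have hf : Function.Surjective (residue A) := residue_surjective
  -- M side
  have he : ∀ i j, ∃ p : A[X], toLaurent p = P.φ i (P.m j) := fun i j => exists_of_isT (P.φm i j)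
  choose e he using he
  have hE : (Matrix.of e) * (Matrix.of e) = Matrix.of e := by
    refine Matrix.ext fun i k => ?_
    apply Polynomial.toLaurent_injective
    rw [Matrix.mul_apply, map_sum]
    simp only [Matrix.of_apply, map_mul, he]
    rw [P.apply_eq_sum_m (P.φ i) (P.m k)]
    exact Finset.sum_congr rfl fun j _ => mul_comm _ _
  have hres : ∀ i j, ((Matrix.of e) i j).map (residue A) = 0 := by
    intro i j
    apply Polynomial.toLaurent_injective
    rw [Matrix.of_apply, ← rho_toLaurent, he, h0, map_zero]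
  obtain ⟨g₀, hg₀, hg₀E⟩ := exists_annihilator (Matrix.of e) hE hres
  have hgm : ∀ j, toLaurent g₀ • P.m j = 0 := by
    intro j
    conv_lhs => rw [← P.recM (P.m j)]
    rw [Finset.smul_sum]
    refine Finset.sum_eq_zero fun i _ => ?_
    rw [smul_smul, ← he, ← map_mul]
    have := hg₀E i j
    rw [Matrix.of_apply] at this
    rw [this, map_zero, zero_smul]
  have hgx : ∀ x : L, toLaurent g₀ • x = 0 := by
    intro x
    conv_lhs => rw [← P.recM x]
    rw [Finset.smul_sum]
    refine Finset.sum_eq_zero fun i _ => ?_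
    rw [smul_comm, hgm, smul_zero]
  -- N side
  have h0' : ∀ x l, rho (residue A) (P.ψ l x) = 0 := by
    intro x l
    have hx : piL (residue A) P hf x = 0 := (piL_eq_zero_iff _ P hf x).mpr (h0 x)
    rw [← psibar_piL (residue A) P hf l x, hx, map_zero]
  have hfe : ∀ i j, ∃ p : A[X], toLaurent p = invert (P.ψ i (P.n j)) :=
    fun i j => exists_of_isT (isS_iff_isT_invert.mp (P.ψn i j))
  choose fe hfe using hfe
  have hF : (Matrix.of fe) * (Matrix.of fe) = Matrix.of fe := by
    refine Matrix.ext fun i k => ?_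
    apply Polynomial.toLaurent_injective
    rw [Matrix.mul_apply, map_sum]
    simp only [Matrix.of_apply, map_mul, hfe]
    rw [P.apply_eq_sum_n (P.ψ i) (P.n k), map_sum]
    exact Finset.sum_congr rfl fun j _ => by rw [map_mul, mul_comm]
  have hresF : ∀ i j, ((Matrix.of fe) i j).map (residue A) = 0 := by
    intro i j
    apply Polynomial.toLaurent_injective
    rw [Matrix.of_apply, ← rho_toLaurent, hfe, rho_invert, h0', map_zero, map_zero]
  obtain ⟨h₀, hh₀, hh₀F⟩ := exists_annihilator (Matrix.of fe) hF hresF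
  have hhn : ∀ j, invert (toLaurent h₀) • P.n j = 0 := by
    intro j
    conv_lhs => rw [← P.recN (P.n j)]
    rw [Finset.smul_sum]
    refine Finset.sum_eq_zero fun i _ => ?_
    rw [smul_smul]
    have e1 : P.ψ i (P.n j) = invert (toLaurent (fe i j)) := by
      rw [hfe]; exact (involutive_invert _).symm
    rw [e1, ← map_mul, ← map_mul]
    have := hh₀F i j
    rw [Matrix.of_apply] at this
    rw [this, map_zero, map_zero, zero_smul]
  have hhx : ∀ x : L, invert (toLaurent h₀) • x = 0 := by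
    intro x
    conv_lhs => rw [← P.recN x]
    rw [Finset.smul_sum]
    refine Finset.sum_eq_zero fun i _ => ?_
    rw [smul_comm, hhn, smul_zero]
  have hg1 : rho (residue A) (toLaurent g₀) = 1 := by rw [rho_toLaurent, hg₀, map_one]
  have hh1 : rho (residue A) (invert (toLaurent h₀)) = 1 := by
    rw [rho_invert, rho_toLaurent, hh₀, map_one, map_one]
  obtain ⟨c₀, hc₀⟩ := lemmaU (isT_toLaurent g₀) hg1 (isS_invert_toLaurent h₀) hh1
  obtain ⟨u, v, -, -, huv⟩ := hc₀ c₀ le_rfl
  intro x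
  have : x = (u * toLaurent g₀ + v * (T (c₀ : ℤ) * invert (toLaurent h₀))) • x := by
    rw [huv, one_smul]
  rw [this, add_smul, mul_smul, mul_smul, mul_smul, hgx, hhx, smul_zero, smul_zero, smul_zero,
    add_zero]

end Groth.Agent.Lib.Lead.Hor
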