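import Groth.Agent.Lib.Lead.Hor.HorA2

/-!
# Lattice pairs over a local ring: the `T`-lattice is free (local Horrocks)
-/

set_option autoImplicit false
set_option linter.style.haveILetI false

namespace Groth.Agent.Lib.Lead.Hor

open Polynomial LaurentPolynomial IsLocalRing

universe u v

section quot
variable {B : Type*} [CommRing B] {L : Type*} [AddCommGroup L] [Module B[T;T⁻¹] L]
variable (P : LatPair B L) (j : ℤ) (σ : L) (φ' ψ' : L →ₗ[B[T;T⁻¹]] B[T;T⁻¹])


/-- `φ i` descended to the quotient by `σ` -/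
noncomputable def qφ (hφσ : φ' σ = 1) (i : Fin P.nM) : (L ⧸ (Submodule.span B[T;T⁻¹] ({σ} : Set L))) →ₗ[B[T;T⁻¹]] B[T;T⁻¹] :=
  Submodule.liftQ _ (P.φ i - (P.φ i σ) • φ') (by
    rw [Submodule.span_le, Set.singleton_subset_iff, SetLike.mem_coe, LinearMap.mem_ker,
      LinearMap.sub_apply, LinearMap.smul_apply, hφσ, smul_eq_mul, mul_one, sub_self])

lemma qφ_mk (hφσ : φ' σ = 1) (i : Fin P.nM) (x : L) :
    qφ P σ φ' hφσ i (Submodule.Quotient.mk x) = P.φ i x - P.φ i σ * φ' x := by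
  rw [qφ, Submodule.liftQ_apply, LinearMap.sub_apply, LinearMap.smul_apply, smul_eq_mul]

/-- `T^{-j} ψ l` descended to the quotient by `σ` -/
noncomputable def qψ (hψσ : ψ' σ = 1) (l : Fin P.nN) : (L ⧸ (Submodule.span B[T;T⁻¹] ({σ} : Set L))) →ₗ[B[T;T⁻¹]] B[T;T⁻¹] :=
  Submodule.liftQ _ ((T (-j) : B[T;T⁻¹]) • P.ψ l - (T (-j) * P.ψ l σ) • ψ') (by
    rw [Submodule.span_le, Set.singleton_subset_iff, SetLike.mem_coe, LinearMap.mem_ker,
      LinearMap.sub_apply, LinearMap.smul_apply, LinearMap.smul_apply, hψσ, smul_eq_mul,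
      smul_eq_mul, mul_one, sub_self])

lemma qψ_mk (hψσ : ψ' σ = 1) (l : Fin P.nN) (x : L) :
    qψ P j σ ψ' hψσ l (Submodule.Quotient.mk x) =
      T (-j) * P.ψ l x - T (-j) * P.ψ l σ * ψ' x := by
  rw [qψ, Submodule.liftQ_apply, LinearMap.sub_apply, LinearMap.smul_apply, LinearMap.smul_apply,
    smul_eq_mul, smul_eq_mul]

lemma mkσ_zero (a : B[T;T⁻¹]) : (Submodule.Quotient.mk (a • σ) : L ⧸ (Submodule.span B[T;T⁻¹] ({σ} : Set L))) = 0 :=
  (Submodule.Quotient.mk_eq_zero _).mpr (Submodule.smul_mem _ _ (Submodule.mem_span_singleton_self σ))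

/-- the lattice pair induced on `L / σ` -/
noncomputable def quotPair (hφσ : φ' σ = 1) (hψσ : ψ' σ = 1) (hσM : P.InM σ) (hσN : P.InN j σ)
    (hφ' : P.MDual φ') (hψ' : P.NDual j ψ') : LatPair B (L ⧸ (Submodule.span B[T;T⁻¹] ({σ} : Set L))) where
  nM := P.nM
  nN := P.nN
  m i := Submodule.Quotient.mk (P.m i)
  φ i := qφ P σ φ' hφσ i
  n l := Submodule.Quotient.mk ((T j : B[T;T⁻¹]) • P.n l)
  ψ l := qψ P j σ ψ' hψσ l
  φm i k := by rw [qφ_mk]; exact isT_sub (P.φm i k) (isT_mul (hσM i) (hφ' k))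
  ψn l k := by
    rw [qψ_mk, map_smul, map_smul, smul_eq_mul, smul_eq_mul, T_neg_mul_T_mul]
    exact isS_sub (P.ψn l k) (isS_mul (hσN l) (hψ' k))
  recM y := by
    obtain ⟨x, rfl⟩ := Submodule.Quotient.mk_surjective _ y
    have key : ∑ i, (P.φ i x - P.φ i σ * φ' x) • P.m i = x - φ' x • σ := by
      simp_rw [sub_smul]
      rw [Finset.sum_sub_distrib, P.recM x]
      congr 1
      simp_rw [mul_comm (P.φ _ σ) (φ' x), mul_smul]
      rw [← Finset.smul_sum, P.recM σ]
    have h1 : ∀ z : L, (Submodule.Quotient.mk z : L ⧸ (Submodule.span B[T;T⁻¹] ({σ} : Set L))) = (Submodule.mkQ (Submodule.span B[T;T⁻¹] ({σ} : Set L))) z := fun z => rfl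
    simp_rw [qφ_mk, h1, ← map_smul, ← map_sum]
    rw [key, map_sub, ← h1 (φ' x • σ), mkσ_zero, sub_zero]
  recN y := by
    obtain ⟨x, rfl⟩ := Submodule.Quotient.mk_surjective _ y
    have e1 : ∀ l, (T (-j) * P.ψ l x) • ((T j : B[T;T⁻¹]) • P.n l) = P.ψ l x • P.n l := by
      intro l
      rw [smul_smul, mul_comm (T (-j)) _, mul_assoc, T_mul_T, neg_add_cancel, T_zero, mul_one]
    have e2 : ∀ l, (T (-j) * P.ψ l σ * ψ' x) • ((T j : B[T;T⁻¹]) • P.n l) =
        ψ' x • (P.ψ l σ • P.n l) := by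
      intro l
      rw [smul_smul, smul_smul]
      congr 1
      have : T (-j) * P.ψ l σ * ψ' x * T j = (T (-j) * T j) * (ψ' x * P.ψ l σ) := by ring
      rw [this, T_mul_T, neg_add_cancel, T_zero, one_mul]
    have key : ∑ l, (T (-j) * P.ψ l x - T (-j) * P.ψ l σ * ψ' x) • ((T j : B[T;T⁻¹]) • P.n l) =
        x - ψ' x • σ := by
      simp_rw [sub_smul, e1, e2]
      rw [Finset.sum_sub_distrib, P.recN x, ← Finset.smul_sum, P.recN σ]
    have h1 : ∀ z : L, (Submodule.Quotient.mk z : L ⧸ (Submodule.span B[T;T⁻¹] ({σ} : Set L))) = (Submodule.mkQ (Submodule.span B[T;T⁻¹] ({σ} : Set L))) z := fun z => rfl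
    simp_rw [qψ_mk, h1, ← map_smul, ← map_sum]
    rw [key, map_sub, ← h1 (ψ' x • σ), mkσ_zero, sub_zero]

end quot

section basis
variable {B : Type*} [CommRing B] {L : Type*} [AddCommGroup L] [Module B[T;T⁻¹] L]

/-- `M` is a free `B[T]`-module with a basis that is also a `B[T;T⁻¹]`-basis of `L`. -/
def HasTBasis (P : LatPair B L) : Prop :=
  ∃ (r : ℕ) (s : Fin r → L), (∀ k, P.InM (s k)) ∧
    (∀ x, P.InM x → ∃ c : Fin r → B[T;T⁻¹], (∀ k, IsT (c k)) ∧ x = ∑ k, c k • s k) ∧
    (∀ c : Fin r → B[T;T⁻¹], ∑ k, c k • s k = 0 → c = 0)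

variable (P : LatPair B L) (j : ℤ) (σ : L) (φ' ψ' : L →ₗ[B[T;T⁻¹]] B[T;T⁻¹])


theorem hasTBasis_of_quot (hφσ : φ' σ = 1) (hψσ : ψ' σ = 1) (hσM : P.InM σ) (hσN : P.InN j σ)
    (hφ' : P.MDual φ') (hψ' : P.NDual j ψ')
    (h : HasTBasis (quotPair P j σ φ' ψ' hφσ hψσ hσM hσN hφ' hψ')) : HasTBasis P := by
  obtain ⟨r, s', hs'M, hspan, hind⟩ := h
  have hl : ∀ k, ∃ x : L, P.InM x ∧ (Submodule.Quotient.mk x : L ⧸ (Submodule.span B[T;T⁻¹] ({σ} : Set L))) = s' k := by
    intro k
    obtain ⟨x, hx⟩ := Submodule.Quotient.mk_surjective _ (s' k)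
    refine ⟨x - φ' x • σ, fun i => ?_, ?_⟩
    · have := hs'M k i
      rw [← hx] at this
      have e : (quotPair P j σ φ' ψ' hφσ hψσ hσM hσN hφ' hψ').φ i (Submodule.Quotient.mk x) =
          P.φ i x - P.φ i σ * φ' x := qφ_mk P σ φ' hφσ i x
      rw [e] at this
      rw [map_sub, map_smul, smul_eq_mul, mul_comm]; exact this
    · rw [Submodule.Quotient.mk_sub, mkσ_zero, sub_zero, hx]
  choose s hsM hs using hl
  have hmksum : ∀ c : Fin r → B[T;T⁻¹],
      (Submodule.Quotient.mk (∑ k, c k • s k) : L ⧸ (Submodule.span B[T;T⁻¹] ({σ} : Set L))) = ∑ k, c k • s' k := by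
    intro c
    rw [← Submodule.mkQ_apply, map_sum]
    exact Finset.sum_congr rfl fun k _ => by rw [map_smul, Submodule.mkQ_apply, hs k]
  refine ⟨r + 1, Fin.cons σ s, ?_, ?_, ?_⟩
  · intro k
    refine Fin.cases ?_ (fun k' => ?_) k
    · simpa using hσM
    · simpa using hsM k'
  · intro x hx
    have hxq : (quotPair P j σ φ' ψ' hφσ hψσ hσM hσN hφ' hψ').InM (Submodule.Quotient.mk x) := by
      intro i
      have e := qφ_mk P σ φ' hφσ i x
      show IsT (qφ P σ φ' hφσ i (Submodule.Quotient.mk x))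
      rw [e]; exact isT_sub (hx i) (isT_mul (hσM i) (P.apply_isT hφ' hx))
    obtain ⟨c, hcT, hc⟩ := hspan _ hxq
    have hmem : x - ∑ k, c k • s k ∈ (Submodule.span B[T;T⁻¹] ({σ} : Set L)) := by
      rw [← Submodule.Quotient.mk_eq_zero, Submodule.Quotient.mk_sub, hc, hmksum, sub_self]
    obtain ⟨lam, hlam⟩ := Submodule.mem_span_singleton.mp hmem
    have hlamT : IsT lam := by
      have h1 : φ' (lam • σ) = lam := by rw [map_smul, hφσ, smul_eq_mul, mul_one]
      rw [← h1, hlam]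
      exact P.apply_isT hφ'
        (P.inM_sub hx (P.inM_sum _ _ fun k _ => P.inM_smul (hcT k) (hsM k)))
    refine ⟨Fin.cons lam c, fun k => ?_, ?_⟩
    · refine Fin.cases ?_ (fun k' => ?_) k
      · simpa using hlamT
      · simpa using hcT k'
    · rw [Fin.sum_univ_succ]
      simp only [Fin.cons_zero, Fin.cons_succ]
      rw [hlam]; abel
  · intro c hc0
    rw [Fin.sum_univ_succ] at hc0
    simp only [Fin.cons_zero, Fin.cons_succ] at hc0
    have h1 : ∑ k, c k.succ • s' k = 0 := by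
      have := congrArg (fun z => (Submodule.Quotient.mk z : L ⧸ (Submodule.span B[T;T⁻¹] ({σ} : Set L)))) hc0
      simp only [Submodule.Quotient.mk_add, mkσ_zero, zero_add, Submodule.Quotient.mk_zero] at this
      rw [← this, hmksum]
    have h2 := hind (fun k => c k.succ) h1
    have h3 : ∀ k, c (Fin.succ k) = 0 := fun k => congrFun h2 k
    have h4 : c 0 • σ = 0 := by
      rw [← hc0]
      simp [h3]
    have h5 : c 0 = 0 := by
      have := congrArg φ' h4
      rwa [map_smul, hφσ, smul_eq_mul, mul_one, map_zero] at this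
    funext k
    exact Fin.cases h5 (fun k' => h3 k') k

end basis

section measure
variable {A : Type u} [CommRing A] [IsLocalRing A]

/-- evaluation at `T = 1` followed by the residue map -/
noncomputable def ev : A[T;T⁻¹] →+* ResidueField A :=
  LaurentPolynomial.eval₂ (residue A) (1 : (ResidueField A)ˣ)

variable {L : Type v} [AddCommGroup L] [Module A[T;T⁻¹] L] (P : LatPair A L)

/-- fibre coordinates at the closed point `T = 1` of the closed fibre -/
noncomputable def theta (x : L) : Fin P.nM → ResidueField A := fun i => ev (P.φ i x)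

/-- the span of the fibre coordinates -/
noncomputable def Vsp : Submodule (ResidueField A) (Fin P.nM → ResidueField A) :=
  Submodule.span _ (Set.range (theta P))

/-- the induction measure -/
noncomputable def dmeas : ℕ := Module.finrank (ResidueField A) (Vsp P)

lemma ev_apply_eq_sum (f : L →ₗ[A[T;T⁻¹]] A[T;T⁻¹]) (x : L) :
    ev (f x) = ∑ i, theta P x i * ev (f (P.m i)) := by
  rw [P.apply_eq_sum_m f x, map_sum]
  exact Finset.sum_congr rfl fun i _ => by rw [map_mul]; rfl

variable (j : ℤ) (σ : L) (φ' ψ' : L →ₗ[A[T;T⁻¹]] A[T;T⁻¹])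

theorem dmeas_quot_lt (hφσ : φ' σ = 1) (hψσ : ψ' σ = 1) (hσM : P.InM σ) (hσN : P.InN j σ)
    (hφ' : P.MDual φ') (hψ' : P.NDual j ψ') :
    dmeas (quotPair P j σ φ' ψ' hφσ hψσ hσM hσN hφ' hψ') < dmeas P := by
  classical
  -- the projection
  let lin : (Fin P.nM → ResidueField A) →ₗ[ResidueField A] ResidueField A :=
    ∑ i, ev (φ' (P.m i)) •
      (LinearMap.proj i : (Fin P.nM → ResidueField A) →ₗ[ResidueField A] ResidueField A)
  have hlin : ∀ v, lin v = ∑ i, v i * ev (φ' (P.m i)) := by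
    intro v
    simp only [lin, LinearMap.sum_apply, LinearMap.smul_apply, LinearMap.proj_apply, smul_eq_mul]
    exact Finset.sum_congr rfl fun i _ => mul_comm _ _
  let pmap : (Fin P.nM → ResidueField A) →ₗ[ResidueField A] (Fin P.nM → ResidueField A) :=
    LinearMap.id - (LinearMap.smulRight lin (theta P σ))
  have hpmap : ∀ v, pmap v = v - lin v • theta P σ := by
    intro v
    simp only [pmap, LinearMap.sub_apply, LinearMap.id_apply, LinearMap.smulRight_apply]
  have hlinθ : ∀ x, lin (theta P x) = ev (φ' x) := by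
    intro x; rw [hlin, ev_apply_eq_sum P φ' x]
  have hθ' : ∀ x : L, theta (quotPair P j σ φ' ψ' hφσ hψσ hσM hσN hφ' hψ')
      (Submodule.Quotient.mk x) = pmap (theta P x) := by
    intro x
    refine funext fun (i : Fin P.nM) => ?_
    rw [hpmap, hlinθ]
    show ev (qφ P σ φ' hφσ i (Submodule.Quotient.mk x)) = _
    rw [qφ_mk, map_sub, map_mul]
    simp only [Pi.sub_apply, Pi.smul_apply, smul_eq_mul, theta]
    ring
  have hV' : Vsp (quotPair P j σ φ' ψ' hφσ hψσ hσM hσN hφ' hψ') = (Vsp P).map pmap := by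
    unfold Vsp
    rw [Submodule.map_span]
    congr 1
    ext v
    constructor
    · rintro ⟨y, rfl⟩
      obtain ⟨x, rfl⟩ := Submodule.Quotient.mk_surjective _ y
      exact ⟨theta P x, ⟨x, rfl⟩, (hθ' x).symm⟩
    · rintro ⟨_, ⟨x, rfl⟩, rfl⟩
      exact ⟨Submodule.Quotient.mk x, hθ' x⟩
  have hev1 : ev (φ' σ) = 1 := by rw [hφσ, map_one]
  have hθσ : theta P σ ≠ 0 := by
    intro h0
    have := hlinθ σ
    rw [h0, map_zero, hev1] at this
    exact zero_ne_one this
  have hpσ : pmap (theta P σ) = 0 := by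
    rw [hpmap, hlinθ, hev1, one_smul, sub_self]
  let f : Vsp P →ₗ[ResidueField A] (Fin P.nM → ResidueField A) := pmap.comp (Vsp P).subtype
  have hrange : LinearMap.range f = (Vsp P).map pmap := by
    rw [LinearMap.range_comp, Submodule.range_subtype]
  have hrk := LinearMap.finrank_range_add_finrank_ker f
  have hkerpos : 0 < Module.finrank (ResidueField A) (LinearMap.ker f) := by
    have hmem : theta P σ ∈ Vsp P := Submodule.subset_span ⟨σ, rfl⟩
    refine (Module.finrank_pos_iff_exists_ne_zero (R := ResidueField A)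
      (M := LinearMap.ker f)).mpr ⟨⟨⟨theta P σ, hmem⟩, ?_⟩, ?_⟩
    · rw [LinearMap.mem_ker]; exact hpσ
    · intro h
      apply hθσ
      have := congrArg (fun z : LinearMap.ker f =>
        ((z : Vsp P) : Fin P.nM → ResidueField A)) h
      exact this
  have h1 : Module.finrank (ResidueField A)
      (Vsp (quotPair P j σ φ' ψ' hφσ hψσ hσM hσN hφ' hψ')) =
      Module.finrank (ResidueField A) (LinearMap.range f) := by rw [hV', hrange]; rfl
  calc dmeas (quotPair P j σ φ' ψ' hφσ hψσ hσM hσN hφ' hψ')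
      = Module.finrank (ResidueField A) (LinearMap.range f) := h1
    _ < Module.finrank (ResidueField A) (LinearMap.range f) +
        Module.finrank (ResidueField A) (LinearMap.ker f) := Nat.lt_add_of_pos_right hkerpos
    _ = dmeas P := hrk

end measure

section main
variable {A : Type u} [CommRing A] [IsLocalRing A]

theorem hasTBasis_aux : ∀ (d : ℕ) (L : Type v) [AddCommGroup L] [Module A[T;T⁻¹] L] [Module A L]
    [IsScalarTower A A[T;T⁻¹] L] (P : LatPair A L), dmeas P = d → HasTBasis P := by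
  intro d
  induction d using Nat.strong_induction_on with
  | _ d ih =>
    intro L _ _ _ _ P hd
    by_cases h0 : ∀ x i, rho (residue A) (P.φ i x) = 0
    · have hx0 := eq_zero_of_bar_zero P h0
      refine ⟨0, Fin.elim0, fun k => Fin.elim0 k, fun x _ => ⟨Fin.elim0, fun k => Fin.elim0 k, ?_⟩,
        fun c _ => funext fun k => Fin.elim0 k⟩
      rw [hx0 x]; simp
    · obtain ⟨j, σ, φ', ψ', hσM, hσN, hφ', hψ', hφσ, hψσ⟩ := exists_unimodular P h0
      have hlt := dmeas_quot_lt P j σ φ' ψ' hφσ hψσ hσM hσN hφ' hψ'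
      rw [hd] at hlt
      exact hasTBasis_of_quot P j σ φ' ψ' hφσ hψσ hσM hσN hφ' hψ'
        (ih _ hlt _ (quotPair P j σ φ' ψ' hφσ hψσ hσM hσN hφ' hψ') rfl)

/-- **Local Horrocks** (lattice form): over a local ring, the `T`-lattice of a lattice pair is
free. -/
theorem hasTBasis_local {L : Type v} [AddCommGroup L] [Module A[T;T⁻¹] L] [Module A L]
    [IsScalarTower A A[T;T⁻¹] L] (P : LatPair A L) : HasTBasis P :=
  hasTBasis_aux _ L P rfl

end main

end Groth.Agent.Lib.Lead.Hor
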