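import Groth.Agent.Lib.Lead.Hor.HorQ

/-!
# Quillen patching: the key lemma and the local-global principle
-/

set_option autoImplicit false
set_option linter.style.haveILetI false

namespace Groth.Agent.Lib.Lead.Hor

open Polynomial

variable {N : Type*} [Fintype N] [DecidableEq N] {A : Type*} [CommRing A]

/-- **Key lemma.** If `E` is conjugate to its constant term "up to the denominator `c`", then
`c * c` lies in the Quillen ideal. -/
theorem inQ_of_loc (E : Matrix N N A[X]) (c : A) (W W' : Matrix N N A[X])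
    (h1 : W * W' = C c • 1) (h2 : W' * W = C c • 1) (h3 : W * E = E.map kap * W)
    (h4 : E * W' = W' * E.map kap) : InQ E (c * c) := by
  -- notation
  obtain ⟨cc, hcc⟩ : ∃ cc : A[X][X], cc = C (C c) := ⟨_, rfl⟩
  obtain ⟨Wx, hWx⟩ : ∃ Wx : Matrix N N A[X][X], Wx = (C : A[X] →+* A[X][X]).mapMatrix W := ⟨_, rfl⟩
  obtain ⟨Wx', hWx'⟩ : ∃ Wx' : Matrix N N A[X][X], Wx' = (C : A[X] →+* A[X][X]).mapMatrix W' :=
    ⟨_, rfl⟩
  obtain ⟨Wy, hWy⟩ : ∃ Wy : Matrix N N A[X][X], Wy = (alpha (1 : A)).mapMatrix W := ⟨_, rfl⟩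
  obtain ⟨Wy', hWy'⟩ : ∃ Wy' : Matrix N N A[X][X], Wy' = (alpha (1 : A)).mapMatrix W' := ⟨_, rfl⟩
  obtain ⟨Ex, hEx⟩ : ∃ Ex : Matrix N N A[X][X], Ex = (C : A[X] →+* A[X][X]).mapMatrix E := ⟨_, rfl⟩
  obtain ⟨Ey, hEy⟩ : ∃ Ey : Matrix N N A[X][X], Ey = (alpha (1 : A)).mapMatrix E := ⟨_, rfl⟩
  obtain ⟨E0, hE0⟩ : ∃ E0 : Matrix N N A[X][X],
      E0 = (C : A[X] →+* A[X][X]).mapMatrix (E.map kap) := ⟨_, rfl⟩
  have hE0' : E0 = (alpha (1 : A)).mapMatrix (E.map kap) := by
    rw [hE0, RingHom.mapMatrix_apply, RingHom.mapMatrix_apply, mmap_comp, mmap_comp,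
      alpha_comp_kap]
  have hC1 : (C : A[X] →+* A[X][X]).mapMatrix (C c • (1 : Matrix N N A[X])) = cc • 1 := by
    rw [mapMatrix_smul, map_one, hcc]
  have hA1 : (alpha (1 : A)).mapMatrix (C c • (1 : Matrix N N A[X])) = cc • 1 := by
    rw [mapMatrix_smul, map_one, hcc, alpha_C]
  -- mapped relations
  have r1x : Wx * Wx' = cc • 1 := by rw [hWx, hWx', ← map_mul, h1, hC1]
  have r2x : Wx' * Wx = cc • 1 := by rw [hWx, hWx', ← map_mul, h2, hC1]
  have r1y : Wy * Wy' = cc • 1 := by rw [hWy, hWy', ← map_mul, h1, hA1]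
  have r2y : Wy' * Wy = cc • 1 := by rw [hWy, hWy', ← map_mul, h2, hA1]
  have r3y : Wy * Ey = E0 * Wy := by rw [hWy, hEy, hE0', ← map_mul, h3, map_mul]
  have r4x : Ex * Wx' = Wx' * E0 := by rw [hWx', hEx, hE0, ← map_mul, h4, map_mul]
  -- P and P'
  obtain ⟨P, hP⟩ : ∃ P : Matrix N N A[X][X], P = Wx' * Wy := ⟨_, rfl⟩
  obtain ⟨P', hP'⟩ : ∃ P' : Matrix N N A[X][X], P' = Wy' * Wx := ⟨_, rfl⟩
  have hev0x : ∀ M : Matrix N N A[X], (ev0 (A := A)).mapMatrix
      ((C : A[X] →+* A[X][X]).mapMatrix M) = M := by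
    intro M
    rw [RingHom.mapMatrix_apply, RingHom.mapMatrix_apply, mmap_comp, ev0_comp_C, mmap_id]
  have hev0y : ∀ M : Matrix N N A[X], (ev0 (A := A)).mapMatrix
      ((alpha (1 : A)).mapMatrix M) = M := by
    intro M
    rw [RingHom.mapMatrix_apply, RingHom.mapMatrix_apply, mmap_comp, ev0_comp_alpha, mmap_id]
  have hev0cc : (ev0 (A := A)).mapMatrix (cc • (1 : Matrix N N A[X][X])) = C c • 1 := by
    rw [mapMatrix_smul, map_one, hcc, ev0_C]
  have hP0 : (ev0 (A := A)).mapMatrix (P - cc • 1) = 0 := by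
    rw [map_sub, hP, map_mul, hWx', hWy, hev0x, hev0y, h2, hev0cc, sub_self]
  have hP0' : (ev0 (A := A)).mapMatrix (P' - cc • 1) = 0 := by
    rw [map_sub, hP', map_mul, hWx, hWy', hev0x, hev0y, h2, hev0cc, sub_self]
  have hE0y : (ev0 (A := A)).mapMatrix (Ey - Ex) = 0 := by
    rw [map_sub, hEy, hEx, hev0x, hev0y, sub_self]
  obtain ⟨D, hD⟩ : ∃ D : Matrix N N A[X][X], P - cc • 1 = (X : A[X][X]) • D :=
    ⟨_, exists_X_smul _ hP0⟩
  obtain ⟨D', hD'⟩ : ∃ D' : Matrix N N A[X][X], P' - cc • 1 = (X : A[X][X]) • D' :=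
    ⟨_, exists_X_smul _ hP0'⟩
  obtain ⟨E1, hE1⟩ : ∃ E1 : Matrix N N A[X][X], Ey - Ex = (X : A[X][X]) • E1 :=
    ⟨_, exists_X_smul _ hE0y⟩
  have hPD : P = cc • 1 + (X : A[X][X]) • D := by rw [← hD]; abel
  have hPD' : P' = cc • 1 + (X : A[X][X]) • D' := by rw [← hD']; abel
  have hEyx : Ey = Ex + (X : A[X][X]) • E1 := by rw [← hE1]; abel
  -- product relations
  have hPP' : P * P' = (cc * cc) • 1 := by
    rw [hP, hP', Matrix.mul_assoc, ← Matrix.mul_assoc Wy, r1y, Matrix.smul_mul, Matrix.one_mul,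
      Matrix.mul_smul, r2x, smul_smul]
  have hP'P : P' * P = (cc * cc) • 1 := by
    rw [hP, hP', Matrix.mul_assoc, ← Matrix.mul_assoc Wx, r1x, Matrix.smul_mul, Matrix.one_mul,
      Matrix.mul_smul, r2y, smul_smul]
  have hPE : P * Ey = Ex * P := by
    rw [hP, Matrix.mul_assoc, r3y, ← Matrix.mul_assoc, ← r4x, Matrix.mul_assoc]
  -- derived relations
  have R1 : cc • (D + D') + (X : A[X][X]) • (D * D') = 0 := by
    apply X_smul_cancel
    have e1 := hPP'
    rw [hPD, hPD'] at e1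
    simp only [add_mul, mul_add, smul_mul_assoc, mul_smul_comm, one_mul, mul_one] at e1
    linear_combination (norm := module) e1
  have R1' : cc • (D' + D) + (X : A[X][X]) • (D' * D) = 0 := by
    apply X_smul_cancel
    have e1 := hP'P
    rw [hPD, hPD'] at e1
    simp only [add_mul, mul_add, smul_mul_assoc, mul_smul_comm, one_mul, mul_one] at e1
    linear_combination (norm := module) e1
  have R2 : cc • E1 + D * Ey - Ex * D = 0 := by
    apply X_smul_cancel
    have e1 := hPE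
    rw [hPD] at e1
    simp only [add_mul, mul_add, smul_mul_assoc, mul_smul_comm, one_mul, mul_one] at e1
    linear_combination (norm := module) e1 - cc • hEyx
  -- apply γ
  obtain ⟨Γ, hΓ⟩ : ∃ Γ : Matrix N N A[X][X] →+* Matrix N N A[X][X],
      Γ = (gam (c * c)).mapMatrix := ⟨_, rfl⟩
  have hΓs : ∀ (s : A[X][X]) (M : Matrix N N A[X][X]), Γ (s • M) = gam (c * c) s • Γ M := by
    intro s M; rw [hΓ]; exact mapMatrix_smul _ _ _
  have hγcc : gam (c * c) cc = cc := by rw [hcc, gam_C]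
  have hγX : gam (c * c) (X : A[X][X]) = cc * cc * X := by
    rw [gam_X, hcc, ← C_mul, ← C_mul]
  have hΓEx : Γ Ex = Ex := by
    rw [hΓ, hEx, RingHom.mapMatrix_apply, RingHom.mapMatrix_apply, mmap_comp, gam_comp_C]
  have hΓEy : Γ Ey = E.map (alpha (c * c)) := by
    rw [hΓ, hEy, RingHom.mapMatrix_apply, RingHom.mapMatrix_apply, mmap_comp, gam_comp_alpha,
      mul_one]
  obtain ⟨Eg, hEg⟩ : ∃ Eg : Matrix N N A[X][X], Eg = E.map (alpha (c * c)) := ⟨_, rfl⟩
  rw [← hEg] at hΓEy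
  have G1 : cc • (Γ D + Γ D') + (cc * cc * X) • (Γ D * Γ D') = 0 := by
    have := congrArg Γ R1
    rw [map_add, hΓs, hΓs, map_add, map_mul, map_zero, hγcc, hγX] at this
    exact this
  have G1' : cc • (Γ D' + Γ D) + (cc * cc * X) • (Γ D' * Γ D) = 0 := by
    have := congrArg Γ R1'
    rw [map_add, hΓs, hΓs, map_add, map_mul, map_zero, hγcc, hγX] at this
    exact this
  have G2 : cc • Γ E1 + Γ D * Eg - Ex * Γ D = 0 := by
    have := congrArg Γ R2
    rw [map_sub, map_add, hΓs, map_mul, map_mul, map_zero, hγcc, hΓEx, hΓEy] at this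
    exact this
  have G3 : Eg = Ex + (cc * cc * X) • Γ E1 := by
    have := congrArg Γ hEyx
    rw [map_add, hΓs, hγX, hΓEx, hΓEy] at this
    exact this
  refine ⟨1 + (cc * X) • Γ D, 1 + (cc * X) • Γ D', ?_, ?_, ?_⟩
  · simp only [add_mul, mul_add, smul_mul_assoc, mul_smul_comm, one_mul, mul_one]
    linear_combination (norm := module) (X : A[X][X]) • G1
  · simp only [add_mul, mul_add, smul_mul_assoc, mul_smul_comm, one_mul, mul_one]
    linear_combination (norm := module) (X : A[X][X]) • G1'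
  · have hEx' : E.map (C : A[X] →+* A[X][X]) = Ex := by rw [hEx]; rfl
    rw [← hEg, hEx']
    simp only [add_mul, mul_add, smul_mul_assoc, mul_smul_comm, one_mul, mul_one]
    linear_combination (norm := module) G3 + (cc * (X : A[X][X])) • G2

/-- **Quillen patching** (matrix form). -/
theorem patch (E : Matrix N N A[X])
    (hloc : ∀ m : Ideal A, m.IsMaximal → ∃ c : A, c ∉ m ∧ ∃ W W' : Matrix N N A[X],
      W * W' = C c • 1 ∧ W' * W = C c • 1 ∧ W * E = E.map kap * W ∧ E * W' = W' * E.map kap) :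
    ∃ V V' : Matrix N N A[X], V * V' = 1 ∧ V' * V = 1 ∧ V * E = E.map kap * V := by
  apply conj_of_inQ_one
  have htop : quillenIdeal E = ⊤ := by
    by_contra hne
    obtain ⟨m, hm, hle⟩ := Ideal.exists_le_maximal _ hne
    obtain ⟨c, hc, W, W', h1, h2, h3, h4⟩ := hloc m hm
    have hcc : c * c ∈ quillenIdeal E := inQ_of_loc E c W W' h1 h2 h3 h4
    have := hle hcc
    rcases hm.isPrime.mem_or_mem this with h | h <;> exact hc h
  have : (1 : A) ∈ quillenIdeal E := by rw [htop]; trivial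
  exact this

end Groth.Agent.Lib.Lead.Hor
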