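import Groth.Agent.Lib.Lead.Hor.HorM
import Groth.Agent.Lib.Lead.Hor.HorQ2

/-!
# From local Horrocks over `A_m` to the local hypothesis of Quillen patching, and the global
conjugacy statement for matrix models.
-/

set_option autoImplicit false
set_option linter.style.haveILetI false

namespace Groth.Agent.Lib.Lead.Hor

open Polynomial

section denom
variable {A : Type*} [CommRing A] (S : Submonoid A) (B : Type*) [CommRing B] [Algebra A B]
  [IsLocalization S B]

attribute [local instance] Polynomial.algebra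

lemma exists_common_denom {ι : Type*} [Finite ι] (w : ι → B[X]) :
    ∃ s ∈ S, ∀ i, ∃ p : A[X], p.map (algebraMap A B) = C (algebraMap A B s) * w i := by
  haveI := Polynomial.isLocalization S B
  obtain ⟨⟨b, hb⟩, hbw⟩ :=
    IsLocalization.exist_integer_multiples_of_finite (S.map (C : A →+* A[X])) w
  obtain ⟨s, hs, rfl⟩ := Submonoid.mem_map.mp hb
  refine ⟨s, hs, fun i => ?_⟩
  obtain ⟨p, hp⟩ := hbw i
  refine ⟨p, ?_⟩
  have h2 : algebraMap A[X] B[X] p = p.map (algebraMap A B) := rfl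
  rw [h2] at hp
  rw [hp, Algebra.smul_def]
  have h3 : algebraMap A[X] B[X] (C s) = C (algebraMap A B s) := by
    show (C s : A[X]).map (algebraMap A B) = _
    rw [Polynomial.map_C]
  exact congrArg (· * w i) h3

lemma exists_kill (p : A[X]) (hp : p.map (algebraMap A B) = 0) : ∃ s ∈ S, C s * p = 0 := by
  haveI := Polynomial.isLocalization S B
  have h : algebraMap A[X] B[X] p = algebraMap A[X] B[X] 0 := by rw [map_zero]; exact hp
  obtain ⟨⟨c, hc⟩, hcp⟩ := (IsLocalization.eq_iff_exists (S.map (C : A →+* A[X])) B[X]).mp h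
  obtain ⟨s, hs, rfl⟩ := Submonoid.mem_map.mp hc
  exact ⟨s, hs, by simpa using hcp⟩

lemma exists_kill_matrix {N : Type*} [Fintype N] [DecidableEq N] (Δ : Matrix N N A[X])
    (h : (Polynomial.mapRingHom (algebraMap A B)).mapMatrix Δ = 0) : ∃ s ∈ S, C s • Δ = 0 := by
  have h1 : ∀ ij : N × N, ∃ s ∈ S, C s * Δ ij.1 ij.2 = 0 := fun ij =>
    exists_kill S B (Δ ij.1 ij.2) (by
      have h2 : ((Polynomial.mapRingHom (algebraMap A B)).mapMatrix Δ) ij.1 ij.2 =
          (0 : Matrix N N B[X]) ij.1 ij.2 := by rw [h]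
      simpa using h2)
  choose s hs hsΔ using h1
  refine ⟨∏ ij, s ij, Submonoid.prod_mem _ fun ij _ => hs ij, ?_⟩
  refine Matrix.ext fun i j => ?_
  simp only [Matrix.smul_apply, smul_eq_mul, Matrix.zero_apply]
  rw [← Finset.mul_prod_erase Finset.univ s (Finset.mem_univ (i, j)), C_mul,
    mul_comm (C (s (i, j))), mul_assoc, hsΔ (i, j), mul_zero]

end denom

section main
variable {A : Type*} [CommRing A]

lemma mapRingHom_kap {B : Type*} [CommRing B] (f : A →+* B) (p : A[X]) :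
    Polynomial.mapRingHom f (kap p) = kap (Polynomial.mapRingHom f p) := by
  simp only [kap_apply, Polynomial.coe_mapRingHom, Polynomial.map_C]
  congr 1
  rw [← Polynomial.coeff_zero_eq_eval_zero, ← Polynomial.coeff_zero_eq_eval_zero,
    Polynomial.coeff_map]

theorem loc_condition_aux {n r : ℕ} (E₀ : Matrix (Fin n) (Fin n) A[X]) (m : Ideal A)
    [hm : m.IsMaximal]
    (U : Matrix (Fin n) (Fin r) (Localization.AtPrime m)[X])
    (V : Matrix (Fin r) (Fin n) (Localization.AtPrime m)[X])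
    (hUV : U * V = E₀.map (Polynomial.mapRingHom (algebraMap A (Localization.AtPrime m))))
    (hVU : V * U = 1) :
    ∃ c : A, c ∉ m ∧ ∃ W W' : Matrix (Fin n ⊕ Fin n) (Fin n ⊕ Fin n) A[X],
      W * W' = C c • 1 ∧ W' * W = C c • 1 ∧
      W * Matrix.fromBlocks E₀ 0 0 0 = (Matrix.fromBlocks E₀ 0 0 0).map kap * W ∧
      Matrix.fromBlocks E₀ 0 0 0 * W' = W' * (Matrix.fromBlocks E₀ 0 0 0).map kap := by
  classical
  obtain ⟨F, hF⟩ : ∃ F : A[X] →+* (Localization.AtPrime m)[X],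
      F = Polynomial.mapRingHom (algebraMap A (Localization.AtPrime m)) := ⟨_, rfl⟩
  rw [← hF] at hUV
  have hUV' : U.map (kap (A := Localization.AtPrime m)) * V.map kap = (E₀.map F).map kap := by
    rw [← Matrix.map_mul, hUV]
  have hVU' : V.map (kap (A := Localization.AtPrime m)) * U.map kap = 1 := by
    rw [← Matrix.map_mul, hVU, Matrix.map_one _ (map_zero _) (map_one _)]
  obtain ⟨WB, WB', k1, k2, k3, k4⟩ :=
    conj_of_factor (E₀.map F) ((E₀.map F).map kap) U V (U.map kap) (V.map kap)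
      hUV hVU hUV' hVU'
  -- common denominators
  obtain ⟨s, hs, hp⟩ := exists_common_denom m.primeCompl (Localization.AtPrime m)
    (Sum.elim (fun ij : (Fin n ⊕ Fin n) × (Fin n ⊕ Fin n) => WB ij.1 ij.2)
      (fun ij : (Fin n ⊕ Fin n) × (Fin n ⊕ Fin n) => WB' ij.1 ij.2))
  choose p hp using hp
  obtain ⟨W₁, hW₁d⟩ : ∃ W₁ : Matrix (Fin n ⊕ Fin n) (Fin n ⊕ Fin n) A[X],
      W₁ = Matrix.of fun i j => p (Sum.inl (i, j)) := ⟨_, rfl⟩
  obtain ⟨W₁', hW₁'d⟩ : ∃ W₁' : Matrix (Fin n ⊕ Fin n) (Fin n ⊕ Fin n) A[X],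
      W₁' = Matrix.of fun i j => p (Sum.inr (i, j)) := ⟨_, rfl⟩
  have hFC : ∀ a : A, F (C a) = C (algebraMap A (Localization.AtPrime m) a) := by
    intro a; rw [hF]; simp
  have hW₁ : F.mapMatrix W₁ = F (C s) • WB := by
    refine Matrix.ext fun i j => ?_
    have := hp (Sum.inl (i, j))
    rw [RingHom.mapMatrix_apply, Matrix.map_apply, Matrix.smul_apply, smul_eq_mul, hW₁d,
      Matrix.of_apply, hFC, hF, Polynomial.coe_mapRingHom]
    exact this
  have hW₁' : F.mapMatrix W₁' = F (C s) • WB' := by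
    refine Matrix.ext fun i j => ?_
    have := hp (Sum.inr (i, j))
    rw [RingHom.mapMatrix_apply, Matrix.map_apply, Matrix.smul_apply, smul_eq_mul, hW₁'d,
      Matrix.of_apply, hFC, hF, Polynomial.coe_mapRingHom]
    exact this
  obtain ⟨Et, hEt⟩ : ∃ Et : Matrix (Fin n ⊕ Fin n) (Fin n ⊕ Fin n) A[X],
      Et = Matrix.fromBlocks E₀ 0 0 0 := ⟨_, rfl⟩
  have hFE : F.mapMatrix Et = Matrix.fromBlocks (E₀.map F) 0 0 0 := by
    rw [RingHom.mapMatrix_apply, hEt, Matrix.fromBlocks_map]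
    congr 1 <;> exact Matrix.map_zero _ (map_zero F)
  have hFE0 : F.mapMatrix (Et.map kap) = Matrix.fromBlocks ((E₀.map F).map kap) 0 0 0 := by
    have h1 : ((E₀.map kap).map F) = (E₀.map F).map kap := by
      refine Matrix.ext fun i j => ?_
      simp only [Matrix.map_apply]
      rw [hF]; exact mapRingHom_kap _ _
    rw [RingHom.mapMatrix_apply, hEt, Matrix.fromBlocks_map, Matrix.fromBlocks_map, h1]
    congr 1 <;>
    · rw [Matrix.map_zero _ (map_zero (kap (A := A)))]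
      exact Matrix.map_zero _ (map_zero F)
  have d1 : F.mapMatrix (W₁ * W₁' - C (s * s) • 1) = 0 := by
    rw [map_sub, map_mul, hW₁, hW₁', mapMatrix_smul, map_one, Matrix.smul_mul,
      Matrix.mul_smul, k1, smul_smul, ← map_mul, ← C_mul, sub_self]
  have d2 : F.mapMatrix (W₁' * W₁ - C (s * s) • 1) = 0 := by
    rw [map_sub, map_mul, hW₁, hW₁', mapMatrix_smul, map_one, Matrix.smul_mul,
      Matrix.mul_smul, k2, smul_smul, ← map_mul, ← C_mul, sub_self]
  have d3 : F.mapMatrix (W₁ * Et - Et.map kap * W₁) = 0 := by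
    rw [map_sub, map_mul, map_mul, hW₁, hFE, hFE0, Matrix.smul_mul, Matrix.mul_smul, k3,
      sub_self]
  have d4 : F.mapMatrix (Et * W₁' - W₁' * Et.map kap) = 0 := by
    rw [map_sub, map_mul, map_mul, hW₁', hFE, hFE0, Matrix.smul_mul, Matrix.mul_smul, k4,
      sub_self]
  rw [hF] at d1 d2 d3 d4
  obtain ⟨t1, ht1, e1⟩ := exists_kill_matrix m.primeCompl (Localization.AtPrime m) _ d1
  obtain ⟨t2, ht2, e2⟩ := exists_kill_matrix m.primeCompl (Localization.AtPrime m) _ d2
  obtain ⟨t3, ht3, e3⟩ := exists_kill_matrix m.primeCompl (Localization.AtPrime m) _ d3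
  obtain ⟨t4, ht4, e4⟩ := exists_kill_matrix m.primeCompl (Localization.AtPrime m) _ d4
  obtain ⟨t, ht⟩ : ∃ t : A, t = t1 * t2 * t3 * t4 := ⟨_, rfl⟩
  have htS : t ∈ m.primeCompl := by
    rw [ht]; exact mul_mem (mul_mem (mul_mem ht1 ht2) ht3) ht4
  have E1 : C t • (W₁ * W₁' - C (s * s) • 1) = 0 := by
    have : (C t : A[X]) = C (t2 * t3 * t4) * C t1 := by rw [← C_mul, ht]; congr 1; ring
    rw [this, mul_smul, e1, smul_zero]
  have E2 : C t • (W₁' * W₁ - C (s * s) • 1) = 0 := by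
    have : (C t : A[X]) = C (t1 * t3 * t4) * C t2 := by rw [← C_mul, ht]; congr 1; ring
    rw [this, mul_smul, e2, smul_zero]
  have E3 : C t • (W₁ * Et - Et.map kap * W₁) = 0 := by
    have : (C t : A[X]) = C (t1 * t2 * t4) * C t3 := by rw [← C_mul, ht]; congr 1; ring
    rw [this, mul_smul, e3, smul_zero]
  have E4 : C t • (Et * W₁' - W₁' * Et.map kap) = 0 := by
    have : (C t : A[X]) = C (t1 * t2 * t3) * C t4 := by rw [← C_mul, ht]
    rw [this, mul_smul, e4, smul_zero]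
  rw [smul_sub, sub_eq_zero] at E1 E2 E3 E4
  have hcS : t * t * (s * s) ∈ m.primeCompl := mul_mem (mul_mem htS htS) (mul_mem hs hs)
  refine ⟨t * t * (s * s), fun h => hcS h, C t • W₁, C t • W₁', ?_, ?_, ?_, ?_⟩
  · rw [Matrix.smul_mul, Matrix.mul_smul, E1, smul_smul, smul_smul, ← C_mul, ← C_mul]
  · rw [Matrix.smul_mul, Matrix.mul_smul, E2, smul_smul, smul_smul, ← C_mul, ← C_mul]
  · rw [← hEt, Matrix.smul_mul, Matrix.mul_smul, E3]
  · rw [← hEt, Matrix.smul_mul, Matrix.mul_smul, E4]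

theorem loc_condition (Q : MatModel A) (m : Ideal A) [hm : m.IsMaximal] :
    ∃ c : A, c ∉ m ∧ ∃ W W' : Matrix (Fin Q.n ⊕ Fin Q.n) (Fin Q.n ⊕ Fin Q.n) A[X],
      W * W' = C c • 1 ∧ W' * W = C c • 1 ∧
      W * Matrix.fromBlocks Q.E₀ 0 0 0 = (Matrix.fromBlocks Q.E₀ 0 0 0).map kap * W ∧
      Matrix.fromBlocks Q.E₀ 0 0 0 * W' = W' * (Matrix.fromBlocks Q.E₀ 0 0 0).map kap := by
  obtain ⟨r, U, V, hUV, hVU⟩ :=
    (Q.map (algebraMap A (Localization.AtPrime m))).local_horrocks_matrix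
  exact loc_condition_aux Q.E₀ m U V hUV hVU

/-- **Global Horrocks, matrix form**: the polynomial idempotent of a matrix model is stably
conjugate to its constant term. -/
theorem matModel_conj (Q : MatModel A) :
    ∃ V V' : Matrix (Fin Q.n ⊕ Fin Q.n) (Fin Q.n ⊕ Fin Q.n) A[X], V * V' = 1 ∧ V' * V = 1 ∧
      V * Matrix.fromBlocks Q.E₀ 0 0 0 = (Matrix.fromBlocks Q.E₀ 0 0 0).map kap * V :=
  patch _ fun m hm => by
    haveI := hm
    exact loc_condition Q m

end main

end Groth.Agent.Lib.Lead.Hor
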