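import Groth.Agent.Lib.Lead.Hor.HorT

/-!
# Consequences of Horrocks' theorem: local freeness on the base of a module on `𝔸¹` which extends
to `ℙ¹`.
-/

set_option autoImplicit false
set_option linter.style.haveILetI false

namespace Groth.Agent.Lib.Lead.Hor

open Polynomial LaurentPolynomial TensorProduct

universe u

section fixproj
variable {A : Type u} [CommRing A] {n : ℕ} (e₀ : Matrix (Fin n) (Fin n) A)

/-- retraction onto the fixed vectors -/
def fixRetr (he₀ : e₀ * e₀ = e₀) : (Fin n → A) →ₗ[A] fixMod e₀ where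
  toFun v := ⟨e₀.mulVec v, by
    show e₀.mulVec (e₀.mulVec v) = e₀.mulVec v
    rw [Matrix.mulVec_mulVec, he₀]⟩
  map_add' x y := Subtype.ext (by
    show e₀.mulVec (x + y) = e₀.mulVec x + e₀.mulVec y
    exact Matrix.mulVec_add _ _ _)
  map_smul' a x := Subtype.ext (by
    show e₀.mulVec (a • x) = a • e₀.mulVec x
    exact Matrix.mulVec_smul _ _ _)

variable (he₀ : e₀ * e₀ = e₀)

lemma fixRetr_comp : fixRetr e₀ he₀ ∘ₗ (fixMod e₀).subtype = LinearMap.id := by
  refine LinearMap.ext fun w => Subtype.ext ?_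
  show e₀.mulVec (w : Fin n → A) = w
  exact w.2

include he₀ in
lemma fixMod_finite : Module.Finite A (fixMod e₀) :=
  Module.Finite.of_surjective (fixRetr e₀ he₀)
    (fun w => ⟨w, LinearMap.congr_fun (fixRetr_comp e₀ he₀) w⟩)

include he₀ in
lemma fixMod_projective : Module.Projective A (fixMod e₀) :=
  Module.Projective.of_split (fixMod e₀).subtype (fixRetr e₀ he₀) (fixRetr_comp e₀ he₀)

end fixproj

section final
variable {A : Type u} [CommRing A] {M : Type u} [AddCommGroup M] [Module A[X] M] {n : ℕ}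
  (f : (Fin n → A[X]) →ₗ[A[X]] M) (g : M →ₗ[A[X]] (Fin n → A[X]))
  (hfg : f ∘ₗ g = LinearMap.id)
  {N : Type u} [AddCommGroup N] [Module A[X] N] {n' : ℕ}
  (f' : (Fin n' → A[X]) →ₗ[A[X]] N) (g' : N →ₗ[A[X]] (Fin n' → A[X]))
  (hfg' : f' ∘ₗ g' = LinearMap.id)
  (e : (A[T;T⁻¹] ⊗[A[X]] M) →ₛₗ[(LaurentPolynomial.invert (R := A)).toRingEquiv.toRingHom]
    (A[T;T⁻¹] ⊗[A[X]] N)) (he : Function.Bijective e)

include hfg hfg' he in
/-- Horrocks, with the extra information that the module over the base is finite projective -/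
theorem extended_of_data' :
    ∃ (P : Type u) (_ : AddCommGroup P) (_ : Module A P),
      Module.Finite A P ∧ Module.Projective A P ∧ Nonempty (M ≃ₗ[A[X]] (A[X] ⊗[A] P)) := by
  classical
  obtain ⟨V, V', hVV', hV'V, hconj⟩ := exists_conj f g hfg f' g' hfg' e he
  obtain ⟨e₀, he₀d⟩ : ∃ e₀ : Matrix (Fin n) (Fin n) A,
      e₀ = (EM f g).map (Polynomial.evalRingHom 0) := ⟨_, rfl⟩
  have he₀ : e₀ * e₀ = e₀ := by
    rw [he₀d, ← Matrix.map_mul, EM_idem f g hfg]
  have hkap : (EM f g).map kap = e₀.map Polynomial.C := by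
    refine Matrix.ext fun i j => ?_
    rw [he₀d]
    simp only [Matrix.map_apply, kap_apply, Polynomial.coe_evalRingHom]
  refine ⟨fixMod e₀, inferInstance, inferInstance, fixMod_finite e₀ he₀,
    fixMod_projective e₀ he₀, ⟨?_⟩⟩
  refine equivOfConj (f ∘ₗ sumInlL) (sumElimL ∘ₗ g) ?_
    (xiL e₀ he₀ ∘ₗ sumInlL) (sumElimL ∘ₗ thetaL e₀) ?_
    (Matrix.mulVecLin V) (Matrix.mulVecLin V') ?_ ?_ ?_
  · refine LinearMap.ext fun x => ?_
    show f (sumInlL (sumElimL (g x))) = x
    rw [sumInlL_sumElimL]; exact LinearMap.congr_fun hfg x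
  · refine LinearMap.ext fun x => ?_
    show xiL e₀ he₀ (sumInlL (sumElimL (thetaL e₀ x))) = x
    rw [sumInlL_sumElimL, xi_theta]
  · rw [← Matrix.mulVecLin_mul, hVV', Matrix.mulVecLin_one]
  · rw [← Matrix.mulVecLin_mul, hV'V, Matrix.mulVecLin_one]
  · refine LinearMap.ext fun u => ?_
    show V.mulVec (sumElimL (g (f (sumInlL u)))) =
      sumElimL (thetaL e₀ (xiL e₀ he₀ (sumInlL (V.mulVec u))))
    rw [← EM_mulVec, ← fromBlocks_mulVec_eq, theta_xi, ← hkap, ← fromBlocks_mulVec_eq,
      Matrix.mulVec_mulVec, Matrix.mulVec_mulVec, hconj]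

end final

section cover
variable {R : Type u} [CommRing R] {P : Type u} [AddCommGroup P] [Module R[X] P]
  [Module.Finite R[X] P] [Module.Projective R[X] P]
  {P₀ : Type u} [AddCommGroup P₀] [Module R P₀] [Module.Finite R P₀] [Module.Projective R P₀]
  (iso : P ≃ₗ[R[X]] R[X] ⊗[R] P₀)

attribute [local instance] Polynomial.algebra

omit [Module.Finite R[X] P] [Module.Projective R[X] P] in
include iso in
lemma free_localization_poly (m : Ideal R) [m.IsMaximal] :
    Module.Free (Localization.AtPrime m)[X] ((Localization.AtPrime m)[X] ⊗[R[X]] P) := by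
  haveI : Module.Free (Localization.AtPrime m) (Localization.AtPrime m ⊗[R] P₀) :=
    Module.free_of_flat_of_isLocalRing
  exact Module.Free.of_equiv
    ((TensorProduct.AlgebraTensorModule.congr
        (LinearEquiv.refl (Localization.AtPrime m)[X] (Localization.AtPrime m)[X]) iso) ≪≫ₗ
      (TensorProduct.AlgebraTensorModule.cancelBaseChange R R[X] (Localization.AtPrime m)[X]
        (Localization.AtPrime m)[X] P₀) ≪≫ₗ
      (TensorProduct.AlgebraTensorModule.cancelBaseChange R (Localization.AtPrime m)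
        (Localization.AtPrime m)[X] (Localization.AtPrime m)[X] P₀).symm).symm

include iso in
lemma exists_free_away (m : Ideal R) [m.IsMaximal] :
    ∃ r : R, r ∉ m ∧ Module.Free (Localization.Away (Polynomial.C r : R[X]))
      (LocalizedModule (Submonoid.powers (Polynomial.C r : R[X])) P) := by
  haveI := free_localization_poly iso m
  haveI : IsLocalization (m.primeCompl.map (Polynomial.C : R →+* R[X]))
      (Localization.AtPrime m)[X] := Polynomial.isLocalization m.primeCompl _
  haveI : Module.FinitePresentation R[X] P := Module.finitePresentation_of_projective _ _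
  haveI : IsLocalizedModule (m.primeCompl.map (Polynomial.C : R →+* R[X]))
      (TensorProduct.mk R[X] (Localization.AtPrime m)[X] P 1) :=
    (isLocalizedModule_iff_isBaseChange _ (Localization.AtPrime m)[X] _).mpr
      (TensorProduct.isBaseChange R[X] P _)
  obtain ⟨r, hr, hfree, -⟩ := Module.FinitePresentation.exists_free_localizedModule_powers
    (M' := (Localization.AtPrime m)[X] ⊗[R[X]] P)
    (m.primeCompl.map (Polynomial.C : R →+* R[X]))
    (TensorProduct.mk R[X] (Localization.AtPrime m)[X] P 1) (Localization.AtPrime m)[X]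
  obtain ⟨r₀, hr₀, rfl⟩ := Submonoid.mem_map.mp hr
  exact ⟨r₀, hr₀, hfree⟩

include iso in
theorem exists_free_cover :
    ∃ (n : ℕ) (g : Fin n → R), Ideal.span (Set.range g) = ⊤ ∧
      ∀ i, Module.Free (Localization.Away (Polynomial.C (g i) : R[X]))
        (LocalizedModule (Submonoid.powers (Polynomial.C (g i) : R[X])) P) := by
  classical
  obtain ⟨G, hGd⟩ : ∃ G : Set R, G = {r | Module.Free (Localization.Away (Polynomial.C r : R[X]))
      (LocalizedModule (Submonoid.powers (Polynomial.C r : R[X])) P)} := ⟨_, rfl⟩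
  have hG : Ideal.span G = ⊤ := by
    by_contra h
    obtain ⟨m, hm, hle⟩ := Ideal.exists_le_maximal _ h
    haveI := hm
    obtain ⟨r, hr, hfree⟩ := exists_free_away iso m
    refine hr (hle (Ideal.subset_span ?_))
    rw [hGd]; exact hfree
  obtain ⟨s, hsG, hs⟩ := (Ideal.span_eq_top_iff_finite G).mp hG
  refine ⟨s.card, fun i => ((s.equivFin.symm i : s) : R), ?_, fun i => ?_⟩
  · have hrange : Set.range (fun i => ((s.equivFin.symm i : s) : R)) = (s : Set R) := by
      ext x
      constructor
      · rintro ⟨i, rfl⟩; exact (s.equivFin.symm i).2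
      · intro hx
        exact ⟨s.equivFin ⟨x, hx⟩, by simp⟩
    rw [hrange, hs]
  · have := hsG (s.equivFin.symm i).2
    rw [hGd] at this
    exact this

end cover

end Groth.Agent.Lib.Lead.Hor
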