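import Groth.Agent.Lib.Lead.Hor.HorP

/-!
# The closed fibre: lattice pairs over a field

For a nonzero lattice pair over a field there is a twist `j`, a section `σ` of both lattices and a
functional `τ` in both dual lattices with `τ σ = 1`, and moreover `L = M + T^j N`
(i.e. `H¹` of the twisted bundle vanishes).
-/

set_option autoImplicit false
set_option linter.style.haveILetI false

namespace Groth.Agent.Lib.Lead.Hor

open Polynomial LaurentPolynomial

section top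
variable {k : Type*} [Field k]

/-- if `X ∤ q` and `toLaurent q * z` is a polynomial in `T`, so is `z`. -/
lemma isT_of_isT_toLaurent_mul {q : k[X]} (hq : q.coeff 0 ≠ 0) {z : k[T;T⁻¹]}
    (h : IsT (toLaurent q * z)) : IsT z := by
  obtain ⟨n, f, hf⟩ := exists_T_pow z
  obtain ⟨g, hg⟩ := exists_of_isT h
  have h1 : q * f = g * X ^ n := by
    apply Polynomial.toLaurent_injective
    rw [map_mul, map_mul, hf, hg, Polynomial.toLaurent_X_pow, mul_assoc]
  have hX : ¬ (X : k[X]) ∣ q := by rwa [Polynomial.X_dvd_iff]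
  have h2 : (X : k[X]) ^ n ∣ f :=
    Polynomial.prime_X.pow_dvd_of_dvd_mul_left n hX ⟨g, by rw [h1, mul_comm]⟩
  obtain ⟨f', rfl⟩ := h2
  rw [map_mul, Polynomial.toLaurent_X_pow, mul_comm] at hf
  have : toLaurent f' = z := (isUnit_T (n : ℤ)).mul_left_injective hf
  rw [← this]; exact isT_toLaurent f'

lemma isS_of_isS_invert_toLaurent_mul {q : k[X]} (hq : q.coeff 0 ≠ 0) {z : k[T;T⁻¹]}
    (h : IsS (invert (toLaurent q) * z)) : IsS z := by
  rw [isS_iff_isT_invert] at h ⊢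
  have e : invert (invert (toLaurent q)) = toLaurent q := involutive_invert _
  rw [map_mul, e] at h
  exact isT_of_isT_toLaurent_mul hq h

lemma isS_invert_toLaurent {B : Type*} [CommRing B] (p : B[X]) : IsS (invert (toLaurent p)) :=
  isT_iff_isS_invert.mp (isT_toLaurent p)

lemma toLaurent_eq_invert_reverse {B : Type*} [CommRing B] (p : B[X]) :
    toLaurent p = invert (toLaurent p.reverse) * T (p.natDegree : ℤ) := by
  have h := toLaurent_reverse p
  have e : invert (invert (toLaurent p)) = toLaurent p := involutive_invert _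
  rw [h, map_mul, invert_T, e, mul_assoc, ← T_add, neg_add_cancel, T_zero, mul_one]

end top

section main
variable {k : Type*} [Field k] {L : Type*} [AddCommGroup L] [Module k[T;T⁻¹] L]
  [Module k L] [IsScalarTower k k[T;T⁻¹] L] (P : LatPair k L)

/-- admissible twists: there is a nonzero functional in `M^* ∩ (T^e N)^*` -/
def Adm (e : ℤ) : Prop :=
  ∃ f : L →ₗ[k[T;T⁻¹]] k[T;T⁻¹], f ≠ 0 ∧ P.MDual f ∧ P.NDual e f

omit [Module k L] [IsScalarTower k k[T;T⁻¹] L] in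
lemma adm_nonempty [Nontrivial L] : ∃ e, Adm P e := by
  obtain ⟨x, hx⟩ := exists_ne (0 : L)
  have : ∃ i, P.φ i ≠ 0 := by
    by_contra h
    push Not at h
    apply hx
    rw [← P.recM x]
    exact Finset.sum_eq_zero fun i _ => by rw [h i, LinearMap.zero_apply, zero_smul]
  obtain ⟨i, hi⟩ := this
  obtain ⟨c, hc⟩ := exists_isS_T_mul_fin (fun l => P.φ i (P.n l))
  exact ⟨-(c : ℤ), P.φ i, hi, P.mDual_φ i, fun l => hc l c le_rfl⟩

omit [Module k L] [IsScalarTower k k[T;T⁻¹] L] in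
lemma adm_bdd : ∃ b : ℤ, ∀ e, Adm P e → e ≤ b := by
  obtain ⟨c, hc⟩ := P.exists_inM_T_smul_fin P.n
  refine ⟨c, fun e ⟨f, hf0, hfM, hfN⟩ => ?_⟩
  by_contra hlt
  push Not at hlt
  apply hf0
  apply P.dual_ext_n
  intro l
  rw [LinearMap.zero_apply]
  have h1 : IsT (f ((T (c : ℤ) : k[T;T⁻¹]) • P.n l)) := P.apply_isT hfM (hc l c le_rfl)
  rw [map_smul, smul_eq_mul] at h1
  have h2 : T (c : ℤ) * f (P.n l) = T ((c : ℤ) - e) * (T e * f (P.n l)) := by
    rw [← mul_assoc, T_mul_T]; congr 2; ring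
  rw [h2] at h1
  have h3 := eq_zero_of_isS_of_isT_T_mul (hfN l) (by omega) h1
  have : f (P.n l) = T (-e) * (T e * f (P.n l)) := (T_neg_mul_T_mul e _).symm
  rw [this, h3, mul_zero]

omit [Module k L] [IsScalarTower k k[T;T⁻¹] L] in
lemma exists_inM_apply_eq_one {e₀ : ℤ} (hmax : ¬ Adm P (e₀ + 1))
    {τ : L →ₗ[k[T;T⁻¹]] k[T;T⁻¹]} (hτ0 : τ ≠ 0) (hτM : P.MDual τ) (hτN : P.NDual e₀ τ) :
    ∃ x, P.InM x ∧ τ x = 1 := by
  classical
  let I : Ideal k[X] :=
    { carrier := {p | ∃ x, P.InM x ∧ τ x = toLaurent p}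
      add_mem' := by
        rintro p q ⟨x, hx, hxp⟩ ⟨y, hy, hyq⟩
        exact ⟨x + y, P.inM_add hx hy, by rw [map_add, map_add, hxp, hyq]⟩
      zero_mem' := ⟨0, P.inM_zero, by rw [map_zero, map_zero]⟩
      smul_mem' := by
        rintro c p ⟨x, hx, hxp⟩
        exact ⟨toLaurent c • x, P.inM_smul (isT_toLaurent c) hx, by
          rw [map_smul, smul_eq_mul, hxp, smul_eq_mul, map_mul]⟩ }
  have hI : ∀ p, p ∈ I ↔ ∃ x, P.InM x ∧ τ x = toLaurent p := fun p => Iff.rfl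
  obtain ⟨p₀, hp₀⟩ : ∃ p₀, I = Ideal.span {p₀} :=
    ⟨_, (Ideal.span_singleton_generator I).symm⟩
  have hr : ∀ i, ∃ q : k[X], τ (P.m i) = toLaurent (p₀ * q) := by
    intro i
    obtain ⟨r, hr⟩ := exists_of_isT (hτM i)
    have : r ∈ I := (hI r).mpr ⟨P.m i, P.inM_m i, hr.symm⟩
    rw [hp₀, Ideal.mem_span_singleton] at this
    obtain ⟨q, rfl⟩ := this
    exact ⟨q, hr.symm⟩
  choose q hq using hr
  obtain ⟨τ', hτ'⟩ : ∃ τ' : L →ₗ[k[T;T⁻¹]] k[T;T⁻¹], τ' = ∑ i, toLaurent (q i) • P.φ i :=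
    ⟨_, rfl⟩
  have hτ'M : P.MDual τ' := by
    rw [hτ']
    exact P.mDual_sum _ _ fun i _ => P.mDual_smul (isT_toLaurent _) (P.mDual_φ i)
  have hττ' : τ = toLaurent p₀ • τ' := by
    refine LinearMap.ext fun x => ?_
    rw [P.apply_eq_sum_m τ x, LinearMap.smul_apply, hτ', LinearMap.sum_apply, smul_eq_mul,
      Finset.mul_sum]
    refine Finset.sum_congr rfl fun i _ => ?_
    rw [LinearMap.smul_apply, smul_eq_mul, hq i, map_mul]; ring
  have hp₀0 : p₀ ≠ 0 := by
    rintro rfl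
    apply hτ0
    rw [hττ', map_zero, zero_smul]
  have hτ'0 : τ' ≠ 0 := by
    intro h; apply hτ0; rw [hττ', h, smul_zero]
  have hunit : IsUnit p₀ := by
    by_contra hnu
    by_cases hX : (X : k[X]) ∣ p₀
    · obtain ⟨p₂, rfl⟩ := hX
      apply hmax
      refine ⟨toLaurent p₂ • τ', ?_, P.mDual_smul (isT_toLaurent _) hτ'M, ?_⟩
      · intro h
        apply hτ0
        rw [hττ', map_mul, mul_smul, h, smul_zero]
      · intro l
        have := hτN l
        rw [hττ', LinearMap.smul_apply, smul_eq_mul, map_mul, Polynomial.toLaurent_X] at this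
        rw [LinearMap.smul_apply, smul_eq_mul]
        have e : T (e₀ + 1) * (toLaurent p₂ * τ' (P.n l)) =
            T e₀ * (T 1 * toLaurent p₂ * τ' (P.n l)) := by
          rw [T_add]; ring
        rw [e]; exact this
    · have hc0 : p₀.coeff 0 ≠ 0 := by rwa [Polynomial.X_dvd_iff] at hX
      have hd : 1 ≤ p₀.natDegree := by
        by_contra hd
        have hd0 : p₀.natDegree = 0 := by omega
        apply hnu
        rw [Polynomial.eq_C_of_natDegree_eq_zero hd0]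
        exact Polynomial.isUnit_C.mpr (isUnit_iff_ne_zero.mpr hc0)
      apply hmax
      refine ⟨τ', hτ'0, hτ'M, fun l => ?_⟩
      have h1 := hτN l
      rw [hττ', LinearMap.smul_apply, smul_eq_mul, toLaurent_eq_invert_reverse p₀] at h1
      have h2 : T e₀ * (invert (toLaurent p₀.reverse) * T (p₀.natDegree : ℤ) * τ' (P.n l)) =
          invert (toLaurent p₀.reverse) * (T (p₀.natDegree : ℤ) * (T e₀ * τ' (P.n l))) := by
        ring
      rw [h2] at h1
      have hrev : p₀.reverse.coeff 0 ≠ 0 := by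
        rw [Polynomial.coeff_zero_reverse]; exact Polynomial.leadingCoeff_ne_zero.mpr hp₀0
      have h3 := isS_of_isS_invert_toLaurent_mul hrev h1
      have h4 : T (e₀ + 1) * τ' (P.n l) =
          T (1 - (p₀.natDegree : ℤ)) * (T (p₀.natDegree : ℤ) * (T e₀ * τ' (P.n l))) := by
        rw [← mul_assoc, ← mul_assoc, T_mul_T, T_mul_T]; congr 2; ring
      rw [h4]; exact isS_T_mul (by omega) h3
  have h1 : (1 : k[X]) ∈ I := by
    rw [hp₀, Ideal.mem_span_singleton]; exact hunit.dvd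
  obtain ⟨x, hx, hx1⟩ := (hI 1).mp h1
  exact ⟨x, hx, by rw [hx1, map_one]⟩

omit [Module k L] [IsScalarTower k k[T;T⁻¹] L] in
lemma exists_inN_apply_eq_one {e₀ : ℤ} (hmax : ¬ Adm P (e₀ + 1))
    {τ : L →ₗ[k[T;T⁻¹]] k[T;T⁻¹]} (hτ0 : τ ≠ 0) (hτM : P.MDual τ) (hτN : P.NDual e₀ τ)
    {x₀ : L} (hx₀1 : τ x₀ = 1) :
    ∃ y, P.InN e₀ y ∧ τ y = 1 := by
  have : ∃ l, ¬ IsS (T (e₀ + 1) * τ (P.n l)) := by
    by_contra h; push Not at h
    exact hmax ⟨τ, hτ0, hτM, h⟩
  obtain ⟨l, hl⟩ := this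
  obtain ⟨u, hu⟩ : ∃ u, u = T e₀ * τ (P.n l) := ⟨_, rfl⟩
  have huS : IsS u := hu ▸ hτN l
  have hu0 : u.coeff 0 ≠ 0 := by
    intro h0
    apply hl
    intro i hi
    have e : T (e₀ + 1) * τ (P.n l) = T 1 * u := by
      rw [hu, ← mul_assoc, T_mul_T]; congr 2; ring
    rw [e, coeff_T_mul]
    by_cases hi1 : i = 1
    · subst hi1; simpa using h0
    · exact huS _ (by omega)
  obtain ⟨c, hc⟩ := P.exists_inN_T_smul e₀ x₀
  obtain ⟨u₀, hu₀⟩ := exists_of_isT (isS_iff_isT_invert.mp huS)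
  have hu' : u = invert (toLaurent u₀) := by
    rw [hu₀]; exact (involutive_invert u).symm
  have hu₀0 : u₀.coeff 0 ≠ 0 := by
    rw [← coeff_toLaurent_nat, hu₀, invert_apply]; simpa using hu0
  have hcop : IsCoprime ((X : k[X]) ^ c) u₀ := by
    apply IsCoprime.pow_left
    rw [Polynomial.irreducible_X.coprime_iff_not_dvd, Polynomial.X_dvd_iff]
    exact hu₀0
  obtain ⟨a, b, hab⟩ := hcop
  refine ⟨invert (toLaurent a) • ((T (-(c : ℤ)) : k[T;T⁻¹]) • x₀) +
      invert (toLaurent b) • ((T e₀ : k[T;T⁻¹]) • P.n l), ?_, ?_⟩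
  · exact P.inN_add (P.inN_smul (isS_invert_toLaurent a) (hc c le_rfl))
      (P.inN_smul (isS_invert_toLaurent b) (P.inN_Tn e₀ l))
  · have h1 : invert (toLaurent (a * X ^ c + b * u₀)) = (1 : k[T;T⁻¹]) := by
      rw [hab, map_one, map_one]
    rw [map_add, map_mul, map_mul, Polynomial.toLaurent_X_pow, map_add, map_mul, map_mul,
      invert_T] at h1
    rw [map_add, map_smul, map_smul, map_smul, map_smul, hx₀1, smul_eq_mul, smul_eq_mul,
      smul_eq_mul, smul_eq_mul, mul_one, ← hu, hu']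
    exact h1

lemma serre_duality {j : ℤ}
    (hmax : ∀ f : L →ₗ[k[T;T⁻¹]] k[T;T⁻¹], P.MDual f → P.NDual (j + 1) f → f = 0) :
    ∀ x : L, ∃ a b, P.InM a ∧ P.InN j b ∧ x = a + (T (-1) : k[T;T⁻¹]) • b := by
  classical
  let W : Submodule k L :=
    { carrier := {x | ∃ a b, P.InM a ∧ P.InN j b ∧ x = a + (T (-1) : k[T;T⁻¹]) • b}
      add_mem' := by
        rintro x y ⟨a, b, ha, hb, rfl⟩ ⟨a', b', ha', hb', rfl⟩
        exact ⟨a + a', b + b', P.inM_add ha ha', P.inN_add hb hb', by rw [smul_add]; abel⟩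
      zero_mem' := ⟨0, 0, P.inM_zero, P.inN_zero j, by simp⟩
      smul_mem' := by
        rintro r x ⟨a, b, ha, hb, rfl⟩
        refine ⟨(LaurentPolynomial.C r : k[T;T⁻¹]) • a, (LaurentPolynomial.C r : k[T;T⁻¹]) • b,
          P.inM_smul (isT_C r) ha, P.inN_smul (isS_C r) hb, ?_⟩
        rw [← algebraMap_smul k[T;T⁻¹] r (a + (T (-1) : k[T;T⁻¹]) • b),
          ← LaurentPolynomial.C_eq_algebraMap, smul_add,
          smul_comm (LaurentPolynomial.C r : k[T;T⁻¹]) (T (-1) : k[T;T⁻¹]) b] }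
  have hW : ∀ x, x ∈ W ↔ ∃ a b, P.InM a ∧ P.InN j b ∧ x = a + (T (-1) : k[T;T⁻¹]) • b :=
    fun x => Iff.rfl
  by_cases hWtop : W = ⊤
  · intro x
    have : x ∈ W := by rw [hWtop]; trivial
    exact (hW x).mp this
  exfalso
  obtain ⟨lam, hlam0, hlamW⟩ :=
    Submodule.exists_dual_map_eq_bot_of_lt_top (lt_top_iff_ne_top.mpr hWtop) inferInstance
  have hker : ∀ w ∈ W, lam w = 0 := fun w hw => by
    have : lam w ∈ W.map lam := Submodule.mem_map_of_mem hw
    rw [hlamW] at this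
    exact (Submodule.mem_bot k).mp this
  have inW_of_inM : ∀ a, P.InM a → a ∈ W := fun a ha =>
    (hW a).mpr ⟨a, 0, ha, P.inN_zero j, by simp⟩
  have inW_of_inN : ∀ b, P.InN j b → (T (-1) : k[T;T⁻¹]) • b ∈ W := fun b hb =>
    (hW _).mpr ⟨0, b, P.inM_zero, hb, by simp⟩
  have hfin : ∀ l : L, (Function.support fun i : ℤ => lam ((T (-i - 1) : k[T;T⁻¹]) • l)).Finite := by
    intro l
    obtain ⟨c₁, h₁⟩ := P.exists_inM_T_smul l
    obtain ⟨c₂, h₂⟩ := P.exists_inN_T_smul j l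
    refine (Set.finite_Ioo (-(c₁ : ℤ) - 1) c₂).subset ?_
    intro i hi
    rw [Function.mem_support] at hi
    constructor
    · by_contra hlt
      push Not at hlt
      apply hi
      apply hker
      apply inW_of_inM
      exact h₁ (-i - 1) (by omega)
    · by_contra hge
      push Not at hge
      apply hi
      have : (T (-i - 1) : k[T;T⁻¹]) • l = (T (-1) : k[T;T⁻¹]) • ((T (-i) : k[T;T⁻¹]) • l) := by
        rw [smul_smul, T_mul_T]; congr 2; ring
      rw [this]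
      apply hker
      apply inW_of_inN
      exact h₂ i hge
  let Φ0 : L → k[T;T⁻¹] := fun l =>
    AddMonoidAlgebra.ofCoeff (Finsupp.ofSupportFinite _ (hfin l))
  have coeffΦ : ∀ l i, (Φ0 l).coeff i = lam ((T (-i - 1) : k[T;T⁻¹]) • l) := by
    intro l i
    show (AddMonoidAlgebra.ofCoeff (Finsupp.ofSupportFinite _ (hfin l))).coeff i = _
    rw [AddMonoidAlgebra.coeff_ofCoeff]
    rfl
  have hadd : ∀ x y, Φ0 (x + y) = Φ0 x + Φ0 y := by
    intro x y
    ext i
    rw [AddMonoidAlgebra.coeff_add, Finsupp.add_apply, coeffΦ, coeffΦ, coeffΦ, smul_add, map_add]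
  have hsmul : ∀ (a : k[T;T⁻¹]) x, Φ0 (a • x) = a * Φ0 x := by
    intro a x
    induction a using LaurentPolynomial.induction_on' with
    | add p q hp hq => rw [add_smul, hadd, hp, hq, add_mul]
    | C_mul_T n r =>
      ext i
      have e : (T (-i - 1) : k[T;T⁻¹]) • (LaurentPolynomial.C r * T n) • x =
          r • ((T (-(i - n) - 1) : k[T;T⁻¹]) • x) := by
        rw [← algebraMap_smul k[T;T⁻¹] r ((T (-(i - n) - 1) : k[T;T⁻¹]) • x),
          ← LaurentPolynomial.C_eq_algebraMap, smul_smul, smul_smul]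
        congr 1
        rw [mul_left_comm, T_mul_T]; congr 2; ring
      rw [coeffΦ, mul_assoc, ← LaurentPolynomial.smul_eq_C_mul r (T n * Φ0 x),
        AddMonoidAlgebra.coeff_smul, Finsupp.smul_apply, coeff_T_mul, coeffΦ, e, map_smul]
  let Φ : L →ₗ[k[T;T⁻¹]] k[T;T⁻¹] :=
    { toFun := Φ0
      map_add' := hadd
      map_smul' := fun a x => by
        simp only [RingHom.id_apply, smul_eq_mul]; exact hsmul a x }
  have hΦM : P.MDual Φ := by
    intro i' i hi
    show (Φ0 (P.m i')).coeff i = 0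
    rw [coeffΦ]
    apply hker
    apply inW_of_inM
    exact P.inM_smul (isT_T (by omega)) (P.inM_m i')
  have hΦN : P.NDual (j + 1) Φ := by
    intro l i hi
    show (T (j + 1) * Φ0 (P.n l)).coeff i = 0
    rw [coeff_T_mul, coeffΦ]
    have : (T (-(i - (j + 1)) - 1) : k[T;T⁻¹]) • P.n l =
        (T (-1) : k[T;T⁻¹]) • ((T (-(i - 1)) : k[T;T⁻¹]) • ((T j : k[T;T⁻¹]) • P.n l)) := by
      rw [smul_smul, smul_smul, T_mul_T, T_mul_T]; congr 2; ring
    rw [this]
    apply hker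
    apply inW_of_inN
    exact P.inN_smul (isS_T (by omega)) (P.inN_Tn j l)
  have hΦ0 : Φ = 0 := hmax Φ hΦM hΦN
  apply hlam0
  refine LinearMap.ext fun l => ?_
  have h1 : (Φ l).coeff (-1) = lam l := by
    show (Φ0 l).coeff (-1) = _
    rw [coeffΦ, show (-(-1 : ℤ) - 1) = 0 by ring, T_zero, one_smul]
  rw [LinearMap.zero_apply, ← h1, hΦ0]
  rfl

/-- **Existence of a good twist** on the closed fibre. -/
theorem exists_good_twist [Nontrivial L] :
    ∃ (j : ℤ) (σ : L) (τ : L →ₗ[k[T;T⁻¹]] k[T;T⁻¹]), P.InM σ ∧ P.InN j σ ∧ P.MDual τ ∧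
      P.NDual j τ ∧ τ σ = 1 ∧ ∀ x : L, ∃ a b, P.InM a ∧ P.InN j b ∧ x = a + b := by
  obtain ⟨e₀, ⟨τ, hτ0, hτM, hτN⟩, hmax⟩ :=
    Int.exists_greatest_of_bdd (adm_bdd P) (adm_nonempty P)
  have hmax' : ¬ Adm P (e₀ + 1) := fun h => by have := hmax _ h; omega
  obtain ⟨x₀, hx₀, hx₀1⟩ := exists_inM_apply_eq_one P hmax' hτ0 hτM hτN
  obtain ⟨y₀, hy₀, hy₀1⟩ := exists_inN_apply_eq_one P hmax' hτ0 hτM hτN hx₀1
  have hSD := serre_duality P (j := e₀) (fun f hfM hfN => by
    by_contra h; exact hmax' ⟨f, h, hfM, hfN⟩)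
  obtain ⟨a, b, ha, hb, hab⟩ := hSD (x₀ - y₀)
  have h1 : τ a + T (-1) * τ b = 0 := by
    have := congrArg τ hab
    rw [map_sub, hx₀1, hy₀1, sub_self, map_add, map_smul, smul_eq_mul] at this
    exact this.symm
  have hτb : τ b = 0 := by
    apply eq_zero_of_isS_of_isT_T_mul (P.apply_isS hτN hb) (n := -1) (by omega)
    have : T (-1) * τ b = -τ a := eq_neg_of_add_eq_zero_right h1
    rw [this]; exact isT_neg (P.apply_isT hτM ha)
  have hτa : τ a = 0 := by rw [hτb, mul_zero, add_zero] at h1; exact h1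
  refine ⟨e₀, x₀ - a, τ, P.inM_sub hx₀ ha, ?_, hτM, hτN, by rw [map_sub, hx₀1, hτa, sub_zero], ?_⟩
  · have : x₀ - a = y₀ + (T (-1) : k[T;T⁻¹]) • b := by
      have h2 : x₀ = y₀ + (a + (T (-1) : k[T;T⁻¹]) • b) := by rw [← hab]; abel
      rw [h2]; abel
    rw [this]; exact P.inN_add hy₀ (P.inN_smul (isS_T (by omega)) hb)
  · intro x
    obtain ⟨a', b', ha', hb', rfl⟩ := hSD x
    exact ⟨a', _, ha', P.inN_smul (isS_T (by omega)) hb', rfl⟩

end main

end Groth.Agent.Lib.Lead.Hor
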