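import Mathlib

/-!
# Laurent polynomial basics for the Horrocks / Quillen development

`IsT x` : the Laurent polynomial `x` is a polynomial in `T`;
`IsS x` : the Laurent polynomial `x` is a polynomial in `T⁻¹`.
-/

set_option autoImplicit false
set_option linter.style.haveILetI false

namespace Groth.Agent.Lib.Lead.Hor

open Polynomial LaurentPolynomial

section basics
variable {B : Type*} [CommRing B]

/-- Laurent polynomials that are polynomials in `T`. -/
def IsT (x : B[T;T⁻¹]) : Prop := ∀ i : ℤ, i < 0 → x.coeff i = 0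

/-- Laurent polynomials that are polynomials in `T⁻¹`. -/
def IsS (x : B[T;T⁻¹]) : Prop := ∀ i : ℤ, 0 < i → x.coeff i = 0

lemma coeff_T_mul (n : ℤ) (x : B[T;T⁻¹]) (i : ℤ) : (T n * x).coeff i = x.coeff (i - n) := by
  have h := AddMonoidAlgebra.coeff_single_mul_apply x (1 : B) n i
  rw [one_mul] at h
  have h2 : (T n : B[T;T⁻¹]) = AddMonoidAlgebra.single n 1 := rfl
  rw [h2, h]
  congr 1
  ring

lemma coeff_toLaurent_nat (p : B[X]) (n : ℕ) : (toLaurent p).coeff (n : ℤ) = p.coeff n := by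
  induction p using Polynomial.induction_on' with
  | add p q hp hq =>
    rw [map_add, AddMonoidAlgebra.coeff_add, Finsupp.add_apply, hp, hq, Polynomial.coeff_add]
  | monomial k a =>
    rw [Polynomial.toLaurent_C_mul_T, ← LaurentPolynomial.single_eq_C_mul_T,
      AddMonoidAlgebra.coeff_single, Finsupp.single_apply, Polynomial.coeff_monomial]
    simp only [Nat.cast_inj]

lemma coeff_toLaurent_neg (p : B[X]) (i : ℤ) (hi : i < 0) : (toLaurent p).coeff i = 0 := by
  by_contra h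
  have h1 : i ∈ (toLaurent p).coeff.support := Finsupp.mem_support_iff.mpr h
  rw [LaurentPolynomial.support_coeff_toLaurent] at h1
  obtain ⟨n, -, hn⟩ := Finset.mem_map.mp h1
  have : (0 : ℤ) ≤ i := by rw [← hn]; exact Int.natCast_nonneg n
  omega

lemma isT_toLaurent (p : B[X]) : IsT (toLaurent p) := fun i hi => coeff_toLaurent_neg p i hi

lemma exists_of_isT {x : B[T;T⁻¹]} (h : IsT x) : ∃ p : B[X], toLaurent p = x := by
  obtain ⟨n, p, hp⟩ := exists_T_pow x
  have hdvd : (X : B[X]) ^ n ∣ p := by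
    rw [Polynomial.X_pow_dvd_iff]
    intro d hd
    rw [← coeff_toLaurent_nat, hp, ← T_mul, coeff_T_mul]
    apply h
    omega
  obtain ⟨q, rfl⟩ := hdvd
  refine ⟨q, ?_⟩
  rw [map_mul, Polynomial.toLaurent_X_pow, T_mul] at hp
  exact (isUnit_T (n : ℤ)).mul_left_injective hp

lemma isT_iff {x : B[T;T⁻¹]} : IsT x ↔ ∃ p : B[X], toLaurent p = x :=
  ⟨exists_of_isT, fun ⟨p, hp⟩ => hp ▸ isT_toLaurent p⟩

lemma isS_iff_isT_invert {x : B[T;T⁻¹]} : IsS x ↔ IsT (invert x) := by
  constructor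
  · intro h i hi
    rw [invert_apply]
    exact h _ (by omega)
  · intro h i hi
    have := h (-i) (by omega)
    rwa [invert_apply, neg_neg] at this

lemma isT_iff_isS_invert {x : B[T;T⁻¹]} : IsT x ↔ IsS (invert x) := by
  rw [isS_iff_isT_invert]
  have : invert (invert x) = x := involutive_invert x
  rw [this]

lemma isT_zero : IsT (0 : B[T;T⁻¹]) := fun _ _ => rfl
lemma isS_zero : IsS (0 : B[T;T⁻¹]) := fun _ _ => rfl

lemma isT_add {x y : B[T;T⁻¹]} (hx : IsT x) (hy : IsT y) : IsT (x + y) := fun i hi => by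
  rw [AddMonoidAlgebra.coeff_add, Finsupp.add_apply, hx i hi, hy i hi, add_zero]

lemma isT_neg {x : B[T;T⁻¹]} (hx : IsT x) : IsT (-x) := fun i hi => by
  rw [AddMonoidAlgebra.coeff_neg, Finsupp.neg_apply, hx i hi, neg_zero]

lemma isT_sub {x y : B[T;T⁻¹]} (hx : IsT x) (hy : IsT y) : IsT (x - y) := by
  rw [sub_eq_add_neg]; exact isT_add hx (isT_neg hy)

lemma isT_mul {x y : B[T;T⁻¹]} (hx : IsT x) (hy : IsT y) : IsT (x * y) := by
  obtain ⟨p, rfl⟩ := exists_of_isT hx
  obtain ⟨q, rfl⟩ := exists_of_isT hy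
  rw [← map_mul]
  exact isT_toLaurent _

lemma isT_one : IsT (1 : B[T;T⁻¹]) := by
  have := isT_toLaurent (1 : B[X]); rwa [map_one] at this

lemma isT_C (a : B) : IsT (C a : B[T;T⁻¹]) := by
  rw [← Polynomial.toLaurent_C]; exact isT_toLaurent _

lemma isT_T {n : ℤ} (hn : 0 ≤ n) : IsT (T n : B[T;T⁻¹]) := by
  obtain ⟨k, rfl⟩ := Int.eq_ofNat_of_zero_le hn
  rw [← Polynomial.toLaurent_X_pow]; exact isT_toLaurent _

lemma isT_sum {ι : Type*} (s : Finset ι) (f : ι → B[T;T⁻¹]) (h : ∀ i ∈ s, IsT (f i)) :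
    IsT (∑ i ∈ s, f i) := by
  classical
  induction s using Finset.induction_on with
  | empty => simpa using isT_zero
  | insert a s ha ih =>
    rw [Finset.sum_insert ha]
    exact isT_add (h a (Finset.mem_insert_self a s))
      (ih fun i hi => h i (Finset.mem_insert_of_mem hi))

lemma isS_add {x y : B[T;T⁻¹]} (hx : IsS x) (hy : IsS y) : IsS (x + y) := fun i hi => by
  rw [AddMonoidAlgebra.coeff_add, Finsupp.add_apply, hx i hi, hy i hi, add_zero]

lemma isS_neg {x : B[T;T⁻¹]} (hx : IsS x) : IsS (-x) := fun i hi => by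
  rw [AddMonoidAlgebra.coeff_neg, Finsupp.neg_apply, hx i hi, neg_zero]

lemma isS_sub {x y : B[T;T⁻¹]} (hx : IsS x) (hy : IsS y) : IsS (x - y) := by
  rw [sub_eq_add_neg]; exact isS_add hx (isS_neg hy)

lemma isS_mul {x y : B[T;T⁻¹]} (hx : IsS x) (hy : IsS y) : IsS (x * y) := by
  rw [isS_iff_isT_invert] at *
  rw [map_mul]; exact isT_mul hx hy

lemma isS_one : IsS (1 : B[T;T⁻¹]) := by
  rw [isS_iff_isT_invert, map_one]; exact isT_one

lemma isS_C (a : B) : IsS (C a : B[T;T⁻¹]) := by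
  rw [isS_iff_isT_invert, invert_C]; exact isT_C a

lemma isS_T {n : ℤ} (hn : n ≤ 0) : IsS (T n : B[T;T⁻¹]) := by
  rw [isS_iff_isT_invert, invert_T]; exact isT_T (by omega)

lemma isS_sum {ι : Type*} (s : Finset ι) (f : ι → B[T;T⁻¹]) (h : ∀ i ∈ s, IsS (f i)) :
    IsS (∑ i ∈ s, f i) := by
  classical
  induction s using Finset.induction_on with
  | empty => simpa using isS_zero
  | insert a s ha ih =>
    rw [Finset.sum_insert ha]
    exact isS_add (h a (Finset.mem_insert_self a s))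
      (ih fun i hi => h i (Finset.mem_insert_of_mem hi))

lemma isT_T_mul {n : ℤ} (hn : 0 ≤ n) {x : B[T;T⁻¹]} (hx : IsT x) : IsT (T n * x) :=
  isT_mul (isT_T hn) hx

lemma isS_T_mul {n : ℤ} (hn : n ≤ 0) {x : B[T;T⁻¹]} (hx : IsS x) : IsS (T n * x) :=
  isS_mul (isS_T hn) hx

/-- Every Laurent polynomial becomes a polynomial in `T` after multiplying by a high power
of `T`. -/
lemma exists_isT_T_mul (x : B[T;T⁻¹]) : ∃ n : ℕ, ∀ n' : ℤ, (n : ℤ) ≤ n' → IsT (T n' * x) := by
  obtain ⟨n, p, hp⟩ := exists_T_pow x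
  refine ⟨n, fun n' hn' => ?_⟩
  have : T n' * x = T (n' - n) * toLaurent p := by
    rw [hp, ← T_mul (n : ℤ) x, ← mul_assoc, ← T_add]; congr 2; ring
  rw [this]
  exact isT_T_mul (by omega) (isT_toLaurent p)

lemma exists_isS_T_mul (x : B[T;T⁻¹]) : ∃ n : ℕ, ∀ n' : ℤ, (n : ℤ) ≤ n' → IsS (T (-n') * x) := by
  obtain ⟨n, hn⟩ := exists_isT_T_mul (invert x)
  refine ⟨n, fun n' hn' => ?_⟩
  rw [isS_iff_isT_invert, map_mul, invert_T, neg_neg]
  exact hn n' hn'

lemma exists_isT_T_mul_fin {ι : Type*} [Finite ι] (f : ι → B[T;T⁻¹]) :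
    ∃ n : ℕ, ∀ i, ∀ n' : ℤ, (n : ℤ) ≤ n' → IsT (T n' * f i) := by
  classical
  cases nonempty_fintype ι
  choose N hN using fun i => exists_isT_T_mul (f i)
  refine ⟨Finset.univ.sup N, fun i n' hn' => hN i n' ?_⟩
  have : N i ≤ Finset.univ.sup N := Finset.le_sup (Finset.mem_univ i)
  omega

lemma exists_isS_T_mul_fin {ι : Type*} [Finite ι] (f : ι → B[T;T⁻¹]) :
    ∃ n : ℕ, ∀ i, ∀ n' : ℤ, (n : ℤ) ≤ n' → IsS (T (-n') * f i) := by
  classical
  cases nonempty_fintype ι
  choose N hN using fun i => exists_isS_T_mul (f i)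
  refine ⟨Finset.univ.sup N, fun i n' hn' => hN i n' ?_⟩
  have : N i ≤ Finset.univ.sup N := Finset.le_sup (Finset.mem_univ i)
  omega

/-- `B[T⁻¹] ∩ T^{-n} B[T] = 0` for `n > 0`. -/
lemma eq_zero_of_isS_of_isT_T_mul {y : B[T;T⁻¹]} (hy : IsS y) {n : ℤ} (hn : n < 0)
    (h : IsT (T n * y)) : y = 0 := by
  ext i
  rw [AddMonoidAlgebra.coeff_zero, Finsupp.zero_apply]
  by_cases hi : 0 < i
  · exact hy i hi
  · have := h (i + n) (by omega)
    rw [coeff_T_mul] at this
    rwa [show i + n - n = i by ring] at this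

lemma T_mul_T (m n : ℤ) : (T m * T n : B[T;T⁻¹]) = T (m + n) := (T_add m n).symm

lemma T_neg_mul_T_mul (n : ℤ) (x : B[T;T⁻¹]) : T (-n) * (T n * x) = x := by
  rw [← mul_assoc, T_mul_T, neg_add_cancel, T_zero, one_mul]

lemma T_mul_T_neg_mul (n : ℤ) (x : B[T;T⁻¹]) : T n * (T (-n) * x) = x := by
  rw [← mul_assoc, T_mul_T, add_neg_cancel, T_zero, one_mul]

end basics

section rho
variable {A B : Type*} [CommRing A] [CommRing B] (f : A →+* B)

/-- Coefficientwise map on Laurent polynomials. -/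
noncomputable def rho : A[T;T⁻¹] →+* B[T;T⁻¹] := AddMonoidAlgebra.mapRingHom ℤ f

lemma coeff_rho (x : A[T;T⁻¹]) (i : ℤ) : (rho f x).coeff i = f (x.coeff i) :=
  AddMonoidAlgebra.coeff_mapRingHom f x i

lemma rho_T (n : ℤ) : rho f (T n) = T n := by
  have h2 : (T n : A[T;T⁻¹]) = AddMonoidAlgebra.single n 1 := rfl
  rw [h2, rho, AddMonoidAlgebra.mapRingHom_single, map_one]; rfl

lemma rho_C (a : A) : rho f (LaurentPolynomial.C a) = LaurentPolynomial.C (f a) := by
  rw [← LaurentPolynomial.single_eq_C, rho, AddMonoidAlgebra.mapRingHom_single]; rfl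

lemma rho_toLaurent (p : A[X]) : rho f (toLaurent p) = toLaurent (p.map f) := by
  ext i
  rw [coeff_rho]
  by_cases hi : i < 0
  · rw [coeff_toLaurent_neg _ _ hi, coeff_toLaurent_neg _ _ hi, map_zero]
  · obtain ⟨n, rfl⟩ := Int.eq_ofNat_of_zero_le (by omega : 0 ≤ i)
    rw [coeff_toLaurent_nat, coeff_toLaurent_nat, Polynomial.coeff_map]

lemma rho_invert (x : A[T;T⁻¹]) : rho f (invert x) = invert (rho f x) := by
  ext i
  rw [coeff_rho, invert_apply, invert_apply, coeff_rho]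

lemma isT_rho {x : A[T;T⁻¹]} (hx : IsT x) : IsT (rho f x) := fun i hi => by
  rw [coeff_rho, hx i hi, map_zero]

lemma isS_rho {x : A[T;T⁻¹]} (hx : IsS x) : IsS (rho f x) := fun i hi => by
  rw [coeff_rho, hx i hi, map_zero]

lemma rho_surjective (hf : Function.Surjective f) : Function.Surjective (rho f) := by
  intro y
  induction y using LaurentPolynomial.induction_on' with
  | add p q hp hq =>
    obtain ⟨x, rfl⟩ := hp
    obtain ⟨y, rfl⟩ := hq
    exact ⟨x + y, map_add _ _ _⟩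
  | C_mul_T n a =>
    obtain ⟨a', rfl⟩ := hf a
    exact ⟨LaurentPolynomial.C a' * T n, by rw [map_mul, rho_C, rho_T]⟩

lemma exists_isT_rho_eq (hf : Function.Surjective f) {y : B[T;T⁻¹]} (hy : IsT y) :
    ∃ x : A[T;T⁻¹], IsT x ∧ rho f x = y := by
  obtain ⟨q, rfl⟩ := exists_of_isT hy
  obtain ⟨p, rfl⟩ := Polynomial.map_surjective f hf q
  exact ⟨toLaurent p, isT_toLaurent p, rho_toLaurent f p⟩

lemma exists_isS_rho_eq (hf : Function.Surjective f) {y : B[T;T⁻¹]} (hy : IsS y) :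
    ∃ x : A[T;T⁻¹], IsS x ∧ rho f x = y := by
  rw [isS_iff_isT_invert] at hy
  obtain ⟨x, hx, hxy⟩ := exists_isT_rho_eq f hf hy
  refine ⟨invert x, ?_, ?_⟩
  · rw [isS_iff_isT_invert]
    have : invert (invert x) = x := involutive_invert x
    rwa [this]
  · rw [rho_invert, hxy]; exact involutive_invert y

lemma rho_eq_zero_iff (x : A[T;T⁻¹]) : rho f x = 0 ↔ ∀ i, x.coeff i ∈ RingHom.ker f := by
  constructor
  · intro h i
    rw [RingHom.mem_ker, ← coeff_rho, h]; rfl
  · intro h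
    ext i
    rw [coeff_rho]
    exact h i

end rho

end Groth.Agent.Lib.Lead.Hor
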