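import Groth.Agent.Lib.Lead.Hor.HorA3

/-!
# Matrix models of vector bundles on `ℙ¹` and the matrix form of local Horrocks
-/

set_option autoImplicit false
set_option linter.style.haveILetI false

namespace Groth.Agent.Lib.Lead.Hor

open Polynomial LaurentPolynomial

universe u

/-- matrix model of a vector bundle on `ℙ¹_B` -/
structure MatModel (B : Type u) [CommRing B] where
  n : ℕ
  n' : ℕ
  E₀ : Matrix (Fin n) (Fin n) B[X]
  F₀ : Matrix (Fin n') (Fin n') B[X]
  G : Matrix (Fin n') (Fin n) B[T;T⁻¹]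
  G' : Matrix (Fin n) (Fin n') B[T;T⁻¹]
  hEG' : E₀.map toLaurent * G' = G'
  hG'G : G' * G = E₀.map toLaurent
  hGG' : G * G' = F₀.map (fun p => invert (toLaurent p))

namespace MatModel
variable {B : Type u} [CommRing B] (Q : MatModel B)

/-- the idempotent over the Laurent ring -/
noncomputable def E : Matrix (Fin Q.n) (Fin Q.n) B[T;T⁻¹] := Q.E₀.map toLaurent

lemma E_apply (i j : Fin Q.n) : Q.E i j = toLaurent (Q.E₀ i j) := rfl

lemma E_mul_G' : Q.E * Q.G' = Q.G' := Q.hEG'
lemma G'_mul_G : Q.G' * Q.G = Q.E := Q.hG'G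

lemma E_mul_E : Q.E * Q.E = Q.E := by
  calc Q.E * Q.E = Q.E * (Q.G' * Q.G) := by rw [Q.G'_mul_G]
    _ = (Q.E * Q.G') * Q.G := (Matrix.mul_assoc _ _ _).symm
    _ = Q.E := by rw [Q.E_mul_G', Q.G'_mul_G]

/-- the module: fixed vectors of `E` -/
noncomputable def Lmod : Submodule B[T;T⁻¹] (Fin Q.n → B[T;T⁻¹]) where
  carrier := {v | Q.E.mulVec v = v}
  add_mem' := by
    intro a b ha hb
    show Q.E.mulVec (a + b) = a + b
    rw [Matrix.mulVec_add, (ha : Q.E.mulVec a = a), (hb : Q.E.mulVec b = b)]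
  zero_mem' := Matrix.mulVec_zero _
  smul_mem' := by
    intro c v hv
    show Q.E.mulVec (c • v) = c • v
    rw [Matrix.mulVec_smul, (hv : Q.E.mulVec v = v)]

lemma mem_Lmod (v : Fin Q.n → B[T;T⁻¹]) : v ∈ Q.Lmod ↔ Q.E.mulVec v = v := Iff.rfl

/-- the lattice pair attached to a matrix model -/
noncomputable def toLatPair : LatPair B Q.Lmod where
  nM := Q.n
  nN := Q.n'
  m j := ⟨fun i => Q.E i j, by
    rw [mem_Lmod]
    funext i
    have := congrFun (congrFun Q.E_mul_E i) j
    rw [Matrix.mul_apply] at this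
    exact this⟩
  φ i := (LinearMap.proj i).comp Q.Lmod.subtype
  n l := ⟨fun i => Q.G' i l, by
    rw [mem_Lmod]
    funext i
    have := congrFun (congrFun Q.E_mul_G' i) l
    rw [Matrix.mul_apply] at this
    exact this⟩
  ψ l := ((LinearMap.proj l).comp (Matrix.mulVecLin Q.G)).comp Q.Lmod.subtype
  φm i j := by
    show IsT (Q.E i j)
    rw [E_apply]; exact isT_toLaurent _
  ψn l k := by
    show IsS ((Q.G.mulVec fun i => Q.G' i k) l)
    have : (Q.G.mulVec fun i => Q.G' i k) l = (Q.G * Q.G') l k := rfl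
    rw [this, Q.hGG', Matrix.map_apply]; exact isS_invert_toLaurent _
  recM v := by
    apply Subtype.ext
    funext i'
    have hv : ∑ k, Q.E i' k * (v : Fin Q.n → B[T;T⁻¹]) k = (v : Fin Q.n → B[T;T⁻¹]) i' :=
      congrFun ((Q.mem_Lmod v).mp v.2) i'
    simp only [Submodule.coe_sum, Finset.sum_apply, Submodule.coe_smul, Pi.smul_apply,
      smul_eq_mul, LinearMap.comp_apply, Submodule.subtype_apply, LinearMap.proj_apply]
    refine Eq.trans ?_ hv
    exact Finset.sum_congr rfl fun k _ => mul_comm _ _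
  recN v := by
    apply Subtype.ext
    funext i'
    have hv : Q.E.mulVec (v : Fin Q.n → B[T;T⁻¹]) i' = (v : Fin Q.n → B[T;T⁻¹]) i' :=
      congrFun ((Q.mem_Lmod v).mp v.2) i'
    have h2 : Q.G'.mulVec (Q.G.mulVec (v : Fin Q.n → B[T;T⁻¹])) i' =
        (v : Fin Q.n → B[T;T⁻¹]) i' := by
      rw [Matrix.mulVec_mulVec, Q.G'_mul_G]; exact hv
    have h3 : ∑ l, Q.G' i' l * (Q.G.mulVec (v : Fin Q.n → B[T;T⁻¹])) l =
        (v : Fin Q.n → B[T;T⁻¹]) i' := h2
    simp only [Submodule.coe_sum, Finset.sum_apply, Submodule.coe_smul, Pi.smul_apply,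
      smul_eq_mul, LinearMap.comp_apply, Submodule.subtype_apply, LinearMap.proj_apply,
      Matrix.mulVecLin_apply]
    refine Eq.trans ?_ h3
    exact Finset.sum_congr rfl fun l _ => mul_comm _ _

/-- **Local Horrocks, matrix form**: over a local ring the polynomial idempotent of a matrix model
factors through a free module. -/
theorem local_horrocks_matrix [IsLocalRing B] :
    ∃ (r : ℕ) (U : Matrix (Fin Q.n) (Fin r) B[X]) (V : Matrix (Fin r) (Fin Q.n) B[X]),
      U * V = Q.E₀ ∧ V * U = 1 := by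
  classical
  obtain ⟨r, s, hsM, hspan, hind⟩ := hasTBasis_local Q.toLatPair
  have hU : ∀ i k, ∃ p : B[X], toLaurent p = (s k : Fin Q.n → B[T;T⁻¹]) i :=
    fun i k => exists_of_isT (hsM k i)
  choose U hU using hU
  have hc : ∀ j : Fin Q.n, ∃ c : Fin r → B[T;T⁻¹], (∀ k, IsT (c k)) ∧
      Q.toLatPair.m j = ∑ k, c k • s k := fun j => hspan _ (Q.toLatPair.inM_m j)
  choose c hcT hc using hc
  have hV : ∀ k j, ∃ p : B[X], toLaurent p = c j k := fun k j => exists_of_isT (hcT j k)
  choose V hV using hV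
  have hmcoord : ∀ (j i : Fin Q.n), Q.E i j = ∑ k, c j k * (s k : Fin Q.n → B[T;T⁻¹]) i := by
    intro j i
    have := congrArg (fun z : Q.Lmod => (z : Fin Q.n → B[T;T⁻¹]) i) (hc j)
    simp only [Submodule.coe_sum, Finset.sum_apply, Submodule.coe_smul, Pi.smul_apply,
      smul_eq_mul] at this
    exact this
  refine ⟨r, Matrix.of U, Matrix.of V, ?_, ?_⟩
  · refine Matrix.ext fun i j => ?_
    apply Polynomial.toLaurent_injective
    rw [Matrix.mul_apply, map_sum]
    simp only [Matrix.of_apply, map_mul, hU, hV]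
    rw [← E_apply, hmcoord j i]
    exact Finset.sum_congr rfl fun k _ => mul_comm _ _
  · refine Matrix.ext fun k k₀ => ?_
    apply Polynomial.toLaurent_injective
    rw [Matrix.mul_apply, map_sum]
    simp only [Matrix.of_apply, map_mul, hU, hV]
    have hs0 : s k₀ = ∑ k, (∑ j, c j k * (s k₀ : Fin Q.n → B[T;T⁻¹]) j) • s k := by
      have h1 : ∀ j : Fin Q.n, ((s k₀ : Fin Q.n → B[T;T⁻¹]) j) • Q.toLatPair.m j =
          ∑ k, ((s k₀ : Fin Q.n → B[T;T⁻¹]) j * c j k) • s k := by
        intro j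
        rw [hc j, Finset.smul_sum]
        exact Finset.sum_congr rfl fun k _ => by rw [smul_smul]
      calc s k₀ = ∑ j : Fin Q.n, ((s k₀ : Fin Q.n → B[T;T⁻¹]) j) • Q.toLatPair.m j :=
            (Q.toLatPair.recM (s k₀)).symm
        _ = ∑ j : Fin Q.n, ∑ k, ((s k₀ : Fin Q.n → B[T;T⁻¹]) j * c j k) • s k :=
            Finset.sum_congr rfl fun j _ => h1 j
        _ = ∑ k, ∑ j : Fin Q.n, ((s k₀ : Fin Q.n → B[T;T⁻¹]) j * c j k) • s k := Finset.sum_comm
        _ = _ := Finset.sum_congr rfl fun k _ => by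
            rw [Finset.sum_smul]
            exact Finset.sum_congr rfl fun j _ => by rw [mul_comm]
    have hzero : ∑ k, ((∑ j, c j k * (s k₀ : Fin Q.n → B[T;T⁻¹]) j) -
        (if k = k₀ then 1 else 0)) • s k = 0 := by
      have h5 : ∀ k, ((∑ j, c j k * (s k₀ : Fin Q.n → B[T;T⁻¹]) j) -
          (if k = k₀ then 1 else 0)) • s k = (∑ j, c j k * (s k₀ : Fin Q.n → B[T;T⁻¹]) j) • s k -
          (if k = k₀ then (1 : B[T;T⁻¹]) else 0) • s k :=
        fun k => sub_smul (R := B[T;T⁻¹]) (M := Q.Lmod) _ _ _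
      rw [Finset.sum_congr rfl fun k _ => h5 k, Finset.sum_sub_distrib, ← hs0]
      simp [ite_smul]
    have := congrFun (hind _ hzero) k
    simp only [Pi.zero_apply, sub_eq_zero] at this
    rw [this, Matrix.one_apply]
    split_ifs <;> simp

/-- the matrix model of a lattice pair -/
noncomputable def ofLatPair {L : Type*} [AddCommGroup L] [Module B[T;T⁻¹] L] (P : LatPair B L) :
    MatModel B where
  n := P.nM
  n' := P.nN
  E₀ := Matrix.of fun i j => Classical.choose (exists_of_isT (P.φm i j))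
  F₀ := Matrix.of fun l k =>
    Classical.choose (exists_of_isT (isS_iff_isT_invert.mp (P.ψn l k)))
  G := Matrix.of fun l j => P.ψ l (P.m j)
  G' := Matrix.of fun i k => P.φ i (P.n k)
  hEG' := by
    refine Matrix.ext fun i k => ?_
    rw [Matrix.mul_apply]
    simp only [Matrix.map_apply, Matrix.of_apply]
    rw [P.apply_eq_sum_m (P.φ i) (P.n k)]
    refine Finset.sum_congr rfl fun j _ => ?_
    rw [Classical.choose_spec (exists_of_isT (P.φm i j)), mul_comm]
  hG'G := by
    refine Matrix.ext fun i j => ?_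
    rw [Matrix.mul_apply]
    simp only [Matrix.map_apply, Matrix.of_apply]
    rw [Classical.choose_spec (exists_of_isT (P.φm i j)), P.apply_eq_sum_n (P.φ i) (P.m j)]
    exact Finset.sum_congr rfl fun l _ => mul_comm _ _
  hGG' := by
    refine Matrix.ext fun l k => ?_
    rw [Matrix.mul_apply]
    simp only [Matrix.map_apply, Matrix.of_apply]
    rw [Classical.choose_spec (exists_of_isT (isS_iff_isT_invert.mp (P.ψn l k)))]
    have e : invert (invert (P.ψ l (P.n k))) = P.ψ l (P.n k) := involutive_invert _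
    rw [e, P.apply_eq_sum_m (P.ψ l) (P.n k)]
    exact Finset.sum_congr rfl fun j _ => mul_comm _ _

lemma ofLatPair_E₀ {L : Type*} [AddCommGroup L] [Module B[T;T⁻¹] L] (P : LatPair B L)
    (i j : Fin P.nM) : toLaurent ((ofLatPair P).E₀ i j) = P.φ i (P.m j) :=
  Classical.choose_spec (exists_of_isT (P.φm i j))

/-- base change of a matrix model -/
noncomputable def map {C : Type*} [CommRing C] (f : B →+* C) : MatModel C where
  n := Q.n
  n' := Q.n'
  E₀ := Q.E₀.map (Polynomial.mapRingHom f)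
  F₀ := Q.F₀.map (Polynomial.mapRingHom f)
  G := Q.G.map (rho f)
  G' := Q.G'.map (rho f)
  hEG' := by
    have h1 : (Q.E₀.map (Polynomial.mapRingHom f)).map toLaurent =
        (Q.E₀.map toLaurent).map (rho f) := by
      refine Matrix.ext fun i j => ?_
      simp only [Matrix.map_apply, Polynomial.coe_mapRingHom, rho_toLaurent]
    rw [h1, ← Matrix.map_mul, Q.hEG']
  hG'G := by
    have h1 : (Q.E₀.map (Polynomial.mapRingHom f)).map toLaurent =
        (Q.E₀.map toLaurent).map (rho f) := by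
      refine Matrix.ext fun i j => ?_
      simp only [Matrix.map_apply, Polynomial.coe_mapRingHom, rho_toLaurent]
    rw [h1, ← Matrix.map_mul, Q.hG'G]
  hGG' := by
    have h1 : (Q.F₀.map (Polynomial.mapRingHom f)).map (fun p => invert (toLaurent p)) =
        (Q.F₀.map (fun p => invert (toLaurent p))).map (rho f) := by
      refine Matrix.ext fun i j => ?_
      simp only [Matrix.map_apply, Polynomial.coe_mapRingHom, rho_toLaurent, rho_invert]
    rw [h1, ← Matrix.map_mul, Q.hGG']

end MatModel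

section conj
variable {R : Type*} [CommRing R] {n r : ℕ}

/-- two idempotents which both factor through `R^r` are stably conjugate, explicitly -/
lemma conj_of_factor (E E' : Matrix (Fin n) (Fin n) R)
    (U : Matrix (Fin n) (Fin r) R) (V : Matrix (Fin r) (Fin n) R)
    (U' : Matrix (Fin n) (Fin r) R) (V' : Matrix (Fin r) (Fin n) R)
    (h1 : U * V = E) (h2 : V * U = 1) (h1' : U' * V' = E') (h2' : V' * U' = 1) :
    ∃ W W' : Matrix (Fin n ⊕ Fin n) (Fin n ⊕ Fin n) R, W * W' = 1 ∧ W' * W = 1 ∧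
      W * Matrix.fromBlocks E 0 0 0 = Matrix.fromBlocks E' 0 0 0 * W ∧
      Matrix.fromBlocks E 0 0 0 * W' = W' * Matrix.fromBlocks E' 0 0 0 := by
  have hab : (U' * V) * (U * V') = E' := by
    rw [Matrix.mul_assoc, ← Matrix.mul_assoc V, h2, Matrix.one_mul, h1']
  have hba : (U * V') * (U' * V) = E := by
    rw [Matrix.mul_assoc, ← Matrix.mul_assoc V', h2', Matrix.one_mul, h1]
  have haE : (U' * V) * E = U' * V := by
    rw [← h1, Matrix.mul_assoc, ← Matrix.mul_assoc V, h2, Matrix.one_mul]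
  have hE'a : E' * (U' * V) = U' * V := by
    rw [← h1', Matrix.mul_assoc, ← Matrix.mul_assoc V', h2', Matrix.one_mul]
  have hEb : E * (U * V') = U * V' := by
    rw [← h1, Matrix.mul_assoc, ← Matrix.mul_assoc V, h2, Matrix.one_mul]
  have hbE' : (U * V') * E' = U * V' := by
    rw [← h1', Matrix.mul_assoc, ← Matrix.mul_assoc V', h2', Matrix.one_mul]
  have hEE : E * E = E := by
    rw [← h1, Matrix.mul_assoc, ← Matrix.mul_assoc V, h2, Matrix.one_mul]
  have hE'E' : E' * E' = E' := by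
    rw [← h1', Matrix.mul_assoc, ← Matrix.mul_assoc V', h2', Matrix.one_mul]
  refine ⟨Matrix.fromBlocks (U' * V) (1 - E') (1 - E) (U * V'),
    Matrix.fromBlocks (U * V') (1 - E) (1 - E') (U' * V), ?_, ?_, ?_, ?_⟩
  · rw [Matrix.fromBlocks_multiply, ← Matrix.fromBlocks_one]
    congr 1
    · rw [hab, Matrix.sub_mul, Matrix.mul_sub, Matrix.mul_sub, hE'E']; simp
    · rw [Matrix.mul_sub, Matrix.sub_mul, haE, hE'a]; simp
    · rw [Matrix.mul_sub, Matrix.sub_mul, hEb, hbE']; simp
    · rw [hba, Matrix.sub_mul, Matrix.mul_sub, Matrix.mul_sub, hEE]; simp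
  · rw [Matrix.fromBlocks_multiply, ← Matrix.fromBlocks_one]
    congr 1
    · rw [hba, Matrix.sub_mul, Matrix.mul_sub, Matrix.mul_sub, hEE]; simp
    · rw [Matrix.mul_sub, Matrix.sub_mul, hEb, hbE']; simp
    · rw [Matrix.mul_sub, Matrix.sub_mul, haE, hE'a]; simp
    · rw [hab, Matrix.sub_mul, Matrix.mul_sub, Matrix.mul_sub, hE'E']; simp
  · rw [Matrix.fromBlocks_multiply, Matrix.fromBlocks_multiply]
    congr 1
    · rw [haE, hE'a]; simp
    · rw [Matrix.mul_sub, hE'E']; simp
    · rw [Matrix.sub_mul, hEE]; simp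
    · simp
  · rw [Matrix.fromBlocks_multiply, Matrix.fromBlocks_multiply]
    congr 1
    · rw [hEb, hbE']; simp
    · rw [Matrix.mul_sub, hEE]; simp
    · rw [Matrix.sub_mul, hE'E']; simp
    · simp

end conj

end Groth.Agent.Lib.Lead.Hor
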