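import Groth.Agent.Lib.Lead.Hor.HorL

/-!
# Lattice pairs (vector bundles on `ℙ¹` in dual-basis form)
-/

set_option autoImplicit false
set_option linter.style.haveILetI false

namespace Groth.Agent.Lib.Lead.Hor

open Polynomial LaurentPolynomial

/-- A "vector bundle on `ℙ¹_B`" in dual-basis form: a `B[T;T⁻¹]`-module `L` together with a
finite dual basis `(m, φ)` whose matrix has entries in `B[T]`, and a finite dual basis `(n, ψ)`
whose matrix has entries in `B[T⁻¹]`. -/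
structure LatPair (B : Type*) [CommRing B] (L : Type*) [AddCommGroup L]
    [Module B[T;T⁻¹] L] where
  nM : ℕ
  nN : ℕ
  m : Fin nM → L
  φ : Fin nM → (L →ₗ[B[T;T⁻¹]] B[T;T⁻¹])
  n : Fin nN → L
  ψ : Fin nN → (L →ₗ[B[T;T⁻¹]] B[T;T⁻¹])
  φm : ∀ i j, IsT (φ i (m j))
  ψn : ∀ i j, IsS (ψ i (n j))
  recM : ∀ x : L, ∑ i, φ i x • m i = x
  recN : ∀ x : L, ∑ i, ψ i x • n i = x

namespace LatPair

variable {B : Type*} [CommRing B] {L : Type*} [AddCommGroup L] [Module B[T;T⁻¹] L]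
variable (P : LatPair B L)

/-- membership in the `B[T]`-lattice -/
def InM (x : L) : Prop := ∀ i, IsT (P.φ i x)
/-- membership in `T^j •` the `B[T⁻¹]`-lattice -/
def InN (j : ℤ) (x : L) : Prop := ∀ l, IsS (T (-j) * P.ψ l x)
/-- functionals mapping the `T`-lattice into `B[T]` -/
def MDual (f : L →ₗ[B[T;T⁻¹]] B[T;T⁻¹]) : Prop := ∀ i, IsT (f (P.m i))
/-- functionals mapping `T^j •` the `T⁻¹`-lattice into `B[T⁻¹]` -/
def NDual (j : ℤ) (f : L →ₗ[B[T;T⁻¹]] B[T;T⁻¹]) : Prop := ∀ l, IsS (T j * f (P.n l))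

lemma inM_m (j : Fin P.nM) : P.InM (P.m j) := fun i => P.φm i j
lemma inM_zero : P.InM 0 := fun i => by rw [map_zero]; exact isT_zero
lemma inM_add {x y : L} (hx : P.InM x) (hy : P.InM y) : P.InM (x + y) := fun i => by
  rw [map_add]; exact isT_add (hx i) (hy i)
lemma inM_neg {x : L} (hx : P.InM x) : P.InM (-x) := fun i => by
  rw [map_neg]; exact isT_neg (hx i)
lemma inM_sub {x y : L} (hx : P.InM x) (hy : P.InM y) : P.InM (x - y) := fun i => by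
  rw [map_sub]; exact isT_sub (hx i) (hy i)
lemma inM_smul {a : B[T;T⁻¹]} (ha : IsT a) {x : L} (hx : P.InM x) : P.InM (a • x) := fun i => by
  rw [map_smul, smul_eq_mul]; exact isT_mul ha (hx i)
lemma inM_sum {ι : Type*} (s : Finset ι) (f : ι → L) (h : ∀ i ∈ s, P.InM (f i)) :
    P.InM (∑ i ∈ s, f i) := fun i => by
  rw [map_sum]; exact isT_sum _ _ fun k hk => h k hk i

lemma inN_Tn (j : ℤ) (l : Fin P.nN) : P.InN j ((T j : B[T;T⁻¹]) • P.n l) := fun l' => by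
  rw [map_smul, smul_eq_mul, T_neg_mul_T_mul]; exact P.ψn l' l
lemma inN_zero (j : ℤ) : P.InN j 0 := fun l => by rw [map_zero, mul_zero]; exact isS_zero
lemma inN_add {j : ℤ} {x y : L} (hx : P.InN j x) (hy : P.InN j y) : P.InN j (x + y) := fun l => by
  rw [map_add, mul_add]; exact isS_add (hx l) (hy l)
lemma inN_neg {j : ℤ} {x : L} (hx : P.InN j x) : P.InN j (-x) := fun l => by
  rw [map_neg, mul_neg]; exact isS_neg (hx l)
lemma inN_sub {j : ℤ} {x y : L} (hx : P.InN j x) (hy : P.InN j y) : P.InN j (x - y) := fun l => by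
  rw [map_sub, mul_sub]; exact isS_sub (hx l) (hy l)
lemma inN_smul {j : ℤ} {a : B[T;T⁻¹]} (ha : IsS a) {x : L} (hx : P.InN j x) :
    P.InN j (a • x) := fun l => by
  rw [map_smul, smul_eq_mul, mul_left_comm]; exact isS_mul ha (hx l)
lemma inN_sum {j : ℤ} {ι : Type*} (s : Finset ι) (f : ι → L) (h : ∀ i ∈ s, P.InN j (f i)) :
    P.InN j (∑ i ∈ s, f i) := fun l => by
  rw [map_sum, Finset.mul_sum]; exact isS_sum _ _ fun k hk => h k hk l

lemma apply_eq_sum_m (f : L →ₗ[B[T;T⁻¹]] B[T;T⁻¹]) (x : L) :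
    f x = ∑ i, P.φ i x * f (P.m i) := by
  conv_lhs => rw [← P.recM x]
  rw [map_sum]
  exact Finset.sum_congr rfl fun i _ => by rw [map_smul, smul_eq_mul]

lemma apply_eq_sum_n (f : L →ₗ[B[T;T⁻¹]] B[T;T⁻¹]) (x : L) :
    f x = ∑ l, P.ψ l x * f (P.n l) := by
  conv_lhs => rw [← P.recN x]
  rw [map_sum]
  exact Finset.sum_congr rfl fun i _ => by rw [map_smul, smul_eq_mul]

lemma apply_isT {f : L →ₗ[B[T;T⁻¹]] B[T;T⁻¹]} (hf : P.MDual f) {x : L} (hx : P.InM x) :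
    IsT (f x) := by
  rw [P.apply_eq_sum_m]; exact isT_sum _ _ fun i _ => isT_mul (hx i) (hf i)

lemma apply_isS {j : ℤ} {f : L →ₗ[B[T;T⁻¹]] B[T;T⁻¹]} (hf : P.NDual j f) {x : L}
    (hx : P.InN j x) : IsS (f x) := by
  rw [P.apply_eq_sum_n]
  refine isS_sum _ _ fun l _ => ?_
  have : P.ψ l x * f (P.n l) = (T (-j) * P.ψ l x) * (T j * f (P.n l)) := by
    rw [mul_mul_mul_comm, T_mul_T, neg_add_cancel, T_zero, one_mul]
  rw [this]; exact isS_mul (hx l) (hf l)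

lemma dual_ext_m {f g : L →ₗ[B[T;T⁻¹]] B[T;T⁻¹]} (h : ∀ i, f (P.m i) = g (P.m i)) : f = g := by
  refine LinearMap.ext fun x => ?_
  rw [P.apply_eq_sum_m f, P.apply_eq_sum_m g]
  exact Finset.sum_congr rfl fun i _ => by rw [h i]

lemma dual_ext_n {f g : L →ₗ[B[T;T⁻¹]] B[T;T⁻¹]} (h : ∀ i, f (P.n i) = g (P.n i)) : f = g := by
  refine LinearMap.ext fun x => ?_
  rw [P.apply_eq_sum_n f, P.apply_eq_sum_n g]
  exact Finset.sum_congr rfl fun i _ => by rw [h i]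

lemma mDual_φ (i : Fin P.nM) : P.MDual (P.φ i) := fun j => P.φm i j
lemma mDual_zero : P.MDual 0 := fun _ => by rw [LinearMap.zero_apply]; exact isT_zero
lemma mDual_add {f g : L →ₗ[B[T;T⁻¹]] B[T;T⁻¹]} (hf : P.MDual f) (hg : P.MDual g) :
    P.MDual (f + g) := fun i => by rw [LinearMap.add_apply]; exact isT_add (hf i) (hg i)
lemma mDual_smul {a : B[T;T⁻¹]} (ha : IsT a) {f : L →ₗ[B[T;T⁻¹]] B[T;T⁻¹]} (hf : P.MDual f) :
    P.MDual (a • f) := fun i => by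
  rw [LinearMap.smul_apply, smul_eq_mul]; exact isT_mul ha (hf i)
lemma mDual_sum {ι : Type*} (s : Finset ι) (f : ι → (L →ₗ[B[T;T⁻¹]] B[T;T⁻¹]))
    (h : ∀ i ∈ s, P.MDual (f i)) : P.MDual (∑ i ∈ s, f i) := fun i => by
  rw [LinearMap.sum_apply]; exact isT_sum _ _ fun k hk => h k hk i

lemma nDual_ψ (j : ℤ) (l : Fin P.nN) : P.NDual j ((T (-j) : B[T;T⁻¹]) • P.ψ l) := fun k => by
  rw [LinearMap.smul_apply, smul_eq_mul, T_mul_T_neg_mul]; exact P.ψn l k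
lemma nDual_zero (j : ℤ) : P.NDual j 0 := fun _ => by
  rw [LinearMap.zero_apply, mul_zero]; exact isS_zero
lemma nDual_add {j : ℤ} {f g : L →ₗ[B[T;T⁻¹]] B[T;T⁻¹]} (hf : P.NDual j f) (hg : P.NDual j g) :
    P.NDual j (f + g) := fun i => by
  rw [LinearMap.add_apply, mul_add]; exact isS_add (hf i) (hg i)
lemma nDual_smul {j : ℤ} {a : B[T;T⁻¹]} (ha : IsS a) {f : L →ₗ[B[T;T⁻¹]] B[T;T⁻¹]}
    (hf : P.NDual j f) : P.NDual j (a • f) := fun i => by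
  rw [LinearMap.smul_apply, smul_eq_mul, mul_left_comm]; exact isS_mul ha (hf i)
lemma nDual_sum {j : ℤ} {ι : Type*} (s : Finset ι) (f : ι → (L →ₗ[B[T;T⁻¹]] B[T;T⁻¹]))
    (h : ∀ i ∈ s, P.NDual j (f i)) : P.NDual j (∑ i ∈ s, f i) := fun i => by
  rw [LinearMap.sum_apply, Finset.mul_sum]; exact isS_sum _ _ fun k hk => h k hk i

lemma nDual_mono {j j' : ℤ} (h : j' ≤ j) {f : L →ₗ[B[T;T⁻¹]] B[T;T⁻¹]} (hf : P.NDual j f) :
    P.NDual j' f := fun l => by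
  have : T j' * f (P.n l) = T (j' - j) * (T j * f (P.n l)) := by
    rw [← mul_assoc, T_mul_T]; congr 2; ring
  rw [this]; exact isS_T_mul (by omega) (hf l)

lemma inN_mono {j j' : ℤ} (h : j ≤ j') {x : L} (hx : P.InN j x) : P.InN j' x := fun l => by
  have : T (-j') * P.ψ l x = T (j - j') * (T (-j) * P.ψ l x) := by
    rw [← mul_assoc, T_mul_T]; congr 2; ring
  rw [this]; exact isS_T_mul (by omega) (hx l)

/-- every functional is a combination of the `φ i` -/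
lemma eq_sum_φ (f : L →ₗ[B[T;T⁻¹]] B[T;T⁻¹]) : f = ∑ i, f (P.m i) • P.φ i := by
  refine LinearMap.ext fun x => ?_
  rw [P.apply_eq_sum_m f x, LinearMap.sum_apply]
  exact Finset.sum_congr rfl fun i _ => by rw [LinearMap.smul_apply, smul_eq_mul, mul_comm]

lemma eq_sum_ψ (f : L →ₗ[B[T;T⁻¹]] B[T;T⁻¹]) : f = ∑ i, f (P.n i) • P.ψ i := by
  refine LinearMap.ext fun x => ?_
  rw [P.apply_eq_sum_n f x, LinearMap.sum_apply]
  exact Finset.sum_congr rfl fun i _ => by rw [LinearMap.smul_apply, smul_eq_mul, mul_comm]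

lemma exists_inM_T_smul (x : L) : ∃ c : ℕ, ∀ c' : ℤ, (c : ℤ) ≤ c' → P.InM ((T c' : B[T;T⁻¹]) • x) := by
  obtain ⟨c, hc⟩ := exists_isT_T_mul_fin (fun i => P.φ i x)
  exact ⟨c, fun c' hc' i => by rw [map_smul, smul_eq_mul]; exact hc i c' hc'⟩

lemma exists_inN_T_smul (j : ℤ) (x : L) :
    ∃ c : ℕ, ∀ c' : ℤ, (c : ℤ) ≤ c' → P.InN j ((T (-c') : B[T;T⁻¹]) • x) := by
  obtain ⟨c, hc⟩ := exists_isS_T_mul_fin (fun l => T (-j) * P.ψ l x)
  refine ⟨c, fun c' hc' l => ?_⟩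
  rw [map_smul, smul_eq_mul, mul_left_comm]; exact hc l c' hc'

lemma exists_inM_T_smul_fin {ι : Type*} [Finite ι] (x : ι → L) :
    ∃ c : ℕ, ∀ k, ∀ c' : ℤ, (c : ℤ) ≤ c' → P.InM ((T c' : B[T;T⁻¹]) • x k) := by
  classical
  cases nonempty_fintype ι
  choose N hN using fun k => P.exists_inM_T_smul (x k)
  refine ⟨Finset.univ.sup N, fun k c' hc' => hN k c' ?_⟩
  have : N k ≤ Finset.univ.sup N := Finset.le_sup (Finset.mem_univ k)
  omega

lemma exists_mDual_T_smul (f : L →ₗ[B[T;T⁻¹]] B[T;T⁻¹]) :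
    ∃ c : ℕ, ∀ c' : ℤ, (c : ℤ) ≤ c' → P.MDual ((T c' : B[T;T⁻¹]) • f) := by
  obtain ⟨c, hc⟩ := exists_isT_T_mul_fin (fun i => f (P.m i))
  exact ⟨c, fun c' hc' i => by rw [LinearMap.smul_apply, smul_eq_mul]; exact hc i c' hc'⟩

lemma exists_nDual_T_smul (j : ℤ) (f : L →ₗ[B[T;T⁻¹]] B[T;T⁻¹]) :
    ∃ c : ℕ, ∀ c' : ℤ, (c : ℤ) ≤ c' → P.NDual j ((T (-c') : B[T;T⁻¹]) • f) := by
  obtain ⟨c, hc⟩ := exists_isS_T_mul_fin (fun l => T j * f (P.n l))
  refine ⟨c, fun c' hc' l => ?_⟩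
  rw [LinearMap.smul_apply, smul_eq_mul, mul_left_comm]; exact hc l c' hc'

end LatPair

end Groth.Agent.Lib.Lead.Hor
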