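import Mathlib

/-!
# Quillen patching for stable conjugacy of a polynomial matrix with its constant term
(Vaserstein-style proof with an explicit "Quillen ideal")
-/

set_option autoImplicit false
set_option linter.style.haveILetI false

namespace Groth.Agent.Lib.Lead.Hor

open Polynomial

section homs
variable {A : Type*} [CommRing A]

/-- `t ↦ x + g y` -/
noncomputable def alpha (g : A) : A[X] →+* A[X][X] :=
  Polynomial.eval₂RingHom (C.comp C) (C X + C (C g) * X)
/-- `y ↦ a y` -/
noncomputable def gam (a : A) : A[X][X] →+* A[X][X] :=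
  Polynomial.eval₂RingHom C (C (C a) * X)
/-- `x ↦ x + g y` -/
noncomputable def bet (g : A) : A[X][X] →+* A[X][X] :=
  Polynomial.eval₂RingHom (alpha g) X
/-- `x ↦ 0, y ↦ t` -/
noncomputable def del : A[X][X] →+* A[X] :=
  Polynomial.eval₂RingHom (C.comp (Polynomial.evalRingHom 0)) X
/-- constant term -/
noncomputable def kap : A[X] →+* A[X] := C.comp (Polynomial.evalRingHom 0)
/-- `y ↦ 0` -/
noncomputable def ev0 : A[X][X] →+* A[X] := Polynomial.evalRingHom 0

@[simp] lemma alpha_C (g c : A) : alpha g (C c) = C (C c) := by simp [alpha]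
@[simp] lemma alpha_X (g : A) : alpha g X = C X + C (C g) * X := by simp [alpha]
@[simp] lemma gam_C (a : A) (p : A[X]) : gam a (C p) = C p := by simp [gam]
@[simp] lemma gam_X (a : A) : gam a X = C (C a) * X := by simp [gam]
@[simp] lemma bet_C (g : A) (p : A[X]) : bet g (C p) = alpha g p := by simp [bet]
@[simp] lemma bet_X (g : A) : bet g (X : A[X][X]) = X := by simp [bet]
@[simp] lemma del_C (p : A[X]) : del (C p) = C (p.eval 0) := by simp [del]
@[simp] lemma del_X : del (X : A[X][X]) = (X : A[X]) := by simp [del]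
@[simp] lemma ev0_C (p : A[X]) : ev0 (C p) = p := by simp [ev0]
@[simp] lemma ev0_X : ev0 (X : A[X][X]) = 0 := by simp [ev0]
lemma kap_apply (p : A[X]) : kap p = C (p.eval 0) := by simp [kap]

lemma alpha_zero : alpha (0 : A) = C := by
  refine Polynomial.ringHom_ext (fun c => by simp) (by simp)

lemma gam_comp_alpha (a g : A) : (gam a).comp (alpha g) = alpha (a * g) := by
  refine Polynomial.ringHom_ext (fun c => by simp) ?_
  simp only [RingHom.comp_apply, alpha_X, map_add, map_mul, gam_C, gam_X]
  ring

lemma gam_comp_C (a : A) : (gam a).comp (C : A[X] →+* A[X][X]) = C := by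
  refine RingHom.ext fun p => ?_
  simp

lemma bet_comp_alpha (g' g : A) : (bet g').comp (alpha g) = alpha (g + g') := by
  refine Polynomial.ringHom_ext (fun c => by simp) ?_
  simp only [RingHom.comp_apply, alpha_X, map_add, map_mul, bet_C, bet_X, alpha_C]
  ring

lemma bet_comp_C (g : A) : (bet g).comp (C : A[X] →+* A[X][X]) = alpha g := by
  refine RingHom.ext fun p => ?_
  simp

lemma del_comp_alpha_one : (del (A := A)).comp (alpha 1) = RingHom.id _ := by
  refine Polynomial.ringHom_ext (fun c => by simp) ?_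
  simp

lemma del_comp_C : (del (A := A)).comp (C : A[X] →+* A[X][X]) = kap := by
  refine RingHom.ext fun p => ?_
  simp [kap_apply]

lemma ev0_comp_alpha (g : A) : (ev0 (A := A)).comp (alpha g) = RingHom.id _ := by
  refine Polynomial.ringHom_ext (fun c => by simp) ?_
  simp

lemma ev0_comp_C : (ev0 (A := A)).comp (C : A[X] →+* A[X][X]) = RingHom.id _ := by
  refine RingHom.ext fun p => ?_
  simp

lemma alpha_comp_kap (g : A) : (alpha g).comp kap = (C : A[X] →+* A[X][X]).comp kap := by
  refine RingHom.ext fun p => ?_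
  simp [kap_apply]

end homs

section matrix
variable {N : Type*} [Fintype N] [DecidableEq N]

omit [Fintype N] [DecidableEq N] in
lemma mmap_comp {R S T : Type*} [Semiring R] [Semiring S] [Semiring T] (M : Matrix N N R)
    (f : R →+* S) (g : S →+* T) : (M.map f).map g = M.map (g.comp f) := by
  refine Matrix.ext fun i j => ?_
  simp [Matrix.map_apply]

lemma mapMatrix_smul {R S : Type*} [Semiring R] [Semiring S] (f : R →+* S) (s : R)
    (M : Matrix N N R) : f.mapMatrix (s • M) = f s • f.mapMatrix M := by
  refine Matrix.ext fun i j => ?_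
  simp [RingHom.mapMatrix_apply, Matrix.map_apply]

omit [Fintype N] [DecidableEq N] in
lemma mmap_id {R : Type*} [Semiring R] (M : Matrix N N R) : M.map (RingHom.id R) = M := by
  refine Matrix.ext fun i j => ?_
  simp [Matrix.map_apply]

variable {A : Type*} [CommRing A]

omit [Fintype N] [DecidableEq N] in
lemma X_smul_cancel (Z : Matrix N N A[X][X]) (h : (X : A[X][X]) • Z = 0) : Z = 0 := by
  refine Matrix.ext fun i j => ?_
  have h1 : (X : A[X][X]) * Z i j = 0 := by
    have := congrFun (congrFun h i) j
    simpa using this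
  apply Polynomial.ext
  intro n
  have := congrArg (fun p : A[X][X] => p.coeff (n + 1)) h1
  simpa [Polynomial.coeff_X_mul] using this

lemma exists_X_smul (Z : Matrix N N A[X][X]) (hZ : ev0.mapMatrix Z = 0) :
    Z = (X : A[X][X]) • Z.map Polynomial.divX := by
  refine Matrix.ext fun i j => ?_
  have h0 : (Z i j).coeff 0 = 0 := by
    have := congrFun (congrFun hZ i) j
    simp only [RingHom.mapMatrix_apply, Matrix.map_apply, Matrix.zero_apply] at this
    rw [Polynomial.coeff_zero_eq_eval_zero]
    exact this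
  have := Polynomial.X_mul_divX_add (Z i j)
  rw [h0, map_zero, add_zero] at this
  simp only [Matrix.smul_apply, Matrix.map_apply, smul_eq_mul]
  exact this.symm

/-- membership in the Quillen ideal of `E` -/
def InQ (E : Matrix N N A[X]) (g : A) : Prop :=
  ∃ U U' : Matrix N N A[X][X], U * U' = 1 ∧ U' * U = 1 ∧ U * E.map (alpha g) = E.map C * U

lemma inQ_zero (E : Matrix N N A[X]) : InQ E 0 :=
  ⟨1, 1, by simp, by simp, by rw [alpha_zero]; simp⟩

lemma inQ_mul (E : Matrix N N A[X]) (a : A) {g : A} (h : InQ E g) : InQ E (a * g) := by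
  obtain ⟨U, U', h1, h2, h3⟩ := h
  refine ⟨(gam a).mapMatrix U, (gam a).mapMatrix U', ?_, ?_, ?_⟩
  · rw [← map_mul, h1, map_one]
  · rw [← map_mul, h2, map_one]
  · have := congrArg (gam a).mapMatrix h3
    rw [map_mul, map_mul] at this
    have e1 : (gam a).mapMatrix (E.map (alpha g)) = E.map (alpha (a * g)) := by
      rw [RingHom.mapMatrix_apply, mmap_comp, gam_comp_alpha]
    have e2 : (gam a).mapMatrix (E.map C) = E.map C := by
      rw [RingHom.mapMatrix_apply, mmap_comp, gam_comp_C]
    rw [e1, e2] at this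
    exact this

lemma inQ_add (E : Matrix N N A[X]) {g g' : A} (h : InQ E g) (h' : InQ E g') :
    InQ E (g + g') := by
  obtain ⟨U, U', h1, h2, h3⟩ := h
  obtain ⟨V, V', k1, k2, k3⟩ := h'
  have e1 : (bet g').mapMatrix (E.map (alpha g)) = E.map (alpha (g + g')) := by
    rw [RingHom.mapMatrix_apply, mmap_comp, bet_comp_alpha]
  have e2 : (bet g').mapMatrix (E.map C) = E.map (alpha g') := by
    rw [RingHom.mapMatrix_apply, mmap_comp, bet_comp_C]
  have h3' := congrArg (bet g').mapMatrix h3
  rw [map_mul, map_mul, e1, e2] at h3'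
  refine ⟨V * (bet g').mapMatrix U, (bet g').mapMatrix U' * V', ?_, ?_, ?_⟩
  · rw [Matrix.mul_assoc, ← Matrix.mul_assoc ((bet g').mapMatrix U), ← map_mul, h1, map_one,
      Matrix.one_mul, k1]
  · rw [Matrix.mul_assoc, ← Matrix.mul_assoc V', k2, Matrix.one_mul, ← map_mul, h2, map_one]
  · rw [Matrix.mul_assoc, h3', ← Matrix.mul_assoc, k3, Matrix.mul_assoc]

/-- the Quillen ideal -/
def quillenIdeal (E : Matrix N N A[X]) : Ideal A where
  carrier := {g | InQ E g}
  add_mem' := fun h h' => inQ_add E h h'
  zero_mem' := inQ_zero E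
  smul_mem' := fun a _ h => inQ_mul E a h

lemma conj_of_inQ_one (E : Matrix N N A[X]) (h : InQ E 1) :
    ∃ V V' : Matrix N N A[X], V * V' = 1 ∧ V' * V = 1 ∧ V * E = E.map kap * V := by
  obtain ⟨U, U', h1, h2, h3⟩ := h
  refine ⟨del.mapMatrix U, del.mapMatrix U', ?_, ?_, ?_⟩
  · rw [← map_mul, h1, map_one]
  · rw [← map_mul, h2, map_one]
  · have := congrArg (del (A := A)).mapMatrix h3
    rw [map_mul, map_mul] at this
    have e1 : (del (A := A)).mapMatrix (E.map (alpha 1)) = E := by
      rw [RingHom.mapMatrix_apply, mmap_comp, del_comp_alpha_one, mmap_id]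
    have e2 : (del (A := A)).mapMatrix (E.map C) = E.map kap := by
      rw [RingHom.mapMatrix_apply, mmap_comp, del_comp_C]
    rw [e1, e2] at this
    exact this

end matrix

end Groth.Agent.Lib.Lead.Hor
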