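import Groth.Agent.Lib.Lead.Hor.HorT

/-!
# Finite projective modules which become isomorphic over `A(t)` (monic localisation) are isomorphic
-/

set_option autoImplicit false
set_option linter.style.haveILetI false

namespace Groth.Agent.Lib.Lead.Hor

open Polynomial LaurentPolynomial TensorProduct

universe u

section helpers

lemma map_smul_ringHom {m n : Type*} {R S : Type*} [Semiring R] [Semiring S] (f : R →+* S)
    (r : R) (M : Matrix m n R) : (r • M).map f = f r • M.map f := by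
  refine Matrix.ext fun i j => ?_
  simp

end helpers

section blocks
variable {S : Type*} [CommRing S] {n n' : ℕ}
  (p : Matrix (Fin n) (Fin n) S) (p' : Matrix (Fin n') (Fin n') S)
  (a : Matrix (Fin n') (Fin n) S) (b : Matrix (Fin n) (Fin n') S) (u v γ ξ : S)

/-- the idempotent of the glued module -/
def Es : Matrix (Fin n ⊕ Fin n') (Fin n ⊕ Fin n') S :=
  Matrix.fromBlocks ((u * ξ) • p) (u • b) (v • a) ((v * γ ^ 2) • p')

variable (hp : p * p = p) (hp' : p' * p' = p') (hap : a * p = a) (hpa : p' * a = a)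
  (hpb : p * b = b) (hbp : b * p' = b)
  (hba : b * a = (γ ^ 2 * ξ) • p) (hab : a * b = (γ ^ 2 * ξ) • p')
  (huv : u * ξ + v * γ ^ 2 = 1)

include hp hba huv in
lemma blk1 : Matrix.fromCols (ξ • p) b * Matrix.fromRows ((u * ξ) • p) (v • a) = ξ • p := by
  rw [Matrix.fromCols_mul_fromRows]
  have e1 : (ξ • p) * ((u * ξ) • p) = (ξ * (u * ξ)) • p := by
    rw [Matrix.smul_mul, Matrix.mul_smul, hp, smul_smul]
  have e2 : b * (v • a) = (v * (γ ^ 2 * ξ)) • p := by
    rw [Matrix.mul_smul, hba, smul_smul]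
  rw [e1, e2, ← add_smul]
  congr 1
  linear_combination ξ * huv

include hp hpb hap hab in
lemma blk2 : Matrix.fromRows ((u * ξ) • p) (v • a) * Matrix.fromCols (ξ • p) b =
    ξ • Es p p' a b u v γ ξ := by
  rw [Matrix.fromRows_mul_fromCols, Es, Matrix.fromBlocks_smul]
  congr 1
  · rw [Matrix.smul_mul, Matrix.mul_smul, hp, smul_smul, smul_smul]; congr 1; ring
  · rw [Matrix.smul_mul, hpb, smul_smul]; congr 1; ring
  · rw [Matrix.smul_mul, Matrix.mul_smul, hap, smul_smul, smul_smul]; congr 1; ring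
  · rw [Matrix.smul_mul, hab, smul_smul, smul_smul]; congr 1; ring

include hp' hab huv in
lemma blk3 : Matrix.fromCols a ((γ ^ 2) • p') * Matrix.fromRows (u • b) ((v * γ ^ 2) • p') =
    (γ ^ 2) • p' := by
  rw [Matrix.fromCols_mul_fromRows]
  have e1 : a * (u • b) = (u * (γ ^ 2 * ξ)) • p' := by
    rw [Matrix.mul_smul, hab, smul_smul]
  have e2 : ((γ ^ 2) • p') * ((v * γ ^ 2) • p') = (γ ^ 2 * (v * γ ^ 2)) • p' := by
    rw [Matrix.smul_mul, Matrix.mul_smul, hp', smul_smul]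
  rw [e1, e2, ← add_smul]
  congr 1
  linear_combination γ ^ 2 * huv

include hp' hbp hpa hba in
lemma blk4 : Matrix.fromRows (u • b) ((v * γ ^ 2) • p') * Matrix.fromCols a ((γ ^ 2) • p') =
    (γ ^ 2) • Es p p' a b u v γ ξ := by
  rw [Matrix.fromRows_mul_fromCols, Es, Matrix.fromBlocks_smul]
  congr 1
  · rw [Matrix.smul_mul, hba, smul_smul, smul_smul]; congr 1; ring
  · rw [Matrix.smul_mul, Matrix.mul_smul, hbp, smul_smul, smul_smul]; congr 1; ring
  · rw [Matrix.smul_mul, hpa, smul_smul]; congr 1; ring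
  · rw [Matrix.smul_mul, Matrix.mul_smul, hp', smul_smul, smul_smul]; congr 1; ring

end blocks

section lemmaC

lemma exists_of_conj_factor {R : Type*} [CommRing R] {K : Type*} [Fintype K] [DecidableEq K]
    {n n' : ℕ} (E E' V V' : Matrix K K R) (hVV' : V * V' = 1) (hV'V : V' * V = 1)
    (hconj : V * E = E' * V)
    (p : Matrix (Fin n) (Fin n) R) (p' : Matrix (Fin n') (Fin n') R) (hp : p * p = p)
    (hp' : p' * p' = p')
    (U : Matrix K (Fin n) R) (W : Matrix (Fin n) K R) (hUW : U * W = E) (hWU : W * U = p)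
    (U' : Matrix K (Fin n') R) (W' : Matrix (Fin n') K R) (hUW' : U' * W' = E')
    (hWU' : W' * U' = p') :
    ∃ (a₀ : Matrix (Fin n') (Fin n) R) (b₀ : Matrix (Fin n) (Fin n') R),
      b₀ * a₀ = p ∧ a₀ * b₀ = p' := by
  have hconj' : E * V' = V' * E' := by
    calc E * V' = (V' * V) * E * V' := by rw [hV'V, Matrix.one_mul]
      _ = V' * (V * E) * V' := by simp only [Matrix.mul_assoc]
      _ = V' * (E' * V) * V' := by rw [hconj]
      _ = V' * E' * (V * V') := by simp only [Matrix.mul_assoc]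
      _ = V' * E' := by rw [hVV', Matrix.mul_one]
  refine ⟨W' * V * U, W * V' * U', ?_, ?_⟩
  · calc W * V' * U' * (W' * V * U) = W * (V' * (U' * W') * V) * U := by
          simp only [Matrix.mul_assoc]
      _ = W * (V' * (E' * V)) * U := by rw [hUW']; simp only [Matrix.mul_assoc]
      _ = W * (V' * (V * E)) * U := by rw [hconj]
      _ = W * E * U := by rw [← Matrix.mul_assoc V', hV'V, Matrix.one_mul]
      _ = (W * U) * (W * U) := by rw [← hUW]; simp only [Matrix.mul_assoc]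
      _ = p := by rw [hWU, hp]
  · calc W' * V * U * (W * V' * U') = W' * (V * (U * W) * V') * U' := by
          simp only [Matrix.mul_assoc]
      _ = W' * (V * (E * V')) * U' := by rw [hUW]; simp only [Matrix.mul_assoc]
      _ = W' * (V * (V' * E')) * U' := by rw [hconj']
      _ = W' * E' * U' := by rw [← Matrix.mul_assoc V, hVV', Matrix.one_mul]
      _ = (W' * U') * (W' * U') := by rw [← hUW']; simp only [Matrix.mul_assoc]
      _ = p' := by rw [hWU', hp']

end lemmaC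

section model
variable {A : Type u} [CommRing A] {n N : ℕ}

/-- a matrix model from a polynomial factorisation up to a power of `X` -/
noncomputable def modelOf (pC : Matrix (Fin n) (Fin n) A[X]) (E : Matrix (Fin N) (Fin N) A[X])
    (Ap : Matrix (Fin N) (Fin n) A[X]) (Bp : Matrix (Fin n) (Fin N) A[X]) (D : ℕ)
    (hpC : ∀ i j, ∃ x : A, pC i j = Polynomial.C x)
    (hAB : Ap * Bp = ((X : A[X]) ^ (2 * D)) • E) (hBA : Bp * Ap = ((X : A[X]) ^ (2 * D)) • pC)
    (hApC : Ap * pC = Ap) : MatModel A where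
  n := N
  n' := n
  E₀ := E
  F₀ := pC
  G := (T (-(D : ℤ)) : A[T;T⁻¹]) • Bp.map toLaurent
  G' := (T (-(D : ℤ)) : A[T;T⁻¹]) • Ap.map toLaurent
  hEG' := by
    have hTT : (T (-(D : ℤ)) : A[T;T⁻¹]) * T (-(D : ℤ)) * toLaurent ((X : A[X]) ^ (2 * D)) = 1 := by
      rw [Polynomial.toLaurent_X_pow, ← T_add, ← T_add, ← T_zero]
      congr 1; push_cast; ring
    have h1 : E.map toLaurent = ((T (-(D : ℤ)) : A[T;T⁻¹]) * T (-(D : ℤ))) •
        (Ap.map toLaurent * Bp.map toLaurent) := by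
      rw [← Matrix.map_mul, hAB, map_smul_ringHom, smul_smul, hTT, one_smul]
    have h2 : Bp.map (toLaurent (R := A)) * Ap.map toLaurent =
        toLaurent ((X : A[X]) ^ (2 * D)) • pC.map toLaurent := by
      rw [← Matrix.map_mul, hBA, map_smul_ringHom]
    have h3 : Ap.map (toLaurent (R := A)) * pC.map toLaurent = Ap.map toLaurent := by
      rw [← Matrix.map_mul, hApC]
    rw [h1, Matrix.mul_smul, Matrix.smul_mul, Matrix.mul_assoc, h2, Matrix.mul_smul, h3, smul_smul,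
      smul_smul]
    congr 1
    linear_combination (T (-(D : ℤ)) : A[T;T⁻¹]) * hTT
  hG'G := by
    have hTT : (T (-(D : ℤ)) : A[T;T⁻¹]) * T (-(D : ℤ)) * toLaurent ((X : A[X]) ^ (2 * D)) = 1 := by
      rw [Polynomial.toLaurent_X_pow, ← T_add, ← T_add, ← T_zero]
      congr 1; push_cast; ring
    rw [Matrix.smul_mul, Matrix.mul_smul, ← Matrix.map_mul, hAB, map_smul_ringHom, smul_smul,
      smul_smul, hTT, one_smul]
  hGG' := by
    have hTT : (T (-(D : ℤ)) : A[T;T⁻¹]) * T (-(D : ℤ)) * toLaurent ((X : A[X]) ^ (2 * D)) = 1 := by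
      rw [Polynomial.toLaurent_X_pow, ← T_add, ← T_add, ← T_zero]
      congr 1; push_cast; ring
    rw [Matrix.smul_mul, Matrix.mul_smul, ← Matrix.map_mul, hBA, map_smul_ringHom, smul_smul,
      smul_smul, hTT, one_smul]
    refine Matrix.ext fun i j => ?_
    obtain ⟨x, hx⟩ := hpC i j
    simp only [Matrix.map_apply, hx, Polynomial.toLaurent_C, invert_C]

theorem eval_conj (pC : Matrix (Fin n) (Fin n) A[X]) (E : Matrix (Fin N) (Fin N) A[X])
    (Ap : Matrix (Fin N) (Fin n) A[X]) (Bp : Matrix (Fin n) (Fin N) A[X]) (D : ℕ)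
    (hpC : ∀ i j, ∃ x : A, pC i j = Polynomial.C x)
    (hAB : Ap * Bp = ((X : A[X]) ^ (2 * D)) • E) (hBA : Bp * Ap = ((X : A[X]) ^ (2 * D)) • pC)
    (hApC : Ap * pC = Ap) :
    ∃ V₁ V₁' : Matrix (Fin N ⊕ Fin N) (Fin N ⊕ Fin N) A, V₁ * V₁' = 1 ∧ V₁' * V₁ = 1 ∧
      V₁ * Matrix.fromBlocks (E.map (Polynomial.evalRingHom 1)) 0 0 0 =
        Matrix.fromBlocks (E.map (Polynomial.evalRingHom 0)) 0 0 0 * V₁ := by
  obtain ⟨V, V', h1, h2, h3⟩ : ∃ V V' : Matrix (Fin N ⊕ Fin N) (Fin N ⊕ Fin N) A[X],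
      V * V' = 1 ∧ V' * V = 1 ∧
      V * Matrix.fromBlocks E 0 0 0 = Matrix.fromBlocks (E.map kap) 0 0 0 * V :=
    matModel_conj_cast (n := N) (modelOf pC E Ap Bp D hpC hAB hBA hApC) rfl E (fun _ _ => rfl)
  refine ⟨V.map (Polynomial.evalRingHom 1), V'.map (Polynomial.evalRingHom 1), ?_, ?_, ?_⟩
  · rw [← Matrix.map_mul, h1, Matrix.map_one _ (map_zero _) (map_one _)]
  · rw [← Matrix.map_mul, h2, Matrix.map_one _ (map_zero _) (map_one _)]
  · have h4 := congrArg (fun M => M.map (Polynomial.evalRingHom (1 : A))) h3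
    simp only [Matrix.map_mul] at h4
    have e1 : (Matrix.fromBlocks E 0 0 0 : Matrix (Fin N ⊕ Fin N) (Fin N ⊕ Fin N) A[X]).map
        (Polynomial.evalRingHom (1 : A)) =
        Matrix.fromBlocks (E.map (Polynomial.evalRingHom 1)) 0 0 0 := by
      rw [Matrix.fromBlocks_map]
      congr 1 <;> exact Matrix.map_zero _ (map_zero _)
    have e2 : (Matrix.fromBlocks (E.map kap) 0 0 0 :
        Matrix (Fin N ⊕ Fin N) (Fin N ⊕ Fin N) A[X]).map (Polynomial.evalRingHom (1 : A)) =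
        Matrix.fromBlocks (E.map (Polynomial.evalRingHom 0)) 0 0 0 := by
      rw [Matrix.fromBlocks_map]
      congr 1
      · refine Matrix.ext fun i j => ?_
        simp only [Matrix.map_apply, kap_apply, Polynomial.coe_evalRingHom, Polynomial.eval_C]
      · exact Matrix.map_zero _ (map_zero _)
      · exact Matrix.map_zero _ (map_zero _)
      · exact Matrix.map_zero _ (map_zero _)
    rw [e1, e2] at h4
    exact h4

end model

section core
variable {A : Type u} [CommRing A] {n n' : ℕ}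

theorem exists_of_poly_data
    (p : Matrix (Fin n) (Fin n) A) (p' : Matrix (Fin n') (Fin n') A) (hp : p * p = p)
    (hp' : p' * p' = p')
    (a : Matrix (Fin n') (Fin n) A[X]) (b : Matrix (Fin n) (Fin n') A[X]) (g u v : A[X]) (D : ℕ)
    (hg0 : g.eval 0 = 1)
    (hap : a * p.map Polynomial.C = a) (hpa : p'.map Polynomial.C * a = a)
    (hpb : p.map Polynomial.C * b = b) (hbp : b * p'.map Polynomial.C = b)
    (hba : b * a = (g ^ 2 * (X : A[X]) ^ (2 * D)) • p.map Polynomial.C)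
    (hab : a * b = (g ^ 2 * (X : A[X]) ^ (2 * D)) • p'.map Polynomial.C)
    (huv : u * (X : A[X]) ^ (2 * D) + v * g ^ 2 = 1) :
    ∃ (a₀ : Matrix (Fin n') (Fin n) A) (b₀ : Matrix (Fin n) (Fin n') A),
      b₀ * a₀ = p ∧ a₀ * b₀ = p' := by
  classical
  obtain ⟨pC, hpCd⟩ : ∃ pC : Matrix (Fin n) (Fin n) A[X], pC = p.map Polynomial.C := ⟨_, rfl⟩
  obtain ⟨pC', hpCd'⟩ : ∃ pC' : Matrix (Fin n') (Fin n') A[X], pC' = p'.map Polynomial.C :=
    ⟨_, rfl⟩
  rw [← hpCd] at hap hpb hba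
  rw [← hpCd'] at hpa hbp hab
  have hpC : pC * pC = pC := by
    rw [hpCd, ← Matrix.map_mul, hp]
  have hpC' : pC' * pC' = pC' := by
    rw [hpCd', ← Matrix.map_mul, hp']
  obtain ⟨ξ, hξ⟩ : ∃ ξ : A[X], ξ = (X : A[X]) ^ (2 * D) := ⟨_, rfl⟩
  rw [← hξ] at hba hab huv
  obtain ⟨ε, hε⟩ : ∃ ε : Fin (n + n') ≃ Fin n ⊕ Fin n', ε = finSumFinEquiv.symm := ⟨_, rfl⟩
  -- the four block identities
  have b1 := blk1 pC a b u v g ξ hpC hba huv
  have b2 := blk2 pC pC' a b u v g ξ hpC hap hpb hab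
  have b3 := blk3 pC' a b u v g ξ hpC' hab huv
  have b4 := blk4 pC pC' a b u v g ξ hpC' hpa hbp hba
  obtain ⟨E, hE⟩ : ∃ E : Matrix (Fin (n + n')) (Fin (n + n')) A[X],
      E = (Es pC pC' a b u v g ξ).submatrix ε ε := ⟨_, rfl⟩
  obtain ⟨Ap, hAp⟩ : ∃ Ap : Matrix (Fin (n + n')) (Fin n) A[X],
      Ap = (Matrix.fromRows ((u * ξ) • pC) (v • a)).submatrix ε (Equiv.refl (Fin n)) := ⟨_, rfl⟩
  obtain ⟨Bp, hBp⟩ : ∃ Bp : Matrix (Fin n) (Fin (n + n')) A[X],
      Bp = (Matrix.fromCols (ξ • pC) b).submatrix (Equiv.refl (Fin n)) ε := ⟨_, rfl⟩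
  obtain ⟨Ap', hAp'⟩ : ∃ Ap' : Matrix (Fin (n + n')) (Fin n') A[X],
      Ap' = (Matrix.fromRows (u • b) ((v * g ^ 2) • pC')).submatrix ε (Equiv.refl (Fin n')) :=
    ⟨_, rfl⟩
  obtain ⟨Bp', hBp'⟩ : ∃ Bp' : Matrix (Fin n') (Fin (n + n')) A[X],
      Bp' = (Matrix.fromCols a ((g ^ 2) • pC')).submatrix (Equiv.refl (Fin n')) ε := ⟨_, rfl⟩
  have hAB : Ap * Bp = ξ • E := by
    rw [hAp, hBp, Matrix.submatrix_mul_equiv, b2, hE]; rfl
  have hBA : Bp * Ap = ξ • pC := by
    rw [hAp, hBp, Matrix.submatrix_mul_equiv, b1]; rfl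
  have hAB' : Ap' * Bp' = (g ^ 2) • E := by
    rw [hAp', hBp', Matrix.submatrix_mul_equiv, b4, hE]; rfl
  have hBA' : Bp' * Ap' = (g ^ 2) • pC' := by
    rw [hAp', hBp', Matrix.submatrix_mul_equiv, b3]; rfl
  have hApC : Ap * pC = Ap := by
    have h1 : Matrix.fromRows ((u * ξ) • pC) (v • a) * pC =
        Matrix.fromRows ((u * ξ) • pC) (v • a) := by
      rw [Matrix.fromRows_mul, Matrix.smul_mul, Matrix.smul_mul, hpC, hap]
    rw [hAp]
    have h := Matrix.submatrix_mul_equiv (Matrix.fromRows ((u * ξ) • pC) (v • a)) pC ε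
      (Equiv.refl (Fin n)) (Equiv.refl (Fin n))
    rw [h1] at h
    exact h
  have hpCconst : ∀ i j, ∃ x : A, pC i j = Polynomial.C x := fun i j => ⟨p i j, by rw [hpCd]; rfl⟩
  rw [hξ] at hAB hBA
  obtain ⟨V₁, V₁', hV1, hV2, hV3⟩ := eval_conj pC E Ap Bp D hpCconst hAB hBA hApC
  -- evaluations
  have hev1ξ : Polynomial.evalRingHom (1 : A) ((X : A[X]) ^ (2 * D)) = 1 := by simp
  have hev0g : Polynomial.evalRingHom (0 : A) (g ^ 2) = 1 := by
    rw [map_pow, Polynomial.coe_evalRingHom, hg0, one_pow]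
  have hpC1 : pC.map (Polynomial.evalRingHom (1 : A)) = p := by
    refine Matrix.ext fun i j => ?_
    rw [hpCd]; simp
  have hpC0 : pC'.map (Polynomial.evalRingHom (0 : A)) = p' := by
    refine Matrix.ext fun i j => ?_
    rw [hpCd']; simp
  have f1 : Ap.map (Polynomial.evalRingHom (1 : A)) * Bp.map (Polynomial.evalRingHom 1) =
      E.map (Polynomial.evalRingHom 1) := by
    rw [← Matrix.map_mul, hAB, map_smul_ringHom, hev1ξ, one_smul]
  have f2 : Bp.map (Polynomial.evalRingHom (1 : A)) * Ap.map (Polynomial.evalRingHom 1) = p := by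
    rw [← Matrix.map_mul, hBA, map_smul_ringHom, hev1ξ, one_smul, hpC1]
  have f3 : Ap'.map (Polynomial.evalRingHom (0 : A)) * Bp'.map (Polynomial.evalRingHom 0) =
      E.map (Polynomial.evalRingHom 0) := by
    rw [← Matrix.map_mul, hAB', map_smul_ringHom, hev0g, one_smul]
  have f4 : Bp'.map (Polynomial.evalRingHom (0 : A)) * Ap'.map (Polynomial.evalRingHom 0) = p' := by
    rw [← Matrix.map_mul, hBA', map_smul_ringHom, hev0g, one_smul, hpC0]
  refine exists_of_conj_factor _ _ V₁ V₁' hV1 hV2 hV3 p p' hp hp'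
    (Matrix.fromRows (Ap.map (Polynomial.evalRingHom (1 : A))) 0)
    (Matrix.fromCols (Bp.map (Polynomial.evalRingHom (1 : A))) 0) ?_ ?_
    (Matrix.fromRows (Ap'.map (Polynomial.evalRingHom (0 : A))) 0)
    (Matrix.fromCols (Bp'.map (Polynomial.evalRingHom (0 : A))) 0) ?_ ?_
  · rw [Matrix.fromRows_mul_fromCols, f1]; simp
  · rw [Matrix.fromCols_mul_fromRows, f2]; simp
  · rw [Matrix.fromRows_mul_fromCols, f3]; simp
  · rw [Matrix.fromCols_mul_fromRows, f4]; simp

end core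

end Groth.Agent.Lib.Lead.Hor
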