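import Groth.Agent.Lib.Lead.Hor.HorR

/-!
# Monic localisation: from a module isomorphism over `A(t)` to polynomial matrix data, and the
cancellation theorem.
-/

set_option autoImplicit false
set_option linter.style.haveILetI false

namespace Groth.Agent.Lib.Lead.Hor

open Polynomial LaurentPolynomial TensorProduct

universe u

section bc
variable {R : Type*} [CommRing R] (S : Type*) [CommRing S] [Algebra R S]
  {M : Type*} [AddCommGroup M] [Module R M] {n : ℕ}
  (f : (Fin n → R) →ₗ[R] M) (g : M →ₗ[R] (Fin n → R))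

/-- base change of a presentation -/
noncomputable def bcF : (Fin n → S) →ₗ[S] S ⊗[R] M :=
  (f.baseChange S) ∘ₗ (TensorProduct.piScalarRight R S S (Fin n)).symm.toLinearMap

/-- base change of a coordinate map -/
noncomputable def bcG : S ⊗[R] M →ₗ[S] (Fin n → S) :=
  (TensorProduct.piScalarRight R S S (Fin n)).toLinearMap ∘ₗ (g.baseChange S)

lemma bcF_bcG (hfg : f ∘ₗ g = LinearMap.id) (x : S ⊗[R] M) : bcF S f (bcG S g x) = x := by
  simp only [bcF, bcG, LinearMap.comp_apply, LinearEquiv.coe_coe, LinearEquiv.symm_apply_apply]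
  rw [← LinearMap.comp_apply, ← LinearMap.baseChange_comp, hfg, LinearMap.baseChange_id]
  rfl

lemma bcG_bcF_single (i j : Fin n) :
    bcG S g (bcF S f (Pi.single j 1)) i = algebraMap R S (g (f (Pi.single j 1)) i) := by
  simp only [bcF, bcG, LinearMap.comp_apply, LinearEquiv.coe_coe]
  rw [TensorProduct.piScalarRight_symm_single, LinearMap.baseChange_tmul,
    LinearMap.baseChange_tmul, TensorProduct.piScalarRight_apply,
    TensorProduct.piScalarRightHom_tmul, Algebra.algebraMap_eq_smul_one]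

lemma toMatrix'_bcG_bcF : LinearMap.toMatrix' (bcG S g ∘ₗ bcF S f) =
    (LinearMap.toMatrix' (g ∘ₗ f)).map (algebraMap R S) := by
  refine Matrix.ext fun i j => ?_
  rw [LinearMap.toMatrix'_apply, LinearMap.comp_apply, bcG_bcF_single, Matrix.map_apply,
    LinearMap.toMatrix'_apply, LinearMap.comp_apply]

variable {M' : Type*} [AddCommGroup M'] [Module R M'] {n' : ℕ}
  (f' : (Fin n' → R) →ₗ[R] M') (g' : M' →ₗ[R] (Fin n' → R))

theorem exists_matrices_of_iso (hfg : f ∘ₗ g = LinearMap.id) (hfg' : f' ∘ₗ g' = LinearMap.id)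
    (Φ : S ⊗[R] M ≃ₗ[S] S ⊗[R] M') :
    ∃ (α : Matrix (Fin n') (Fin n) S) (β : Matrix (Fin n) (Fin n') S),
      β * α = (LinearMap.toMatrix' (g ∘ₗ f)).map (algebraMap R S) ∧
      α * β = (LinearMap.toMatrix' (g' ∘ₗ f')).map (algebraMap R S) ∧
      α * (LinearMap.toMatrix' (g ∘ₗ f)).map (algebraMap R S) = α ∧
      (LinearMap.toMatrix' (g' ∘ₗ f')).map (algebraMap R S) * α = α ∧
      (LinearMap.toMatrix' (g ∘ₗ f)).map (algebraMap R S) * β = β ∧
      β * (LinearMap.toMatrix' (g' ∘ₗ f')).map (algebraMap R S) = β := by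
  obtain ⟨αl, hαl⟩ : ∃ αl : (Fin n → S) →ₗ[S] (Fin n' → S),
      αl = bcG S g' ∘ₗ Φ.toLinearMap ∘ₗ bcF S f := ⟨_, rfl⟩
  obtain ⟨βl, hβl⟩ : ∃ βl : (Fin n' → S) →ₗ[S] (Fin n → S),
      βl = bcG S g ∘ₗ Φ.symm.toLinearMap ∘ₗ bcF S f' := ⟨_, rfl⟩
  have h1 : βl ∘ₗ αl = bcG S g ∘ₗ bcF S f := by
    refine LinearMap.ext fun x => ?_
    rw [hαl, hβl]
    simp only [LinearMap.comp_apply, LinearEquiv.coe_coe]
    rw [bcF_bcG S f' g' hfg', Φ.symm_apply_apply]
  have h2 : αl ∘ₗ βl = bcG S g' ∘ₗ bcF S f' := by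
    refine LinearMap.ext fun x => ?_
    rw [hαl, hβl]
    simp only [LinearMap.comp_apply, LinearEquiv.coe_coe]
    rw [bcF_bcG S f g hfg, Φ.apply_symm_apply]
  have h3 : αl ∘ₗ (bcG S g ∘ₗ bcF S f) = αl := by
    refine LinearMap.ext fun x => ?_
    rw [hαl]
    simp only [LinearMap.comp_apply, LinearEquiv.coe_coe]
    rw [bcF_bcG S f g hfg]
  have h4 : (bcG S g' ∘ₗ bcF S f') ∘ₗ αl = αl := by
    refine LinearMap.ext fun x => ?_
    rw [hαl]
    simp only [LinearMap.comp_apply, LinearEquiv.coe_coe]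
    rw [bcF_bcG S f' g' hfg']
  have h5 : (bcG S g ∘ₗ bcF S f) ∘ₗ βl = βl := by
    refine LinearMap.ext fun x => ?_
    rw [hβl]
    simp only [LinearMap.comp_apply, LinearEquiv.coe_coe]
    rw [bcF_bcG S f g hfg]
  have h6 : βl ∘ₗ (bcG S g' ∘ₗ bcF S f') = βl := by
    refine LinearMap.ext fun x => ?_
    rw [hβl]
    simp only [LinearMap.comp_apply, LinearEquiv.coe_coe]
    rw [bcF_bcG S f' g' hfg']
  refine ⟨LinearMap.toMatrix' αl, LinearMap.toMatrix' βl, ?_, ?_, ?_, ?_, ?_, ?_⟩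
  · rw [← LinearMap.toMatrix'_comp, h1, toMatrix'_bcG_bcF]
  · rw [← LinearMap.toMatrix'_comp, h2, toMatrix'_bcG_bcF]
  · rw [← toMatrix'_bcG_bcF, ← LinearMap.toMatrix'_comp, h3]
  · rw [← toMatrix'_bcG_bcF, ← LinearMap.toMatrix'_comp, h4]
  · rw [← toMatrix'_bcG_bcF, ← LinearMap.toMatrix'_comp, h5]
  · rw [← toMatrix'_bcG_bcF, ← LinearMap.toMatrix'_comp, h6]

end bc

section denom
variable {A : Type u} [CommRing A] (Mm : Submonoid A[X]) (hM : ∀ f : A[X], f ∈ Mm ↔ f.Monic)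
  (At : Type u) [CommRing At] [Algebra A[X] At] [IsLocalization Mm At]
  [Algebra A At] [IsScalarTower A A[X] At] {n n' : ℕ}

include hM in
theorem exists_poly_of_loc (p : Matrix (Fin n) (Fin n) A) (p' : Matrix (Fin n') (Fin n') A)
    (α : Matrix (Fin n') (Fin n) At) (β : Matrix (Fin n) (Fin n') At)
    (hβα : β * α = p.map (algebraMap A At)) (hαβ : α * β = p'.map (algebraMap A At))
    (hαp : α * p.map (algebraMap A At) = α) (hpα : p'.map (algebraMap A At) * α = α)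
    (hpβ : p.map (algebraMap A At) * β = β) (hβp : β * p'.map (algebraMap A At) = β) :
    ∃ (f : A[X]) (a0 : Matrix (Fin n') (Fin n) A[X]) (b0 : Matrix (Fin n) (Fin n') A[X]),
      f.Monic ∧ b0 * a0 = (f ^ 2) • p.map Polynomial.C ∧ a0 * b0 = (f ^ 2) • p'.map Polynomial.C ∧
      a0 * p.map Polynomial.C = a0 ∧ p'.map Polynomial.C * a0 = a0 ∧
      p.map Polynomial.C * b0 = b0 ∧ b0 * p'.map Polynomial.C = b0 := by
  classical
  obtain ⟨φ, hφ⟩ : ∃ φ : A[X] →+* At, φ = algebraMap A[X] At := ⟨_, rfl⟩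
  have hφC : ∀ x : A, algebraMap A At x = φ (Polynomial.C x) := fun x => by
    rw [hφ, IsScalarTower.algebraMap_apply A A[X] At]; rfl
  have hpmap : p.map (algebraMap A At) = (p.map Polynomial.C).map φ := by
    refine Matrix.ext fun i j => ?_
    simp only [Matrix.map_apply, hφC]
  have hpmap' : p'.map (algebraMap A At) = (p'.map Polynomial.C).map φ := by
    refine Matrix.ext fun i j => ?_
    simp only [Matrix.map_apply, hφC]
  rw [hpmap] at hβα hαp hpβ
  rw [hpmap'] at hαβ hpα hβp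
  have hinj : Function.Injective φ := by
    rw [hφ]
    exact IsLocalization.injective At (M := Mm)
      (fun f hf => ((hM f).mp hf).mem_nonZeroDivisors)
  obtain ⟨⟨f, hf⟩, hint⟩ := IsLocalization.exist_integer_multiples_of_finite Mm
    (Sum.elim (fun ij : Fin n' × Fin n => α ij.1 ij.2) (fun ij : Fin n × Fin n' => β ij.1 ij.2))
  choose q hq using hint
  have hq1 : ∀ i j, φ (q (Sum.inl (i, j))) = φ f * α i j := fun i j => by
    rw [hφ, hq (Sum.inl (i, j)), Algebra.smul_def]; rfl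
  have hq2 : ∀ i j, φ (q (Sum.inr (i, j))) = φ f * β i j := fun i j => by
    rw [hφ, hq (Sum.inr (i, j)), Algebra.smul_def]; rfl
  obtain ⟨a0, ha0d⟩ : ∃ a0 : Matrix (Fin n') (Fin n) A[X],
      a0 = Matrix.of fun i j => q (Sum.inl (i, j)) := ⟨_, rfl⟩
  obtain ⟨b0, hb0d⟩ : ∃ b0 : Matrix (Fin n) (Fin n') A[X],
      b0 = Matrix.of fun i j => q (Sum.inr (i, j)) := ⟨_, rfl⟩
  have ha0 : a0.map φ = φ f • α := by
    refine Matrix.ext fun i j => ?_
    rw [ha0d, Matrix.map_apply, Matrix.of_apply, hq1, Matrix.smul_apply, smul_eq_mul]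
  have hb0 : b0.map φ = φ f • β := by
    refine Matrix.ext fun i j => ?_
    rw [hb0d, Matrix.map_apply, Matrix.of_apply, hq2, Matrix.smul_apply, smul_eq_mul]
  refine ⟨f, a0, b0, (hM f).mp hf, ?_, ?_, ?_, ?_, ?_, ?_⟩
  · apply Matrix.map_injective hinj
    show (b0 * a0).map φ = ((f ^ 2) • p.map Polynomial.C).map φ
    rw [Matrix.map_mul, ha0, hb0, map_smul_ringHom, map_pow, Matrix.smul_mul, Matrix.mul_smul,
      hβα, smul_smul, sq]
  · apply Matrix.map_injective hinj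
    show (a0 * b0).map φ = ((f ^ 2) • p'.map Polynomial.C).map φ
    rw [Matrix.map_mul, ha0, hb0, map_smul_ringHom, map_pow, Matrix.smul_mul, Matrix.mul_smul,
      hαβ, smul_smul, sq]
  · apply Matrix.map_injective hinj
    show (a0 * p.map Polynomial.C).map φ = a0.map φ
    rw [Matrix.map_mul, ha0, Matrix.smul_mul, hαp]
  · apply Matrix.map_injective hinj
    show (p'.map Polynomial.C * a0).map φ = a0.map φ
    rw [Matrix.map_mul, ha0, Matrix.mul_smul, hpα]
  · apply Matrix.map_injective hinj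
    show (p.map Polynomial.C * b0).map φ = b0.map φ
    rw [Matrix.map_mul, hb0, Matrix.mul_smul, hpβ]
  · apply Matrix.map_injective hinj
    show (b0 * p'.map Polynomial.C).map φ = b0.map φ
    rw [Matrix.map_mul, hb0, Matrix.smul_mul, hβp]

end denom

section rev
variable {A : Type u} [CommRing A] {n n' : ℕ}

theorem exists_rev_data (p : Matrix (Fin n) (Fin n) A) (p' : Matrix (Fin n') (Fin n') A)
    (f : A[X]) (hf : f.Monic) (a0 : Matrix (Fin n') (Fin n) A[X])
    (b0 : Matrix (Fin n) (Fin n') A[X])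
    (hba0 : b0 * a0 = (f ^ 2) • p.map Polynomial.C)
    (hab0 : a0 * b0 = (f ^ 2) • p'.map Polynomial.C)
    (hap0 : a0 * p.map Polynomial.C = a0) (hpa0 : p'.map Polynomial.C * a0 = a0)
    (hpb0 : p.map Polynomial.C * b0 = b0) (hbp0 : b0 * p'.map Polynomial.C = b0) :
    ∃ (a : Matrix (Fin n') (Fin n) A[X]) (b : Matrix (Fin n) (Fin n') A[X]) (g u v : A[X])
      (D : ℕ), g.eval 0 = 1 ∧
      a * p.map Polynomial.C = a ∧ p'.map Polynomial.C * a = a ∧
      p.map Polynomial.C * b = b ∧ b * p'.map Polynomial.C = b ∧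
      b * a = (g ^ 2 * (X : A[X]) ^ (2 * D)) • p.map Polynomial.C ∧
      a * b = (g ^ 2 * (X : A[X]) ^ (2 * D)) • p'.map Polynomial.C ∧
      u * (X : A[X]) ^ (2 * D) + v * g ^ 2 = 1 := by
  classical
  obtain ⟨ρ, hρd⟩ : ∃ ρ : A[X] →+* A[T;T⁻¹],
      ρ = (LaurentPolynomial.invert (R := A)).toRingEquiv.toRingHom.comp
        (Polynomial.toLaurent : A[X] →+* A[T;T⁻¹]) := ⟨_, rfl⟩
  have hρ : ∀ q : A[X], ρ q = invert (toLaurent q) := fun q => by rw [hρd]; rfl
  have hρC : ∀ x : A, ρ (Polynomial.C x) = toLaurent (Polynomial.C x) := fun x => by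
    rw [hρ, Polynomial.toLaurent_C, invert_C]
  obtain ⟨g, hgd⟩ : ∃ g : A[X], g = f.reverse := ⟨_, rfl⟩
  obtain ⟨d, hdd⟩ : ∃ d : ℕ, d = f.natDegree := ⟨_, rfl⟩
  have hρf : ρ f = toLaurent g * T (-(d : ℤ)) := by
    rw [hρ, hgd, toLaurent_reverse, mul_assoc, ← T_add, hdd, add_neg_cancel, T_zero,
      mul_one]
  have hgc : g.coeff 0 = 1 := by
    rw [hgd, Polynomial.coeff_zero_reverse]; exact hf
  have hg0 : g.eval 0 = 1 := by
    rw [← Polynomial.coeff_zero_eq_eval_zero, hgc]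
  obtain ⟨D₀, hD₀⟩ := exists_isT_T_mul_fin
    (Sum.elim (fun ij : Fin n' × Fin n => ρ (a0 ij.1 ij.2))
      (fun ij : Fin n × Fin n' => ρ (b0 ij.1 ij.2)))
  have hDle : (D₀ : ℤ) ≤ ((D₀ + d : ℕ) : ℤ) := by push_cast; omega
  have hA : ∀ i j, ∃ q : A[X], toLaurent q = T ((D₀ + d : ℕ) : ℤ) * ρ (a0 i j) := fun i j =>
    exists_of_isT (hD₀ (Sum.inl (i, j)) _ hDle)
  have hB : ∀ i j, ∃ q : A[X], toLaurent q = T ((D₀ + d : ℕ) : ℤ) * ρ (b0 i j) := fun i j =>
    exists_of_isT (hD₀ (Sum.inr (i, j)) _ hDle)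
  choose a ha using hA
  choose b hb using hB
  have haL : (Matrix.of a).map (toLaurent (R := A)) =
      (T ((D₀ + d : ℕ) : ℤ) : A[T;T⁻¹]) • a0.map ρ := by
    refine Matrix.ext fun i j => ?_
    rw [Matrix.map_apply, Matrix.of_apply, ha, Matrix.smul_apply, smul_eq_mul, Matrix.map_apply]
  have hbL : (Matrix.of b).map (toLaurent (R := A)) =
      (T ((D₀ + d : ℕ) : ℤ) : A[T;T⁻¹]) • b0.map ρ := by
    refine Matrix.ext fun i j => ?_
    rw [Matrix.map_apply, Matrix.of_apply, hb, Matrix.smul_apply, smul_eq_mul, Matrix.map_apply]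
  have hpL : (p.map Polynomial.C).map (toLaurent (R := A)) = (p.map Polynomial.C).map ρ := by
    refine Matrix.ext fun i j => ?_
    simp only [Matrix.map_apply, hρC]
  have hpL' : (p'.map Polynomial.C).map (toLaurent (R := A)) = (p'.map Polynomial.C).map ρ := by
    refine Matrix.ext fun i j => ?_
    simp only [Matrix.map_apply, hρC]
  have hinj : Function.Injective (toLaurent (R := A)) := Polynomial.toLaurent_injective
  have hTT : (T ((D₀ + d : ℕ) : ℤ) : A[T;T⁻¹]) * T ((D₀ + d : ℕ) : ℤ) * ρ f ^ 2 =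
      toLaurent (g ^ 2 * (X : A[X]) ^ (2 * D₀)) := by
    have h1 : (T ((D₀ + d : ℕ) : ℤ) : A[T;T⁻¹]) * T (-(d : ℤ)) = T (D₀ : ℤ) := by
      rw [← T_add]; congr 1; push_cast; ring
    have h2 : toLaurent ((X : A[X]) ^ (2 * D₀)) = (T (D₀ : ℤ) : A[T;T⁻¹]) * T (D₀ : ℤ) := by
      rw [Polynomial.toLaurent_X_pow, ← T_add]; congr 1; push_cast; ring
    rw [hρf, map_mul, map_pow, h2, ← h1]
    ring
  obtain ⟨u, v, huv⟩ : IsCoprime ((X : A[X]) ^ (2 * D₀)) (g ^ 2) := by
    apply IsCoprime.pow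
    refine ⟨-g.divX, 1, ?_⟩
    have := Polynomial.divX_mul_X_add g
    rw [hgc, Polynomial.C_1] at this
    linear_combination (-1 : A[X]) * this
  refine ⟨Matrix.of a, Matrix.of b, g, u, v, D₀, hg0, ?_, ?_, ?_, ?_, ?_, ?_, huv⟩
  · apply Matrix.map_injective hinj
    show (Matrix.of a * p.map Polynomial.C).map toLaurent = (Matrix.of a).map toLaurent
    rw [Matrix.map_mul, haL, hpL, Matrix.smul_mul, ← Matrix.map_mul, hap0]
  · apply Matrix.map_injective hinj
    show (p'.map Polynomial.C * Matrix.of a).map toLaurent = (Matrix.of a).map toLaurent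
    rw [Matrix.map_mul, haL, hpL', Matrix.mul_smul, ← Matrix.map_mul, hpa0]
  · apply Matrix.map_injective hinj
    show (p.map Polynomial.C * Matrix.of b).map toLaurent = (Matrix.of b).map toLaurent
    rw [Matrix.map_mul, hbL, hpL, Matrix.mul_smul, ← Matrix.map_mul, hpb0]
  · apply Matrix.map_injective hinj
    show (Matrix.of b * p'.map Polynomial.C).map toLaurent = (Matrix.of b).map toLaurent
    rw [Matrix.map_mul, hbL, hpL', Matrix.smul_mul, ← Matrix.map_mul, hbp0]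
  · apply Matrix.map_injective hinj
    show (Matrix.of b * Matrix.of a).map toLaurent =
      ((g ^ 2 * (X : A[X]) ^ (2 * D₀)) • p.map Polynomial.C).map toLaurent
    rw [Matrix.map_mul, haL, hbL, Matrix.smul_mul, Matrix.mul_smul, ← Matrix.map_mul, hba0,
      map_smul_ringHom, map_smul_ringHom, smul_smul, smul_smul, map_pow, hpL, hTT]
  · apply Matrix.map_injective hinj
    show (Matrix.of a * Matrix.of b).map toLaurent =
      ((g ^ 2 * (X : A[X]) ^ (2 * D₀)) • p'.map Polynomial.C).map toLaurent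
    rw [Matrix.map_mul, haL, hbL, Matrix.smul_mul, Matrix.mul_smul, ← Matrix.map_mul, hab0,
      map_smul_ringHom, map_smul_ringHom, smul_smul, smul_smul, map_pow, hpL', hTT]

end rev

section main
variable {A : Type u} [CommRing A] (Mm : Submonoid A[X]) (hM : ∀ f : A[X], f ∈ Mm ↔ f.Monic)
  (At : Type u) [CommRing At] [Algebra A[X] At] [IsLocalization Mm At]
  [Algebra A At] [IsScalarTower A A[X] At]
  {P P' : Type u} [AddCommGroup P] [Module A P] [AddCommGroup P'] [Module A P'] {n n' : ℕ}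
  (f : (Fin n → A) →ₗ[A] P) (g : P →ₗ[A] (Fin n → A)) (hfg : f ∘ₗ g = LinearMap.id)
  (f' : (Fin n' → A) →ₗ[A] P') (g' : P' →ₗ[A] (Fin n' → A)) (hfg' : f' ∘ₗ g' = LinearMap.id)

include hM hfg hfg' in
theorem equiv_of_monicLocalization (Φ : At ⊗[A] P ≃ₗ[At] At ⊗[A] P') : Nonempty (P ≃ₗ[A] P') := by
  classical
  obtain ⟨p, hpd⟩ : ∃ p : Matrix (Fin n) (Fin n) A, p = LinearMap.toMatrix' (g ∘ₗ f) := ⟨_, rfl⟩
  obtain ⟨p', hpd'⟩ : ∃ p' : Matrix (Fin n') (Fin n') A, p' = LinearMap.toMatrix' (g' ∘ₗ f') :=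
    ⟨_, rfl⟩
  have hp : p * p = p := by
    rw [hpd, ← LinearMap.toMatrix'_comp]
    congr 1
    refine LinearMap.ext fun x => ?_
    simp only [LinearMap.comp_apply]
    have h : f (g (f x)) = f x := LinearMap.congr_fun hfg (f x)
    rw [h]
  have hp' : p' * p' = p' := by
    rw [hpd', ← LinearMap.toMatrix'_comp]
    congr 1
    refine LinearMap.ext fun x => ?_
    simp only [LinearMap.comp_apply]
    have h : f' (g' (f' x)) = f' x := LinearMap.congr_fun hfg' (f' x)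
    rw [h]
  obtain ⟨α, β, h1, h2, h3, h4, h5, h6⟩ := exists_matrices_of_iso At f g f' g' hfg hfg' Φ
  rw [← hpd] at h1 h3 h5
  rw [← hpd'] at h2 h4 h6
  obtain ⟨fm, a0, b0, hfm, k1, k2, k3, k4, k5, k6⟩ :=
    exists_poly_of_loc Mm hM At p p' α β h1 h2 h3 h4 h5 h6
  obtain ⟨a, b, gg, u, v, D, hg0, l1, l2, l3, l4, l5, l6, huv⟩ :=
    exists_rev_data p p' fm hfm a0 b0 k1 k2 k3 k4 k5 k6
  obtain ⟨a₀, b₀, hba, hab⟩ :=
    exists_of_poly_data p p' hp hp' a b gg u v D hg0 l1 l2 l3 l4 l5 l6 huv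
  have hgf : ∀ y, g (f y) = p.mulVec y := fun y => by
    rw [hpd]; exact (LinearMap.toMatrix'_mulVec (g ∘ₗ f) y).symm
  have hgf' : ∀ y, g' (f' y) = p'.mulVec y := fun y => by
    rw [hpd']; exact (LinearMap.toMatrix'_mulVec (g' ∘ₗ f') y).symm
  have e1 : b₀ * p' * a₀ = p := by
    rw [← hab, Matrix.mul_assoc, Matrix.mul_assoc, ← Matrix.mul_assoc a₀, hab, ← hab,
      ← Matrix.mul_assoc, ← Matrix.mul_assoc, hba, Matrix.mul_assoc, hba, hp]
  have e2 : a₀ * p * b₀ = p' := by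
    rw [← hba, Matrix.mul_assoc, Matrix.mul_assoc, ← Matrix.mul_assoc b₀, hba, ← hba,
      ← Matrix.mul_assoc, ← Matrix.mul_assoc, hab, Matrix.mul_assoc, hab, hp']
  refine ⟨LinearEquiv.ofLinearMap (f' ∘ₗ Matrix.toLin' a₀ ∘ₗ g) (f ∘ₗ Matrix.toLin' b₀ ∘ₗ g')
    ?_ ?_⟩
  · refine LinearMap.ext fun x => ?_
    simp only [LinearMap.comp_apply, Matrix.toLin'_apply, LinearMap.id_apply]
    have h : f' (g' (f' (g' x))) = f' (g' x) := LinearMap.congr_fun hfg' (f' (g' x))
    rw [hgf, Matrix.mulVec_mulVec, Matrix.mulVec_mulVec, e2, ← hgf', h]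
    exact LinearMap.congr_fun hfg' x
  · refine LinearMap.ext fun x => ?_
    simp only [LinearMap.comp_apply, Matrix.toLin'_apply, LinearMap.id_apply]
    have h : f (g (f (g x))) = f (g x) := LinearMap.congr_fun hfg (f (g x))
    rw [hgf', Matrix.mulVec_mulVec, Matrix.mulVec_mulVec, e1, ← hgf, h]
    exact LinearMap.congr_fun hfg x

end main

end Groth.Agent.Lib.Lead.Hor
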