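import Groth.Agent.Lib.Lead.Hor.HorR2

/-!
# Finite projective modules which become isomorphic over `R((t))` are isomorphic
-/

set_option autoImplicit false
set_option linter.style.haveILetI false

namespace Groth.Agent.Lib.Lead.Hor

open Polynomial TensorProduct

universe u

section blocks2
variable {S : Type*} [CommRing S] {n n' : ℕ}
  (p : Matrix (Fin n) (Fin n) S) (p' : Matrix (Fin n') (Fin n') S)
  (a : Matrix (Fin n') (Fin n) S) (b : Matrix (Fin n) (Fin n') S)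
  (σ : Matrix (Fin n) (Fin n) S) (σ' : Matrix (Fin n') (Fin n') S) (ξ ω : S)

/-- the idempotent of the module glued along the formal neighbourhood of `0` -/
def Et : Matrix (Fin n ⊕ Fin n') (Fin n ⊕ Fin n') S :=
  Matrix.fromBlocks ((ω * ξ) • σ) (ω • (σ * b)) a (p' - (ω * ξ) • σ')

variable (hap : a * p = a) (hpσ : p * σ = σ) (hσp : σ * p = σ)
  (hba : b * a = ξ • p - (ω * ξ ^ 2) • σ) (hab : a * b = ξ • p' - (ω * ξ ^ 2) • σ')

include hpσ hba in
lemma blkA : Matrix.fromCols (ξ • p) b * Matrix.fromRows ((ω * ξ) • σ) a = ξ • p := by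
  rw [Matrix.fromCols_mul_fromRows, hba]
  have e1 : (ξ • p) * ((ω * ξ) • σ) = (ω * ξ ^ 2) • σ := by
    rw [Matrix.smul_mul, Matrix.mul_smul, hpσ, smul_smul]; congr 1; ring
  rw [e1]; abel

include hap hσp hab in
lemma blkB : Matrix.fromRows ((ω * ξ) • σ) a * Matrix.fromCols (ξ • p) b =
    ξ • Et p' a b σ σ' ξ ω := by
  rw [Matrix.fromRows_mul_fromCols, Et, Matrix.fromBlocks_smul]
  congr 1
  · rw [Matrix.smul_mul, Matrix.mul_smul, hσp, smul_smul, smul_smul]; congr 1; ring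
  · rw [Matrix.smul_mul, smul_smul]; congr 1; ring
  · rw [Matrix.mul_smul, hap]
  · rw [hab, smul_sub, smul_smul]; congr 2; ring

end blocks2

section core2
variable {A : Type u} [CommRing A] {n n' : ℕ}

theorem exists_of_trunc_data
    (p : Matrix (Fin n) (Fin n) A) (p' : Matrix (Fin n') (Fin n') A) (hp : p * p = p)
    (hp' : p' * p' = p')
    (a : Matrix (Fin n') (Fin n) A[X]) (b : Matrix (Fin n) (Fin n') A[X])
    (σ : Matrix (Fin n) (Fin n) A[X]) (σ' : Matrix (Fin n') (Fin n') A[X]) (k : ℕ) (hk : 1 ≤ k)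
    (ω : A[X]) (hω : ω.eval 0 = 0)
    (hap : a * p.map Polynomial.C = a) (hpa : p'.map Polynomial.C * a = a)
    (hpσ : p.map Polynomial.C * σ = σ) (hσp : σ * p.map Polynomial.C = σ)
    (hba : b * a = ((X : A[X]) ^ (2 * k)) • p.map Polynomial.C -
      (ω * ((X : A[X]) ^ (2 * k)) ^ 2) • σ)
    (hab : a * b = ((X : A[X]) ^ (2 * k)) • p'.map Polynomial.C -
      (ω * ((X : A[X]) ^ (2 * k)) ^ 2) • σ') :
    ∃ (a₀ : Matrix (Fin n') (Fin n) A) (b₀ : Matrix (Fin n) (Fin n') A),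
      b₀ * a₀ = p ∧ a₀ * b₀ = p' := by
  classical
  obtain ⟨pC, hpCd⟩ : ∃ pC : Matrix (Fin n) (Fin n) A[X], pC = p.map Polynomial.C := ⟨_, rfl⟩
  obtain ⟨pC', hpCd'⟩ : ∃ pC' : Matrix (Fin n') (Fin n') A[X], pC' = p'.map Polynomial.C :=
    ⟨_, rfl⟩
  rw [← hpCd] at hap hpσ hσp hba
  rw [← hpCd'] at hpa hab
  have hpC : pC * pC = pC := by rw [hpCd, ← Matrix.map_mul, hp]
  obtain ⟨ξ, hξ⟩ : ∃ ξ : A[X], ξ = (X : A[X]) ^ (2 * k) := ⟨_, rfl⟩
  rw [← hξ] at hba hab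
  obtain ⟨ε, hε⟩ : ∃ ε : Fin (n + n') ≃ Fin n ⊕ Fin n', ε = finSumFinEquiv.symm := ⟨_, rfl⟩
  have b1 := blkA pC a b σ ξ ω hpσ hba
  have b2 := blkB pC pC' a b σ σ' ξ ω hap hσp hab
  obtain ⟨E, hE⟩ : ∃ E : Matrix (Fin (n + n')) (Fin (n + n')) A[X],
      E = (Et pC' a b σ σ' ξ ω).submatrix ε ε := ⟨_, rfl⟩
  obtain ⟨Ap, hAp⟩ : ∃ Ap : Matrix (Fin (n + n')) (Fin n) A[X],
      Ap = (Matrix.fromRows ((ω * ξ) • σ) a).submatrix ε (Equiv.refl (Fin n)) := ⟨_, rfl⟩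
  obtain ⟨Bp, hBp⟩ : ∃ Bp : Matrix (Fin n) (Fin (n + n')) A[X],
      Bp = (Matrix.fromCols (ξ • pC) b).submatrix (Equiv.refl (Fin n)) ε := ⟨_, rfl⟩
  have hAB : Ap * Bp = ξ • E := by
    rw [hAp, hBp, Matrix.submatrix_mul_equiv, b2, hE]; rfl
  have hBA : Bp * Ap = ξ • pC := by
    rw [hAp, hBp, Matrix.submatrix_mul_equiv, b1]; rfl
  have hApC : Ap * pC = Ap := by
    have h1 : Matrix.fromRows ((ω * ξ) • σ) a * pC = Matrix.fromRows ((ω * ξ) • σ) a := by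
      rw [Matrix.fromRows_mul, Matrix.smul_mul, hσp, hap]
    rw [hAp]
    have h := Matrix.submatrix_mul_equiv (Matrix.fromRows ((ω * ξ) • σ) a) pC ε
      (Equiv.refl (Fin n)) (Equiv.refl (Fin n))
    rw [h1] at h
    exact h
  have hpCconst : ∀ i j, ∃ x : A, pC i j = Polynomial.C x := fun i j => ⟨p i j, by rw [hpCd]; rfl⟩
  rw [hξ] at hAB hBA
  obtain ⟨V₁, V₁', hV1, hV2, hV3⟩ := eval_conj pC E Ap Bp k hpCconst hAB hBA hApC
  have hev1ξ : Polynomial.evalRingHom (1 : A) ((X : A[X]) ^ (2 * k)) = 1 := by simp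
  have hev0ξ : Polynomial.evalRingHom (0 : A) ξ = 0 := by
    rw [hξ]
    have : 2 * k ≠ 0 := by omega
    simp [this]
  have hev0ω : Polynomial.evalRingHom (0 : A) ω = 0 := hω
  have hpC1 : pC.map (Polynomial.evalRingHom (1 : A)) = p := by
    refine Matrix.ext fun i j => ?_
    rw [hpCd]; simp
  have hpC0 : pC'.map (Polynomial.evalRingHom (0 : A)) = p' := by
    refine Matrix.ext fun i j => ?_
    rw [hpCd']; simp
  have f1 : Ap.map (Polynomial.evalRingHom (1 : A)) * Bp.map (Polynomial.evalRingHom 1) =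
      E.map (Polynomial.evalRingHom 1) := by
    rw [← Matrix.map_mul, hAB, map_smul_ringHom, hev1ξ, one_smul]
  have f2 : Bp.map (Polynomial.evalRingHom (1 : A)) * Ap.map (Polynomial.evalRingHom 1) = p := by
    rw [← Matrix.map_mul, hBA, map_smul_ringHom, hev1ξ, one_smul, hpC1]
  -- the fibre at 0
  obtain ⟨a0, ha0⟩ : ∃ a0 : Matrix (Fin n') (Fin n) A, a0 = a.map (Polynomial.evalRingHom 0) :=
    ⟨_, rfl⟩
  have hpa0 : p' * a0 = a0 := by
    rw [ha0, ← hpC0, ← Matrix.map_mul, hpa]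
  have hE0 : E.map (Polynomial.evalRingHom (0 : A)) =
      (Matrix.fromBlocks (0 : Matrix (Fin n) (Fin n) A) (0 : Matrix (Fin n) (Fin n') A) a0
        p').submatrix ε ε := by
    rw [hE, ← Matrix.submatrix_map, Et, Matrix.fromBlocks_map]
    congr 2
    · rw [map_smul_ringHom, map_mul, hev0ω, zero_mul, zero_smul]
    · rw [map_smul_ringHom, hev0ω, zero_smul]
    · rw [ha0]
    · have h : (pC' - (ω * ξ) • σ').map (Polynomial.evalRingHom (0 : A)) =
          pC'.map (Polynomial.evalRingHom 0) - ((ω * ξ) • σ').map (Polynomial.evalRingHom 0) :=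
        Matrix.map_sub _ (map_sub _) _ _
      rw [h, map_smul_ringHom, map_mul, hev0ω, zero_mul, zero_smul, sub_zero, hpC0]
  obtain ⟨U₀, hU₀⟩ : ∃ U₀ : Matrix (Fin (n + n')) (Fin n') A,
      U₀ = (Matrix.fromRows (0 : Matrix (Fin n) (Fin n') A) p').submatrix ε
        (Equiv.refl (Fin n')) := ⟨_, rfl⟩
  obtain ⟨W₀, hW₀⟩ : ∃ W₀ : Matrix (Fin n') (Fin (n + n')) A,
      W₀ = (Matrix.fromCols a0 p').submatrix (Equiv.refl (Fin n')) ε := ⟨_, rfl⟩
  have f3 : U₀ * W₀ = E.map (Polynomial.evalRingHom (0 : A)) := by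
    rw [hU₀, hW₀, Matrix.submatrix_mul_equiv, Matrix.fromRows_mul_fromCols, hE0, Matrix.zero_mul,
      Matrix.zero_mul, hpa0, hp']
  have f4 : W₀ * U₀ = p' := by
    rw [hU₀, hW₀, Matrix.submatrix_mul_equiv, Matrix.fromCols_mul_fromRows, Matrix.mul_zero,
      zero_add, hp']
    rfl
  refine exists_of_conj_factor _ _ V₁ V₁' hV1 hV2 hV3 p p' hp hp'
    (Matrix.fromRows (Ap.map (Polynomial.evalRingHom (1 : A))) 0)
    (Matrix.fromCols (Bp.map (Polynomial.evalRingHom (1 : A))) 0) ?_ ?_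
    (Matrix.fromRows U₀ 0) (Matrix.fromCols W₀ 0) ?_ ?_
  · rw [Matrix.fromRows_mul_fromCols, f1]; simp
  · rw [Matrix.fromCols_mul_fromRows, f2]; simp
  · rw [Matrix.fromRows_mul_fromCols, f3]; simp
  · rw [Matrix.fromCols_mul_fromRows, f4]; simp

end core2

section final
variable {A : Type u} [CommRing A] {P P' : Type u} [AddCommGroup P] [Module A P]
  [AddCommGroup P'] [Module A P'] {n n' : ℕ}
  (f : (Fin n → A) →ₗ[A] P) (g : P →ₗ[A] (Fin n → A)) (hfg : f ∘ₗ g = LinearMap.id)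
  (f' : (Fin n' → A) →ₗ[A] P') (g' : P' →ₗ[A] (Fin n' → A)) (hfg' : f' ∘ₗ g' = LinearMap.id)

include hfg in
lemma toMatrix'_idem : LinearMap.toMatrix' (g ∘ₗ f) * LinearMap.toMatrix' (g ∘ₗ f) =
    LinearMap.toMatrix' (g ∘ₗ f) := by
  rw [← LinearMap.toMatrix'_comp]
  congr 1
  refine LinearMap.ext fun x => ?_
  simp only [LinearMap.comp_apply]
  have h : f (g (f x)) = f x := LinearMap.congr_fun hfg (f x)
  rw [h]

include hfg hfg' in
theorem equiv_of_matrices (a₀ : Matrix (Fin n') (Fin n) A) (b₀ : Matrix (Fin n) (Fin n') A)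
    (hba : b₀ * a₀ = LinearMap.toMatrix' (g ∘ₗ f))
    (hab : a₀ * b₀ = LinearMap.toMatrix' (g' ∘ₗ f')) : Nonempty (P ≃ₗ[A] P') := by
  classical
  obtain ⟨p, hpd⟩ : ∃ p : Matrix (Fin n) (Fin n) A, p = LinearMap.toMatrix' (g ∘ₗ f) := ⟨_, rfl⟩
  obtain ⟨p', hpd'⟩ : ∃ p' : Matrix (Fin n') (Fin n') A, p' = LinearMap.toMatrix' (g' ∘ₗ f') :=
    ⟨_, rfl⟩
  have hp : p * p = p := by rw [hpd]; exact toMatrix'_idem f g hfg
  have hp' : p' * p' = p' := by rw [hpd']; exact toMatrix'_idem f' g' hfg'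
  rw [← hpd] at hba
  rw [← hpd'] at hab
  have hgf : ∀ y, g (f y) = p.mulVec y := fun y => by
    rw [hpd]; exact (LinearMap.toMatrix'_mulVec (g ∘ₗ f) y).symm
  have hgf' : ∀ y, g' (f' y) = p'.mulVec y := fun y => by
    rw [hpd']; exact (LinearMap.toMatrix'_mulVec (g' ∘ₗ f') y).symm
  have e1 : b₀ * p' * a₀ = p := by
    rw [← hab, Matrix.mul_assoc, Matrix.mul_assoc, ← Matrix.mul_assoc a₀, hab, ← hab,
      ← Matrix.mul_assoc, ← Matrix.mul_assoc, hba, Matrix.mul_assoc, hba, hp]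
  have e2 : a₀ * p * b₀ = p' := by
    rw [← hba, Matrix.mul_assoc, Matrix.mul_assoc, ← Matrix.mul_assoc b₀, hba, ← hba,
      ← Matrix.mul_assoc, ← Matrix.mul_assoc, hab, Matrix.mul_assoc, hab, hp']
  refine ⟨LinearEquiv.ofLinearMap (f' ∘ₗ Matrix.toLin' a₀ ∘ₗ g) (f ∘ₗ Matrix.toLin' b₀ ∘ₗ g')
    ?_ ?_⟩
  · refine LinearMap.ext fun x => ?_
    simp only [LinearMap.comp_apply, Matrix.toLin'_apply, LinearMap.id_apply]
    have h : f' (g' (f' (g' x))) = f' (g' x) := LinearMap.congr_fun hfg' (f' (g' x))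
    rw [hgf, Matrix.mulVec_mulVec, Matrix.mulVec_mulVec, e2, ← hgf', h]
    exact LinearMap.congr_fun hfg' x
  · refine LinearMap.ext fun x => ?_
    simp only [LinearMap.comp_apply, Matrix.toLin'_apply, LinearMap.id_apply]
    have h : f (g (f (g x))) = f (g x) := LinearMap.congr_fun hfg (f (g x))
    rw [hgf', Matrix.mulVec_mulVec, Matrix.mulVec_mulVec, e1, ← hgf, h]
    exact LinearMap.congr_fun hfg x

end final

end Groth.Agent.Lib.Lead.Hor
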