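import Groth.Agent.Lib.Lead.Hor.HorS

/-!
# Laurent series: from an isomorphism over `R((t))` to truncated polynomial data
-/

set_option autoImplicit false
set_option linter.style.haveILetI false

namespace Groth.Agent.Lib.Lead.Hor

open Polynomial TensorProduct

universe u

section ls
variable {R : Type u} [CommRing R]

lemma exists_ofPowerSeries_single_mul (x : LaurentSeries R) :
    ∃ k₀ : ℕ, ∀ k : ℕ, k₀ ≤ k → ∃ q : PowerSeries R,
      HahnSeries.ofPowerSeries ℤ R q = HahnSeries.single (k : ℤ) (1 : R) * x := by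
  refine ⟨(-x.order).toNat, fun k hk => ?_⟩
  have h0 : 0 ≤ (k : ℤ) + x.order := by
    have := Int.self_le_toNat (-x.order); omega
  obtain ⟨m, hm⟩ := Int.eq_ofNat_of_zero_le h0
  refine ⟨PowerSeries.X ^ m * x.powerSeriesPart, ?_⟩
  rw [map_mul, HahnSeries.ofPowerSeries_X_pow, ← hm]
  conv_rhs => rw [← LaurentSeries.single_order_mul_powerSeriesPart x, ← mul_assoc,
    HahnSeries.single_mul_single, one_mul]

lemma exists_ofPowerSeries_single_mul_fin {ι : Type*} [Finite ι] (x : ι → LaurentSeries R) :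
    ∃ k : ℕ, 1 ≤ k ∧ ∀ i, ∃ q : PowerSeries R,
      HahnSeries.ofPowerSeries ℤ R q = HahnSeries.single (k : ℤ) (1 : R) * x i := by
  classical
  cases nonempty_fintype ι
  choose N hN using fun i => exists_ofPowerSeries_single_mul (x i)
  refine ⟨Finset.univ.sup N + 1, by omega, fun i => hN i _ ?_⟩
  have : N i ≤ Finset.univ.sup N := Finset.le_sup (Finset.mem_univ i)
  omega

lemma exists_trunc (q : PowerSeries R) (m : ℕ) :
    ∃ (a : R[X]) (r : PowerSeries R), q = (a : PowerSeries R) + PowerSeries.X ^ m * r := by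
  have h : (PowerSeries.X : PowerSeries R) ^ m ∣
      q - ((PowerSeries.trunc m q : R[X]) : PowerSeries R) := by
    rw [PowerSeries.X_pow_dvd_iff]
    intro i hi
    rw [map_sub, Polynomial.coeff_coe, PowerSeries.coeff_trunc, if_pos hi, sub_self]
  obtain ⟨r, hr⟩ := h
  exact ⟨PowerSeries.trunc m q, r, by rw [← hr]; ring⟩

lemma exists_of_coe_eq_X_pow_mul (d : R[X]) (m : ℕ) (s : PowerSeries R)
    (h : (d : PowerSeries R) = PowerSeries.X ^ m * s) : ∃ e : R[X], d = X ^ m * e := by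
  have : (X : R[X]) ^ m ∣ d := by
    rw [Polynomial.X_pow_dvd_iff]
    intro i hi
    rw [← Polynomial.coeff_coe, h, PowerSeries.coeff_X_pow_mul', if_neg (by omega)]
  exact this

theorem exists_trunc_data {n n' : ℕ} (p : Matrix (Fin n) (Fin n) R)
    (p' : Matrix (Fin n') (Fin n') R) (hp : p * p = p) (hp' : p' * p' = p')
    (α : Matrix (Fin n') (Fin n) (LaurentSeries R)) (β : Matrix (Fin n) (Fin n') (LaurentSeries R))
    (hβα : β * α = p.map (algebraMap R (LaurentSeries R)))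
    (hαβ : α * β = p'.map (algebraMap R (LaurentSeries R)))
    (hαp : α * p.map (algebraMap R (LaurentSeries R)) = α)
    (hpα : p'.map (algebraMap R (LaurentSeries R)) * α = α)
    (hpβ : p.map (algebraMap R (LaurentSeries R)) * β = β)
    (hβp : β * p'.map (algebraMap R (LaurentSeries R)) = β) :
    ∃ (a : Matrix (Fin n') (Fin n) R[X]) (b : Matrix (Fin n) (Fin n') R[X])
      (σ : Matrix (Fin n) (Fin n) R[X]) (σ' : Matrix (Fin n') (Fin n') R[X]) (k : ℕ), 1 ≤ k ∧
      a * p.map Polynomial.C = a ∧ p'.map Polynomial.C * a = a ∧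
      p.map Polynomial.C * σ = σ ∧ σ * p.map Polynomial.C = σ ∧
      b * a = ((X : R[X]) ^ (2 * k)) • p.map Polynomial.C -
        ((X : R[X]) * ((X : R[X]) ^ (2 * k)) ^ 2) • σ ∧
      a * b = ((X : R[X]) ^ (2 * k)) • p'.map Polynomial.C -
        ((X : R[X]) * ((X : R[X]) ^ (2 * k)) ^ 2) • σ' := by
  classical
  obtain ⟨oP, hoP⟩ : ∃ oP : PowerSeries R →+* LaurentSeries R,
      oP = HahnSeries.ofPowerSeries ℤ R := ⟨_, rfl⟩
  obtain ⟨cP, hcP⟩ : ∃ cP : R[X] →+* PowerSeries R,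
      cP = Polynomial.coeToPowerSeries.ringHom := ⟨_, rfl⟩
  have hoPinj : Function.Injective oP := by rw [hoP]; exact HahnSeries.ofPowerSeries_injective
  have hcPapp : ∀ q : R[X], cP q = (q : PowerSeries R) := fun q => by rw [hcP]; rfl
  -- constants
  obtain ⟨pP, hpPd⟩ : ∃ pP : Matrix (Fin n) (Fin n) (PowerSeries R),
      pP = p.map (PowerSeries.C : R →+* PowerSeries R) := ⟨_, rfl⟩
  obtain ⟨pP', hpPd'⟩ : ∃ pP' : Matrix (Fin n') (Fin n') (PowerSeries R),
      pP' = p'.map (PowerSeries.C : R →+* PowerSeries R) := ⟨_, rfl⟩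
  obtain ⟨pC, hpCd⟩ : ∃ pC : Matrix (Fin n) (Fin n) R[X], pC = p.map Polynomial.C := ⟨_, rfl⟩
  obtain ⟨pC', hpCd'⟩ : ∃ pC' : Matrix (Fin n') (Fin n') R[X], pC' = p'.map Polynomial.C :=
    ⟨_, rfl⟩
  have hoPC : ∀ x : R, oP (PowerSeries.C x) = algebraMap R (LaurentSeries R) x := fun x => by
    rw [hoP, HahnSeries.algebraMap_apply']; rfl
  have hpK : p.map (algebraMap R (LaurentSeries R)) = pP.map oP := by
    refine Matrix.ext fun i j => ?_
    rw [hpPd]; simp only [Matrix.map_apply, hoPC]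
  have hpK' : p'.map (algebraMap R (LaurentSeries R)) = pP'.map oP := by
    refine Matrix.ext fun i j => ?_
    rw [hpPd']; simp only [Matrix.map_apply, hoPC]
  have hpCP : pC.map cP = pP := by
    refine Matrix.ext fun i j => ?_
    rw [hpCd, hpPd]; simp only [Matrix.map_apply, hcPapp, Polynomial.coe_C]
  have hpCP' : pC'.map cP = pP' := by
    refine Matrix.ext fun i j => ?_
    rw [hpCd', hpPd']; simp only [Matrix.map_apply, hcPapp, Polynomial.coe_C]
  have hpC : pC * pC = pC := by rw [hpCd, ← Matrix.map_mul, hp]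
  have hpC' : pC' * pC' = pC' := by rw [hpCd', ← Matrix.map_mul, hp']
  have hpP : pP * pP = pP := by rw [← hpCP, ← Matrix.map_mul, hpC]
  have hpP' : pP' * pP' = pP' := by rw [← hpCP', ← Matrix.map_mul, hpC']
  rw [hpK] at hβα hαp hpβ
  rw [hpK'] at hαβ hpα hβp
  rw [← hpCd, ← hpCd']
  -- clear the poles
  obtain ⟨k, hk1, hq⟩ := exists_ofPowerSeries_single_mul_fin
    (Sum.elim (fun ij : Fin n' × Fin n => α ij.1 ij.2) (fun ij : Fin n × Fin n' => β ij.1 ij.2))
  choose q hq using hq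
  obtain ⟨τ, hτ⟩ : ∃ τ : LaurentSeries R, τ = HahnSeries.single (k : ℤ) (1 : R) := ⟨_, rfl⟩
  obtain ⟨αp, hαpd⟩ : ∃ αp : Matrix (Fin n') (Fin n) (PowerSeries R),
      αp = Matrix.of fun i j => q (Sum.inl (i, j)) := ⟨_, rfl⟩
  obtain ⟨βp, hβpd⟩ : ∃ βp : Matrix (Fin n) (Fin n') (PowerSeries R),
      βp = Matrix.of fun i j => q (Sum.inr (i, j)) := ⟨_, rfl⟩
  have hα1 : αp.map oP = τ • α := by
    refine Matrix.ext fun i j => ?_
    rw [hαpd, hoP, hτ, Matrix.map_apply, Matrix.of_apply, hq (Sum.inl (i, j)), Matrix.smul_apply,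
      smul_eq_mul]
    rfl
  have hβ1 : βp.map oP = τ • β := by
    refine Matrix.ext fun i j => ?_
    rw [hβpd, hoP, hτ, Matrix.map_apply, Matrix.of_apply, hq (Sum.inr (i, j)), Matrix.smul_apply,
      smul_eq_mul]
    rfl
  have hττ : oP ((PowerSeries.X : PowerSeries R) ^ (2 * k)) = τ * τ := by
    have hk2 : ((2 * k : ℕ) : ℤ) = (k : ℤ) + (k : ℤ) := by push_cast; ring
    rw [hoP, hτ, HahnSeries.ofPowerSeries_X_pow, HahnSeries.single_mul_single, one_mul, hk2]
  have Pβα : βp * αp = ((PowerSeries.X : PowerSeries R) ^ (2 * k)) • pP := by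
    apply Matrix.map_injective hoPinj
    show (βp * αp).map oP = (((PowerSeries.X : PowerSeries R) ^ (2 * k)) • pP).map oP
    rw [Matrix.map_mul, hα1, hβ1, Matrix.smul_mul, Matrix.mul_smul, hβα, smul_smul,
      map_smul_ringHom, hττ]
  have Pαβ : αp * βp = ((PowerSeries.X : PowerSeries R) ^ (2 * k)) • pP' := by
    apply Matrix.map_injective hoPinj
    show (αp * βp).map oP = (((PowerSeries.X : PowerSeries R) ^ (2 * k)) • pP').map oP
    rw [Matrix.map_mul, hα1, hβ1, Matrix.smul_mul, Matrix.mul_smul, hαβ, smul_smul,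
      map_smul_ringHom, hττ]
  have Pαp : αp * pP = αp := by
    apply Matrix.map_injective hoPinj
    show (αp * pP).map oP = αp.map oP
    rw [Matrix.map_mul, hα1, Matrix.smul_mul, hαp]
  have Ppα : pP' * αp = αp := by
    apply Matrix.map_injective hoPinj
    show (pP' * αp).map oP = αp.map oP
    rw [Matrix.map_mul, hα1, Matrix.mul_smul, hpα]
  have Ppβ : pP * βp = βp := by
    apply Matrix.map_injective hoPinj
    show (pP * βp).map oP = βp.map oP
    rw [Matrix.map_mul, hβ1, Matrix.mul_smul, hpβ]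
  have Pβp : βp * pP' = βp := by
    apply Matrix.map_injective hoPinj
    show (βp * pP').map oP = βp.map oP
    rw [Matrix.map_mul, hβ1, Matrix.smul_mul, hβp]
  -- truncate
  obtain ⟨m, hm⟩ : ∃ m : ℕ, m = 4 * k + 1 := ⟨_, rfl⟩
  obtain ⟨Y, hY⟩ : ∃ Y : PowerSeries R, Y = (PowerSeries.X : PowerSeries R) ^ m := ⟨_, rfl⟩
  have hA : ∀ i j, ∃ (a : R[X]) (r : PowerSeries R), αp i j = (a : PowerSeries R) + Y * r :=
    fun i j => by rw [hY]; exact exists_trunc _ _
  have hB : ∀ i j, ∃ (a : R[X]) (r : PowerSeries R), βp i j = (a : PowerSeries R) + Y * r :=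
    fun i j => by rw [hY]; exact exists_trunc _ _
  choose a₁ αr hα₁ using hA
  choose b₁ βr hβ₁ using hB
  have hα₁' : αp = (Matrix.of a₁).map cP + Y • Matrix.of αr := by
    refine Matrix.ext fun i j => ?_
    rw [Matrix.add_apply, Matrix.map_apply, Matrix.smul_apply, Matrix.of_apply, Matrix.of_apply,
      smul_eq_mul, hcPapp]
    exact hα₁ i j
  have hβ₁' : βp = (Matrix.of b₁).map cP + Y • Matrix.of βr := by
    refine Matrix.ext fun i j => ?_
    rw [Matrix.add_apply, Matrix.map_apply, Matrix.smul_apply, Matrix.of_apply, Matrix.of_apply,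
      smul_eq_mul, hcPapp]
    exact hβ₁ i j
  obtain ⟨a, had⟩ : ∃ a : Matrix (Fin n') (Fin n) R[X], a = pC' * Matrix.of a₁ * pC := ⟨_, rfl⟩
  obtain ⟨b, hbd⟩ : ∃ b : Matrix (Fin n) (Fin n') R[X], b = pC * Matrix.of b₁ * pC' := ⟨_, rfl⟩
  obtain ⟨ar, hard⟩ : ∃ ar : Matrix (Fin n') (Fin n) (PowerSeries R),
      ar = pP' * Matrix.of αr * pP := ⟨_, rfl⟩
  obtain ⟨br, hbrd⟩ : ∃ br : Matrix (Fin n) (Fin n') (PowerSeries R),
      br = pP * Matrix.of βr * pP' := ⟨_, rfl⟩
  have hα₂ : αp = a.map cP + Y • ar := by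
    have h1 : αp = pP' * αp * pP := by rw [Ppα, Pαp]
    rw [had, hard, Matrix.map_mul, Matrix.map_mul, hpCP, hpCP']
    conv_lhs => rw [h1, hα₁']
    rw [Matrix.mul_add, Matrix.add_mul, Matrix.mul_smul, Matrix.smul_mul]
  have hβ₂ : βp = b.map cP + Y • br := by
    have h1 : βp = pP * βp * pP' := by rw [Ppβ, Pβp]
    rw [hbd, hbrd, Matrix.map_mul, Matrix.map_mul, hpCP, hpCP']
    conv_lhs => rw [h1, hβ₁']
    rw [Matrix.mul_add, Matrix.add_mul, Matrix.mul_smul, Matrix.smul_mul]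
  have hapC : a * pC = a := by rw [had, Matrix.mul_assoc, hpC]
  have hpCa : pC' * a = a := by rw [had, ← Matrix.mul_assoc, ← Matrix.mul_assoc, hpC']
  have hpCb : pC * b = b := by rw [hbd, ← Matrix.mul_assoc, ← Matrix.mul_assoc, hpC]
  have hbpC : b * pC' = b := by rw [hbd, Matrix.mul_assoc, hpC']
  have hamap : a.map cP = αp - Y • ar := by rw [hα₂]; abel
  have hbmap : b.map cP = βp - Y • br := by rw [hβ₂]; abel
  have hXm : ((X : R[X]) ^ m) = (X : R[X]) * ((X : R[X]) ^ (2 * k)) ^ 2 := by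
    rw [hm, ← pow_mul, ← pow_succ']; congr 1; ring
  have hcPX : ∀ j : ℕ, cP ((X : R[X]) ^ j) = (PowerSeries.X : PowerSeries R) ^ j := fun j => by
    rw [map_pow, hcPapp, Polynomial.coe_X]
  -- the defect of `b * a`
  have hΔ : ∀ i j, ∃ e : R[X], (((X : R[X]) ^ (2 * k)) • pC - b * a) i j = X ^ m * e := by
    intro i j
    refine exists_of_coe_eq_X_pow_mul _ m
      ((βp * ar + br * αp - Y • (br * ar)) i j) ?_
    have h1 : (((X : R[X]) ^ (2 * k)) • pC - b * a).map cP =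
        Y • (βp * ar + br * αp - Y • (br * ar)) := by
      have h2 : (((X : R[X]) ^ (2 * k)) • pC - b * a).map cP =
          (((X : R[X]) ^ (2 * k)) • pC).map cP - (b * a).map cP :=
        Matrix.map_sub _ (map_sub _) _ _
      rw [h2, map_smul_ringHom, Matrix.map_mul, hamap, hbmap, hcPX, hpCP, ← Pβα, Matrix.sub_mul,
        Matrix.mul_sub, Matrix.mul_sub, Matrix.smul_mul, Matrix.smul_mul, Matrix.mul_smul,
        Matrix.mul_smul, smul_sub, smul_add, smul_smul]
      abel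
    have h3 := congrFun (congrFun h1 i) j
    rw [Matrix.map_apply, hcPapp, Matrix.smul_apply, smul_eq_mul] at h3
    rw [← hY]
    exact h3
  choose σ₁ hσ₁ using hΔ
  have hΔ' : ((X : R[X]) ^ (2 * k)) • pC - b * a = ((X : R[X]) ^ m) • Matrix.of σ₁ := by
    refine Matrix.ext fun i j => ?_
    rw [hσ₁ i j, Matrix.smul_apply, Matrix.of_apply, smul_eq_mul]
  obtain ⟨σ, hσd⟩ : ∃ σ : Matrix (Fin n) (Fin n) R[X], σ = pC * Matrix.of σ₁ * pC := ⟨_, rfl⟩
  have hσ : ((X : R[X]) ^ m) • σ = ((X : R[X]) ^ (2 * k)) • pC - b * a := by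
    rw [hσd, ← Matrix.smul_mul, ← Matrix.mul_smul, ← hΔ', Matrix.mul_sub, Matrix.sub_mul,
      Matrix.mul_smul, Matrix.smul_mul, hpC, hpC, ← Matrix.mul_assoc, hpCb, Matrix.mul_assoc,
      hapC]
  -- the defect of `a * b`
  have hΔ2 : ∀ i j, ∃ e : R[X], (((X : R[X]) ^ (2 * k)) • pC' - a * b) i j = X ^ m * e := by
    intro i j
    refine exists_of_coe_eq_X_pow_mul _ m
      ((αp * br + ar * βp - Y • (ar * br)) i j) ?_
    have h1 : (((X : R[X]) ^ (2 * k)) • pC' - a * b).map cP =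
        Y • (αp * br + ar * βp - Y • (ar * br)) := by
      have h2 : (((X : R[X]) ^ (2 * k)) • pC' - a * b).map cP =
          (((X : R[X]) ^ (2 * k)) • pC').map cP - (a * b).map cP :=
        Matrix.map_sub _ (map_sub _) _ _
      rw [h2, map_smul_ringHom, Matrix.map_mul, hamap, hbmap, hcPX, hpCP', ← Pαβ, Matrix.sub_mul,
        Matrix.mul_sub, Matrix.mul_sub, Matrix.smul_mul, Matrix.smul_mul, Matrix.mul_smul,
        Matrix.mul_smul, smul_sub, smul_add, smul_smul]
      abel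
    have h3 := congrFun (congrFun h1 i) j
    rw [Matrix.map_apply, hcPapp, Matrix.smul_apply, smul_eq_mul] at h3
    rw [← hY]
    exact h3
  choose σ₂ hσ₂ using hΔ2
  have hΔ2' : ((X : R[X]) ^ (2 * k)) • pC' - a * b = ((X : R[X]) ^ m) • Matrix.of σ₂ := by
    refine Matrix.ext fun i j => ?_
    rw [hσ₂ i j, Matrix.smul_apply, Matrix.of_apply, smul_eq_mul]
  obtain ⟨σ', hσd'⟩ : ∃ σ' : Matrix (Fin n') (Fin n') R[X], σ' = pC' * Matrix.of σ₂ * pC' :=
    ⟨_, rfl⟩
  have hσ' : ((X : R[X]) ^ m) • σ' = ((X : R[X]) ^ (2 * k)) • pC' - a * b := by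
    rw [hσd', ← Matrix.smul_mul, ← Matrix.mul_smul, ← hΔ2', Matrix.mul_sub, Matrix.sub_mul,
      Matrix.mul_smul, Matrix.smul_mul, hpC', hpC', ← Matrix.mul_assoc, hpCa, Matrix.mul_assoc,
      hbpC]
  refine ⟨a, b, σ, σ', k, hk1, hapC, hpCa, ?_, ?_, ?_, ?_⟩
  · rw [hσd, ← Matrix.mul_assoc, ← Matrix.mul_assoc, hpC]
  · rw [hσd, Matrix.mul_assoc, hpC]
  · rw [← hXm, hσ]; abel
  · rw [← hXm, hσ']; abel

end ls

section mainS
variable {R : Type u} [CommRing R] (L : Type u) [CommRing L] [Algebra R L]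
  (eL : L ≃ₐ[R] LaurentSeries R)
  {M N : Type u} [AddCommGroup M] [Module R M] [AddCommGroup N] [Module R N] {n n' : ℕ}
  (f : (Fin n → R) →ₗ[R] M) (g : M →ₗ[R] (Fin n → R)) (hfg : f ∘ₗ g = LinearMap.id)
  (f' : (Fin n' → R) →ₗ[R] N) (g' : N →ₗ[R] (Fin n' → R)) (hfg' : f' ∘ₗ g' = LinearMap.id)

include eL hfg hfg' in
theorem equiv_of_laurentSeries (e : L ⊗[R] M ≃ₗ[L] L ⊗[R] N) : Nonempty (M ≃ₗ[R] N) := by
  classical
  obtain ⟨p, hpd⟩ : ∃ p : Matrix (Fin n) (Fin n) R, p = LinearMap.toMatrix' (g ∘ₗ f) := ⟨_, rfl⟩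
  obtain ⟨p', hpd'⟩ : ∃ p' : Matrix (Fin n') (Fin n') R, p' = LinearMap.toMatrix' (g' ∘ₗ f') :=
    ⟨_, rfl⟩
  have hp : p * p = p := by rw [hpd]; exact toMatrix'_idem f g hfg
  have hp' : p' * p' = p' := by rw [hpd']; exact toMatrix'_idem f' g' hfg'
  obtain ⟨α, β, h1, h2, h3, h4, h5, h6⟩ := exists_matrices_of_iso L f g f' g' hfg hfg' e
  rw [← hpd] at h1 h3 h5
  rw [← hpd'] at h2 h4 h6
  obtain ⟨φ, hφ⟩ : ∃ φ : L →+* LaurentSeries R, ∀ x, φ x = eL x :=
    ⟨eL.toRingEquiv.toRingHom, fun _ => rfl⟩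
  have hφalg : ∀ x : R, φ (algebraMap R L x) = algebraMap R (LaurentSeries R) x := fun x => by
    rw [hφ]; exact eL.commutes x
  have hmap : (p.map (algebraMap R L)).map φ = p.map (algebraMap R (LaurentSeries R)) := by
    refine Matrix.ext fun i j => ?_
    simp only [Matrix.map_apply, hφalg]
  have hmap' : (p'.map (algebraMap R L)).map φ = p'.map (algebraMap R (LaurentSeries R)) := by
    refine Matrix.ext fun i j => ?_
    simp only [Matrix.map_apply, hφalg]
  have k1 : β.map φ * α.map φ = p.map (algebraMap R (LaurentSeries R)) := by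
    rw [← Matrix.map_mul, h1, hmap]
  have k2 : α.map φ * β.map φ = p'.map (algebraMap R (LaurentSeries R)) := by
    rw [← Matrix.map_mul, h2, hmap']
  have k3 : α.map φ * p.map (algebraMap R (LaurentSeries R)) = α.map φ := by
    rw [← hmap, ← Matrix.map_mul, h3]
  have k4 : p'.map (algebraMap R (LaurentSeries R)) * α.map φ = α.map φ := by
    rw [← hmap', ← Matrix.map_mul, h4]
  have k5 : p.map (algebraMap R (LaurentSeries R)) * β.map φ = β.map φ := by
    rw [← hmap, ← Matrix.map_mul, h5]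
  have k6 : β.map φ * p'.map (algebraMap R (LaurentSeries R)) = β.map φ := by
    rw [← hmap', ← Matrix.map_mul, h6]
  obtain ⟨a, b, σ, σ', k, hk, l1, l2, l3, l4, l5, l6⟩ :=
    exists_trunc_data p p' hp hp' (α.map φ) (β.map φ) k1 k2 k3 k4 k5 k6
  obtain ⟨a₀, b₀, hba, hab⟩ :=
    exists_of_trunc_data p p' hp hp' a b σ σ' k hk X Polynomial.eval_X l1 l2 l3 l4 l5 l6
  rw [hpd] at hba
  rw [hpd'] at hab
  exact equiv_of_matrices f g hfg f' g' hfg' a₀ b₀ hba hab

end mainS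

end Groth.Agent.Lib.Lead.Hor
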