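import Groth.Agent.Lib.Lead.Hor.HorD

/-!
# Horrocks' theorem: a finite projective `A[X]`-module which extends to `ℙ¹_A` is extended from `A`.
-/

set_option autoImplicit false
set_option linter.style.haveILetI false

namespace Groth.Agent.Lib.Lead.Hor

open Polynomial LaurentPolynomial TensorProduct

universe u v

section single
variable {R : Type*} [CommSemiring R] {M : Type*} [AddCommMonoid M] [Module R M] {n : ℕ}

lemma apply_eq_sum_single (f : (Fin n → R) →ₗ[R] M) (v : Fin n → R) :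
    f v = ∑ j, v j • f (Pi.single j 1) := by
  classical
  conv_lhs => rw [← Finset.univ_sum_single v]
  rw [map_sum]
  refine Finset.sum_congr rfl fun j _ => ?_
  rw [← map_smul]
  congr 1
  rw [← Pi.single_smul, smul_eq_mul, mul_one]

end single

section cast
variable {A : Type u} [CommRing A]

theorem matModel_conj_cast (Q : MatModel A) {n : ℕ} (hn : Q.n = n)
    (E : Matrix (Fin n) (Fin n) A[X])
    (hE : ∀ i j : Fin Q.n, E (Fin.cast hn i) (Fin.cast hn j) = Q.E₀ i j) :
    ∃ V V' : Matrix (Fin n ⊕ Fin n) (Fin n ⊕ Fin n) A[X], V * V' = 1 ∧ V' * V = 1 ∧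
      V * Matrix.fromBlocks E 0 0 0 = Matrix.fromBlocks (E.map kap) 0 0 0 * V := by
  subst hn
  have hEQ : E = Q.E₀ := Matrix.ext fun i j => hE i j
  subst hEQ
  obtain ⟨V, V', h1, h2, h3⟩ := matModel_conj Q
  refine ⟨V, V', h1, h2, ?_⟩
  rw [h3, Matrix.fromBlocks_map]
  congr 2 <;> exact Matrix.map_zero _ (map_zero kap)

end cast

section dual
variable {A : Type u} [CommRing A] {M : Type v} [AddCommGroup M] [Module A[X] M] {n : ℕ}
  (f : (Fin n → A[X]) →ₗ[A[X]] M) (g : M →ₗ[A[X]] (Fin n → A[X]))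

/-- generators of the base change -/
noncomputable def tm (j : Fin n) : A[T;T⁻¹] ⊗[A[X]] M := 1 ⊗ₜ f (Pi.single j 1)

/-- coordinates of the base change -/
noncomputable def tφ (i : Fin n) : A[T;T⁻¹] ⊗[A[X]] M →ₗ[A[T;T⁻¹]] A[T;T⁻¹] :=
  LinearMap.liftBaseChange A[T;T⁻¹]
    ((Algebra.linearMap A[X] A[T;T⁻¹]) ∘ₗ (LinearMap.proj i) ∘ₗ g)

lemma tφ_tmul (i : Fin n) (a : A[T;T⁻¹]) (x : M) :
    tφ g i (a ⊗ₜ x) = a * toLaurent (g x i) := by
  rw [tφ, LinearMap.liftBaseChange_tmul]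
  rfl

lemma tφ_tm (i j : Fin n) : tφ g i (tm f j) = toLaurent (g (f (Pi.single j 1)) i) := by
  rw [tm, tφ_tmul, one_mul]

lemma t_rec (hfg : f ∘ₗ g = LinearMap.id) (v : A[T;T⁻¹] ⊗[A[X]] M) :
    ∑ j, tφ g j v • tm f j = v := by
  induction v using TensorProduct.induction_on with
  | zero => simp
  | add x y hx hy =>
    simp only [map_add, add_smul, Finset.sum_add_distrib, hx, hy]
  | tmul a x =>
    have hx : f (g x) = x := LinearMap.congr_fun hfg x
    have h1 : ∀ j, tφ g j (a ⊗ₜ x) • tm f j = a ⊗ₜ[A[X]] (g x j • f (Pi.single j 1)) := by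
      intro j
      have h2 : a * toLaurent (g x j) = (g x j) • a := by
        rw [Algebra.smul_def, mul_comm]; rfl
      rw [tφ_tmul, tm, TensorProduct.smul_tmul', smul_eq_mul, mul_one, h2,
        TensorProduct.smul_tmul]
    rw [Finset.sum_congr rfl fun j _ => h1 j, ← TensorProduct.tmul_sum,
      ← apply_eq_sum_single f (g x), hx]

end dual

section pair
variable {A : Type u} [CommRing A] {M : Type v} [AddCommGroup M] [Module A[X] M] {n : ℕ}
  (f : (Fin n → A[X]) →ₗ[A[X]] M) (g : M →ₗ[A[X]] (Fin n → A[X]))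
  (hfg : f ∘ₗ g = LinearMap.id)
  {N : Type v} [AddCommGroup N] [Module A[X] N] {n' : ℕ}
  (f' : (Fin n' → A[X]) →ₗ[A[X]] N) (g' : N →ₗ[A[X]] (Fin n' → A[X]))
  (hfg' : f' ∘ₗ g' = LinearMap.id)
  (e : (A[T;T⁻¹] ⊗[A[X]] M) →ₛₗ[(LaurentPolynomial.invert (R := A)).toRingEquiv.toRingHom]
    (A[T;T⁻¹] ⊗[A[X]] N)) (he : Function.Bijective e)

/-- coordinates at infinity -/
noncomputable def tψ (l : Fin n') : A[T;T⁻¹] ⊗[A[X]] M →ₗ[A[T;T⁻¹]] A[T;T⁻¹] where
  toFun v := invert (tφ g' l (e v))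
  map_add' x y := by rw [map_add, map_add, map_add]
  map_smul' a v := by
    rw [RingHom.id_apply, LinearMap.map_smulₛₗ, map_smul, smul_eq_mul, map_mul, smul_eq_mul]
    congr 1
    exact involutive_invert a

lemma tψ_apply (l : Fin n') (v : A[T;T⁻¹] ⊗[A[X]] M) :
    tψ g' e l v = invert (tφ g' l (e v)) := rfl

/-- generators at infinity -/
noncomputable def tn (k : Fin n') : A[T;T⁻¹] ⊗[A[X]] M :=
  (Equiv.ofBijective e he).symm (tm f' k)

lemma e_tn (k : Fin n') : e (tn f' e he k) = tm f' k :=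
  (Equiv.ofBijective e he).apply_symm_apply _

/-- the lattice pair of a gluing datum -/
noncomputable def tPair : LatPair A (A[T;T⁻¹] ⊗[A[X]] M) where
  nM := n
  nN := n'
  m := tm f
  φ := tφ g
  n := tn f' e he
  ψ := tψ g' e
  φm i j := by rw [tφ_tm]; exact isT_toLaurent _
  ψn l k := by
    rw [tψ_apply, e_tn, tφ_tm]; exact isS_invert_toLaurent _
  recM := t_rec f g hfg
  recN v := by
    apply he.1
    rw [map_sum]
    have h : ∀ l, e (tψ g' e l v • tn f' e he l) = tφ g' l (e v) • tm f' l := by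
      intro l
      rw [LinearMap.map_smulₛₗ, e_tn, tψ_apply]
      congr 1
      exact involutive_invert _
    rw [Finset.sum_congr rfl fun l _ => h l, t_rec f' g' hfg']

/-- the matrix of `g ∘ f` -/
noncomputable def EM : Matrix (Fin n) (Fin n) A[X] := Matrix.of fun i j => g (f (Pi.single j 1)) i

lemma EM_mulVec (v : Fin n → A[X]) : (EM f g).mulVec v = g (f v) := by
  funext i
  have h := congrFun (apply_eq_sum_single (g ∘ₗ f) v) i
  rw [LinearMap.comp_apply] at h
  rw [h, Finset.sum_apply]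
  show ∑ j, EM f g i j * v j = _
  refine Finset.sum_congr rfl fun j _ => ?_
  rw [Pi.smul_apply, smul_eq_mul, mul_comm]
  rfl

include hfg in
lemma EM_idem : EM f g * EM f g = EM f g := by
  refine Matrix.ext fun i j => ?_
  have h1 : (fun k => EM f g k j) = g (f (Pi.single j 1)) := rfl
  have h2 : (EM f g * EM f g) i j = ((EM f g).mulVec fun k => EM f g k j) i := rfl
  have h3 : f (g (f (Pi.single j 1))) = f (Pi.single j 1) := LinearMap.congr_fun hfg _
  rw [h2, h1, EM_mulVec, h3]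
  rfl

include hfg hfg' he in
theorem exists_conj :
    ∃ V V' : Matrix (Fin n ⊕ Fin n) (Fin n ⊕ Fin n) A[X], V * V' = 1 ∧ V' * V = 1 ∧
      V * Matrix.fromBlocks (EM f g) 0 0 0 =
        Matrix.fromBlocks ((EM f g).map kap) 0 0 0 * V := by
  refine matModel_conj_cast (MatModel.ofLatPair (tPair f g hfg f' g' hfg' e he)) rfl (EM f g) ?_
  intro i j
  apply Polynomial.toLaurent_injective
  exact (tφ_tm f g (Fin.cast rfl i) (Fin.cast rfl j)).symm.trans
    (MatModel.ofLatPair_E₀ (tPair f g hfg f' g' hfg' e he) i j).symm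

end pair

section retract
variable {R : Type*} [Ring R] {F M M' : Type*} [AddCommGroup F] [Module R F] [AddCommGroup M]
  [Module R M] [AddCommGroup M'] [Module R M']

/-- retracts of a module along conjugate idempotents are isomorphic -/
noncomputable def equivOfConj (f : F →ₗ[R] M) (g : M →ₗ[R] F) (hfg : f ∘ₗ g = LinearMap.id)
    (f' : F →ₗ[R] M') (g' : M' →ₗ[R] F) (hfg' : f' ∘ₗ g' = LinearMap.id)
    (V V' : F →ₗ[R] F) (hVV' : V ∘ₗ V' = LinearMap.id) (hV'V : V' ∘ₗ V = LinearMap.id)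
    (hconj : V ∘ₗ (g ∘ₗ f) = (g' ∘ₗ f') ∘ₗ V) : M ≃ₗ[R] M' :=
  LinearEquiv.ofLinearMap (f' ∘ₗ V ∘ₗ g) (f ∘ₗ V' ∘ₗ g')
    (by
      refine LinearMap.ext fun x => ?_
      have h1 : V (g (f (V' (g' x)))) = g' (f' (V (V' (g' x)))) := LinearMap.congr_fun hconj _
      have h2 : V (V' (g' x)) = g' x := LinearMap.congr_fun hVV' _
      have h3 : f' (g' x) = x := LinearMap.congr_fun hfg' _
      show f' (V (g (f (V' (g' x))))) = x
      rw [h1, h2, h3, h3])
    (by
      refine LinearMap.ext fun x => ?_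
      have h1 : V (g (f (g x))) = g' (f' (V (g x))) := LinearMap.congr_fun hconj _
      have h2 : V' (V (g (f (g x)))) = g (f (g x)) := LinearMap.congr_fun hV'V _
      have h3 : f (g x) = x := LinearMap.congr_fun hfg _
      show f (V' (g' (f' (V (g x))))) = x
      rw [← h1, h2, h3, h3])

end retract

section blocks
variable {R : Type*} [CommRing R] {n : ℕ}

/-- extension by zero -/
def sumElimL : (Fin n → R) →ₗ[R] (Fin n ⊕ Fin n → R) where
  toFun v := Sum.elim v 0
  map_add' x y := by funext i; cases i <;> simp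
  map_smul' a x := by funext i; cases i <;> simp

/-- restriction to the first block -/
def sumInlL : (Fin n ⊕ Fin n → R) →ₗ[R] (Fin n → R) where
  toFun u := u ∘ Sum.inl
  map_add' _ _ := rfl
  map_smul' _ _ := rfl

lemma sumInlL_sumElimL (v : Fin n → R) : sumInlL (sumElimL v) = v := rfl

lemma fromBlocks_mulVec_eq (E : Matrix (Fin n) (Fin n) R) (u : Fin n ⊕ Fin n → R) :
    (Matrix.fromBlocks E 0 0 0).mulVec u = sumElimL (E.mulVec (sumInlL u)) := by
  rw [Matrix.fromBlocks_mulVec]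
  simp only [Matrix.zero_mulVec, add_zero]
  rfl

end blocks

section fix
variable {A : Type u} [CommRing A] {n : ℕ} (e₀ : Matrix (Fin n) (Fin n) A)

/-- fixed vectors of a matrix -/
def fixMod : Submodule A (Fin n → A) where
  carrier := {w | e₀.mulVec w = w}
  add_mem' := by
    intro a b ha hb
    show e₀.mulVec (a + b) = a + b
    rw [Matrix.mulVec_add, (ha : e₀.mulVec a = a), (hb : e₀.mulVec b = b)]
  zero_mem' := Matrix.mulVec_zero _
  smul_mem' := by
    intro c v hv
    show e₀.mulVec (c • v) = c • v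
    rw [Matrix.mulVec_smul, (hv : e₀.mulVec v = v)]

variable (he₀ : e₀ * e₀ = e₀)

/-- columns of an idempotent are fixed vectors -/
def fixCol (j : Fin n) : fixMod e₀ := ⟨fun i => e₀ i j, by
  show e₀.mulVec (fun i => e₀ i j) = fun i => e₀ i j
  funext i
  have := congrFun (congrFun he₀ i) j
  rw [Matrix.mul_apply] at this
  exact this⟩

/-- constant polynomial vectors -/
noncomputable def theta0 : fixMod e₀ →ₗ[A] (Fin n → A[X]) where
  toFun w := fun i => Polynomial.C ((w : Fin n → A) i)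
  map_add' x y := by funext i; simp
  map_smul' a x := by funext i; simp [Polynomial.smul_eq_C_mul]

/-- `A[X] ⊗ P₀ → A[X]^n` -/
noncomputable def thetaL : A[X] ⊗[A] fixMod e₀ →ₗ[A[X]] (Fin n → A[X]) :=
  LinearMap.liftBaseChange A[X] (theta0 e₀)

lemma thetaL_tmul (q : A[X]) (w : fixMod e₀) (i : Fin n) :
    thetaL e₀ (q ⊗ₜ w) i = q * Polynomial.C ((w : Fin n → A) i) := by
  rw [thetaL, LinearMap.liftBaseChange_tmul]
  rfl

/-- `A[X]^n → A[X] ⊗ P₀` -/
noncomputable def xiL : (Fin n → A[X]) →ₗ[A[X]] A[X] ⊗[A] fixMod e₀ where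
  toFun v := ∑ j, v j • ((1 : A[X]) ⊗ₜ[A] fixCol e₀ he₀ j)
  map_add' x y := by
    simp only [Pi.add_apply, add_smul, Finset.sum_add_distrib]
  map_smul' a x := by
    simp only [Pi.smul_apply, smul_eq_mul, RingHom.id_apply, Finset.smul_sum, mul_smul]

lemma xiL_apply (v : Fin n → A[X]) :
    xiL e₀ he₀ v = ∑ j, v j • ((1 : A[X]) ⊗ₜ[A] fixCol e₀ he₀ j) := rfl

lemma theta_xi (v : Fin n → A[X]) :
    thetaL e₀ (xiL e₀ he₀ v) = (e₀.map Polynomial.C).mulVec v := by
  funext i
  rw [xiL_apply, map_sum, Finset.sum_apply]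
  show _ = ∑ j, (e₀.map Polynomial.C) i j * v j
  refine Finset.sum_congr rfl fun j _ => ?_
  rw [map_smul, Pi.smul_apply, thetaL_tmul, one_mul, smul_eq_mul, mul_comm]
  rfl

lemma xi_theta (x : A[X] ⊗[A] fixMod e₀) : xiL e₀ he₀ (thetaL e₀ x) = x := by
  induction x using TensorProduct.induction_on with
  | zero => simp
  | add x y hx hy => rw [map_add, map_add, hx, hy]
  | tmul q w =>
    have h1 : ∀ j, thetaL e₀ (q ⊗ₜ w) j • ((1 : A[X]) ⊗ₜ[A] fixCol e₀ he₀ j) =
        q • ((1 : A[X]) ⊗ₜ[A] (((w : Fin n → A) j) • fixCol e₀ he₀ j)) := by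
      intro j
      rw [thetaL_tmul, mul_smul]
      congr 1
      rw [TensorProduct.smul_tmul', ← TensorProduct.smul_tmul, smul_eq_mul, mul_one,
        Polynomial.smul_eq_C_mul, mul_one]
    have h2 : ∑ j, ((w : Fin n → A) j) • fixCol e₀ he₀ j = w := by
      apply Subtype.ext
      funext i
      have hw : e₀.mulVec (w : Fin n → A) = w := w.2
      have hw' := congrFun hw i
      rw [Submodule.coe_sum, Finset.sum_apply]
      refine Eq.trans ?_ hw'
      show _ = ∑ j, e₀ i j * (w : Fin n → A) j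
      refine Finset.sum_congr rfl fun j _ => ?_
      rw [Submodule.coe_smul, Pi.smul_apply, smul_eq_mul, mul_comm]
      rfl
    rw [xiL_apply, Finset.sum_congr rfl fun j _ => h1 j, ← Finset.smul_sum,
      ← TensorProduct.tmul_sum, h2, TensorProduct.smul_tmul', smul_eq_mul, mul_one]

end fix

section final
variable {A : Type u} [CommRing A] {M : Type u} [AddCommGroup M] [Module A[X] M] {n : ℕ}
  (f : (Fin n → A[X]) →ₗ[A[X]] M) (g : M →ₗ[A[X]] (Fin n → A[X]))
  (hfg : f ∘ₗ g = LinearMap.id)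
  {N : Type u} [AddCommGroup N] [Module A[X] N] {n' : ℕ}
  (f' : (Fin n' → A[X]) →ₗ[A[X]] N) (g' : N →ₗ[A[X]] (Fin n' → A[X]))
  (hfg' : f' ∘ₗ g' = LinearMap.id)
  (e : (A[T;T⁻¹] ⊗[A[X]] M) →ₛₗ[(LaurentPolynomial.invert (R := A)).toRingEquiv.toRingHom]
    (A[T;T⁻¹] ⊗[A[X]] N)) (he : Function.Bijective e)

include hfg hfg' he in
theorem extended_of_data :
    ∃ (P : Type u) (_ : AddCommGroup P) (_ : Module A P),
      Nonempty (M ≃ₗ[A[X]] (A[X] ⊗[A] P)) := by
  classical
  obtain ⟨V, V', hVV', hV'V, hconj⟩ := exists_conj f g hfg f' g' hfg' e he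
  obtain ⟨e₀, he₀d⟩ : ∃ e₀ : Matrix (Fin n) (Fin n) A,
      e₀ = (EM f g).map (Polynomial.evalRingHom 0) := ⟨_, rfl⟩
  have he₀ : e₀ * e₀ = e₀ := by
    rw [he₀d, ← Matrix.map_mul, EM_idem f g hfg]
  have hkap : (EM f g).map kap = e₀.map Polynomial.C := by
    refine Matrix.ext fun i j => ?_
    rw [he₀d]
    simp only [Matrix.map_apply, kap_apply, Polynomial.coe_evalRingHom]
  refine ⟨fixMod e₀, inferInstance, inferInstance, ⟨?_⟩⟩
  refine equivOfConj (f ∘ₗ sumInlL) (sumElimL ∘ₗ g) ?_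
    (xiL e₀ he₀ ∘ₗ sumInlL) (sumElimL ∘ₗ thetaL e₀) ?_
    (Matrix.mulVecLin V) (Matrix.mulVecLin V') ?_ ?_ ?_
  · refine LinearMap.ext fun x => ?_
    show f (sumInlL (sumElimL (g x))) = x
    rw [sumInlL_sumElimL]; exact LinearMap.congr_fun hfg x
  · refine LinearMap.ext fun x => ?_
    show xiL e₀ he₀ (sumInlL (sumElimL (thetaL e₀ x))) = x
    rw [sumInlL_sumElimL, xi_theta]
  · rw [← Matrix.mulVecLin_mul, hVV', Matrix.mulVecLin_one]
  · rw [← Matrix.mulVecLin_mul, hV'V, Matrix.mulVecLin_one]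
  · refine LinearMap.ext fun u => ?_
    show V.mulVec (sumElimL (g (f (sumInlL u)))) =
      sumElimL (thetaL e₀ (xiL e₀ he₀ (sumInlL (V.mulVec u))))
    rw [← EM_mulVec, ← fromBlocks_mulVec_eq, theta_xi, ← hkap, ← fromBlocks_mulVec_eq,
      Matrix.mulVec_mulVec, Matrix.mulVec_mulVec, hconj]

end final

section converse
variable {A : Type u} [CommRing A] {P : Type v} [AddCommGroup P] [Module A P]

instance laurentTower : IsScalarTower A A[X] A[T;T⁻¹] :=
  IsScalarTower.of_algebraMap_eq fun a => by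
    rw [LaurentPolynomial.algebraMap_eq_toLaurent, Polynomial.algebraMap_eq, Polynomial.toLaurent_C,
      LaurentPolynomial.C_eq_algebraMap]

/-- `t ↦ t⁻¹` on `A[t,t⁻¹] ⊗ P` -/
noncomputable def invT : A[T;T⁻¹] ⊗[A] P →ₗ[A] A[T;T⁻¹] ⊗[A] P :=
  TensorProduct.map (LaurentPolynomial.invert (R := A)).toLinearMap LinearMap.id

lemma invT_tmul (a : A[T;T⁻¹]) (p : P) : invT (a ⊗ₜ[A] p) = invert a ⊗ₜ p := rfl

lemma invT_smul (a : A[T;T⁻¹]) (y : A[T;T⁻¹] ⊗[A] P) : invT (a • y) = invert a • invT y := by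
  induction y using TensorProduct.induction_on with
  | zero => simp
  | add x y hx hy => rw [smul_add, map_add, hx, hy, map_add, smul_add]
  | tmul b p =>
    rw [TensorProduct.smul_tmul', invT_tmul, invT_tmul, TensorProduct.smul_tmul', smul_eq_mul,
      smul_eq_mul, map_mul]

lemma invT_invT (y : A[T;T⁻¹] ⊗[A] P) : invT (invT y) = y := by
  induction y using TensorProduct.induction_on with
  | zero => simp
  | add x y hx hy => rw [map_add, map_add, hx, hy]
  | tmul b p =>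
    rw [invT_tmul, invT_tmul]
    congr 1
    exact involutive_invert b

theorem extends_of_extended {M : Type u} [AddCommGroup M] [Module A[X] M]
    (iso : M ≃ₗ[A[X]] A[X] ⊗[A] P) :
    ∃ e : (A[T;T⁻¹] ⊗[A[X]] M) →ₛₗ[(LaurentPolynomial.invert (R := A)).toRingEquiv.toRingHom]
      (A[T;T⁻¹] ⊗[A[X]] M), Function.Bijective e := by
  obtain ⟨ε, -⟩ : ∃ ε : A[T;T⁻¹] ⊗[A[X]] M ≃ₗ[A[T;T⁻¹]] A[T;T⁻¹] ⊗[A] P, ε = ε :=
    ⟨(TensorProduct.AlgebraTensorModule.congr (LinearEquiv.refl A[T;T⁻¹] A[T;T⁻¹]) iso) ≪≫ₗ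
      TensorProduct.AlgebraTensorModule.cancelBaseChange A A[X] A[T;T⁻¹] A[T;T⁻¹] P, rfl⟩
  refine ⟨{ toFun := fun x => ε.symm (invT (ε x))
            map_add' := fun x y => by rw [map_add, map_add, map_add]
            map_smul' := fun a x => by
              rw [map_smul, invT_smul, map_smul]
              rfl }, ?_⟩
  apply Function.Involutive.bijective
  intro x
  show ε.symm (invT (ε (ε.symm (invT (ε x))))) = x
  rw [LinearEquiv.apply_symm_apply, invT_invT, LinearEquiv.symm_apply_apply]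

end converse

end Groth.Agent.Lib.Lead.Hor
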